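import Mathlib
set_option linter.all false

/-!
# Semilinear bijections of `ι → F` and matrices (helper198)

* `exists_gl` : a `σ`-semilinear bijection `T` is `v ↦ g *ᵥ (σ ∘ v)`, `g` invertible;
* `conj_mulVec` : `s' = g σ(s) g⁻¹` implies `s' (g σ(v)) = g σ(s v)`;
* `eq_conj` : the converse.
-/

set_option autoImplicit false

namespace Cfsg.Agent.H198.SemiMat

open Matrix

variable {ι : Type*} [Fintype ι] [DecidableEq ι] {F : Type*} [Field F]

/-- A semilinear bijection of `ι → F` is `v ↦ g *ᵥ (σ ∘ v)`. -/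
theorem exists_gl (σ : F ≃+* F) (T : (ι → F) → (ι → F)) (hT : Function.Bijective T)
    (hadd : ∀ u v, T (u + v) = T u + T v) (hs : ∀ (c : F) v, T (c • v) = σ c • T v) :
    ∃ g : GL ι F, ∀ v, T v = (g : Matrix ι ι F) *ᵥ (fun i => σ (v i)) := by
  let L : (ι → F) →ₗ[F] (ι → F) :=
    { toFun := fun v => T (fun i => σ.symm (v i))
      map_add' := fun u v => by
        rw [← hadd]
        congr 1
        funext i
        simp
      map_smul' := fun c v => by
        have h1 : (fun i => σ.symm ((c • v) i)) = σ.symm c • fun i => σ.symm (v i) := by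
          funext i
          simp
        rw [h1, hs, RingEquiv.apply_symm_apply, RingHom.id_apply] }
  have hL : Function.Bijective L := by
    have h1 : Function.Bijective (fun v : ι → F => fun i => σ.symm (v i)) := by
      constructor
      · intro u v h
        funext i
        exact σ.symm.injective (congrFun h i)
      · intro v
        exact ⟨fun i => σ (v i), by funext i; simp⟩
    exact hT.comp h1
  let e := LinearEquiv.ofBijective L hL
  refine ⟨⟨LinearMap.toMatrix' e.toLinearMap, LinearMap.toMatrix' e.symm.toLinearMap, ?_, ?_⟩,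
    fun v => ?_⟩
  · rw [← LinearMap.toMatrix'_comp, LinearEquiv.comp_coe, LinearEquiv.symm_trans_self]
    exact LinearMap.toMatrix'_id
  · rw [← LinearMap.toMatrix'_comp, LinearEquiv.comp_coe, LinearEquiv.self_trans_symm]
    exact LinearMap.toMatrix'_id
  · change T v = LinearMap.toMatrix' e.toLinearMap *ᵥ _
    rw [← Matrix.toLin'_apply, Matrix.toLin'_toMatrix']
    change T v = T (fun i => σ.symm (σ (v i)))
    congr 1
    funext i
    simp


omit [DecidableEq ι] in
theorem map_mulVec (σ : F ≃+* F) (s : Matrix ι ι F) (v : ι → F) :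
    (s.map σ) *ᵥ (fun i => σ (v i)) = fun i => σ ((s *ᵥ v) i) := by
  funext i
  simp [Matrix.mulVec, dotProduct, map_sum, map_mul]

theorem conj_mulVec {g : GL ι F} {σ : F ≃+* F} {s s' : Matrix ι ι F}
    (h : s' = (g : Matrix ι ι F) * s.map σ * ((g⁻¹ : GL ι F) : Matrix ι ι F)) (v : ι → F) :
    s' *ᵥ ((g : Matrix ι ι F) *ᵥ fun i => σ (v i)) =
      (g : Matrix ι ι F) *ᵥ fun i => σ ((s *ᵥ v) i) := by
  rw [h, mulVec_mulVec, Matrix.mul_assoc, ← Units.val_mul, inv_mul_cancel, Units.val_one,
    Matrix.mul_one, ← mulVec_mulVec, map_mulVec]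

theorem eq_conj {g : GL ι F} {σ : F ≃+* F} {s s' : Matrix ι ι F}
    (h : ∀ v : ι → F, s' *ᵥ ((g : Matrix ι ι F) *ᵥ fun i => σ (v i)) =
      (g : Matrix ι ι F) *ᵥ fun i => σ ((s *ᵥ v) i)) :
    s' = (g : Matrix ι ι F) * s.map σ * ((g⁻¹ : GL ι F) : Matrix ι ι F) := by
  have h1 : s' * (g : Matrix ι ι F) = (g : Matrix ι ι F) * s.map σ := by
    rw [← Matrix.mulVec_injective.eq_iff]
    funext v
    have h2 := h (fun i => σ.symm (v i))
    have h3 : (fun i => σ (σ.symm (v i))) = v := by funext i; simp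
    rw [← map_mulVec] at h2
    simp only [h3, mulVec_mulVec] at h2
    exact h2
  rw [← h1, Matrix.mul_assoc, ← Units.val_mul, mul_inv_cancel, Units.val_one, Matrix.mul_one]

end Cfsg.Agent.H198.SemiMat
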