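import Mathlib
import Cfsg.Prelude.Def_LieTypeDatum
import Cfsg.Agent.ClassicalGeometry.SympAutOddA
import Cfsg.Agent.ClassicalGeometry.SympAutExists
import Cfsg.Agent.H198.SemiMat
set_option linter.all false

/-!
# Automorphisms of `PSp m F` are induced by semisimilitudes (helper198)

* `exists_pair` : every automorphism of `PSp m F` (`F` finite, `m ≥ 3`, or `m = 2` and `F` odd) is induced by
  `v ↦ g σ(v)` with `g` in `GSp m F`;
* `gamma_eq_top` : `gammaPSp m F = ⊤`.
-/

set_option autoImplicit false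

namespace Cfsg.Agent.H198.SympGamma

open Matrix Cfsg.Agent.H198.SemiMat Cfsg.Agent.ClassicalGeometry.SympAutSemi

universe u

variable {F : Type u} [Field F] {m : ℕ}

/-- `sympForm` and field automorphisms. -/
theorem sympForm_map (σ : F ≃+* F) (u v : Fin m ⊕ Fin m → F) :
    sympForm m F (fun i => σ (u i)) (fun i => σ (v i)) = σ (sympForm m F u v) := by
  have h1 : (J (Fin m) F).map σ = J (Fin m) F := by
    ext i j
    rcases i with i | i <;> rcases j with j | j <;>
      simp [J, Matrix.one_apply, apply_ite (fun x => σ x)]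
  have h2 := map_mulVec σ (J (Fin m) F) v
  rw [h1] at h2
  simp only [sympForm]
  rw [h2]
  simp [dotProduct, map_sum, map_mul]

/-- The automorphism induced by a semisimilitude, with matrices. -/
theorem exists_pair_Psi (g : semiSim m F) :
    ∃ (A : GL (Fin m ⊕ Fin m) F) (σ : F ≃+* F), A ∈ GSp m F ∧
      (∀ v, g.1 v = (A : Matrix _ _ F) *ᵥ fun i => σ (v i)) ∧
      IsInducedBySemilinearPSp A σ (Psi m F g) := by
  obtain ⟨σ, l, hl, ha, hs, hf⟩ := g.2
  obtain ⟨A, hA⟩ := exists_gl σ g.1 g.1.bijective ha hs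
  refine ⟨A, σ, ⟨Units.mk0 l hl, fun u v => ?_⟩, hA, fun s s' hss => ?_⟩
  · have h1 := hf (fun i => σ.symm (u i)) (fun i => σ.symm (v i))
    rw [hA, hA, ← sympForm_map] at h1
    simp only [RingEquiv.apply_symm_apply] at h1
    exact h1
  · rw [Psi_mk]
    congr 1
    apply rho_injective
    ext1 v
    obtain ⟨v, rfl⟩ := g.1.surjective v
    rw [rho_conjHom, Equiv.Perm.mul_apply, Equiv.Perm.mul_apply, perm_inv_apply_self, rho_apply,
      rho_apply, hA, hA]
    exact (conj_mulVec hss v).symm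

/-- Every automorphism of `PSp m F` is induced by a semisimilitude. -/
theorem exists_pair [Finite F] (hm : 2 ≤ m) (h : 3 ≤ m ∨ (2 : F) ≠ 0) (α : MulAut (PSp m F)) :
    ∃ (A : GL (Fin m ⊕ Fin m) F) (σ : F ≃+* F), A ∈ GSp m F ∧ IsInducedBySemilinearPSp A σ α := by
  obtain ⟨g, rfl⟩ := ClassicalGeometry.SympAutExists.exists_semi hm α
    (ClassicalGeometry.SympAutOddA.recog hm h α)
  obtain ⟨A, σ, hA, -, h⟩ := exists_pair_Psi g
  exact ⟨A, σ, hA, h⟩

theorem gamma_eq_top [Finite F] (hm : 2 ≤ m) (h : 3 ≤ m ∨ (2 : F) ≠ 0) : gammaPSp m F = ⊤ := by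
  rw [eq_top_iff]
  intro α _
  exact Subgroup.subset_closure (exists_pair hm h α)

end Cfsg.Agent.H198.SympGamma
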