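import Mathlib
import Cfsg.Prelude.Def_LieTypeDatum
import Cfsg.Agent.AutOrth.Main
import Cfsg.Agent.H198.SemiMat
set_option linter.all false

/-!
# Automorphisms of `POmega F Q` induced by semisimilarities lie in `gammaPOmega` (helper198)

* `exists_pair` : an automorphism with `AutOrth.Main.Ind` is induced by a semisimilarity pair `(g, σ)`;
* `gamma_eq_top` : if all automorphisms are, then `gammaPOmega F Q = ⊤`;
* `gamma_odd`, `gamma_plus`, `gamma_minus`.
-/

set_option autoImplicit false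

namespace Cfsg.Agent.H198.OrthGamma

open Matrix Cfsg.Agent.H198.SemiMat

universe u

variable {ι : Type} [Fintype ι] [DecidableEq ι] {F : Type u} [Field F]

/-- An automorphism induced by a semisimilarity is induced by a semisimilarity pair. -/
theorem exists_pair {Q : (ι → F) → F} {α : MulAut (POmega F Q)}
    (h : AutOrth.Main.Ind Q α) :
    ∃ (g : GL ι F) (σ : F ≃+* F), IsSemisimilarityPair Q g σ ∧
      IsInducedBySemilinearPOmega Q g σ α := by
  obtain ⟨σ, μ, T, ⟨hμ, hs, hQ⟩, hT⟩ := h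
  obtain ⟨g, hg⟩ := exists_gl σ T T.bijective (fun u v => map_add T u v) hs
  refine ⟨g, σ, ⟨Units.mk0 μ hμ, fun v => ?_⟩, fun s s' hss => hT s s' fun v => ?_⟩
  · rw [← hg, hQ]; rfl
  · rw [hg, hg]
    exact conj_mulVec hss v

theorem gamma_eq_top {Q : (ι → F) → F} (h : ∀ α : MulAut (POmega F Q), AutOrth.Main.Ind Q α) :
    gammaPOmega F Q = ⊤ := by
  rw [eq_top_iff]
  intro α _
  exact Subgroup.subset_closure (exists_pair (h α))

theorem gamma_odd [Finite F] {m : ℕ} (hm : 3 ≤ m) (h2 : (2 : F) ≠ 0) :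
    gammaPOmega F (quadFormOdd m F) = ⊤ :=
  gamma_eq_top (AutOrth.Main.all_odd hm h2)

theorem gamma_plus [Finite F] {m : ℕ} (hm : 5 ≤ m) : gammaPOmega F (quadFormPlus m F) = ⊤ :=
  gamma_eq_top (AutOrth.Main.all_plus hm)

theorem gamma_minus [Finite F] {m : ℕ} (hm : 3 ≤ m) {a b : F}
    (hab : ∀ z₁ z₂ : F, z₁ ^ 2 + a * z₁ * z₂ + b * z₂ ^ 2 = 0 → z₁ = 0 ∧ z₂ = 0) :
    gammaPOmega F (quadFormMinus m F a b) = ⊤ :=
  gamma_eq_top (AutOrth.Main.all_minus hm hab)

end Cfsg.Agent.H198.OrthGamma
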