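import Mathlib
import Cfsg.Agent.H198.Classes
import Cfsg.Agent.FooteOrth.Spin
import Cfsg.Agent.ClassicalGeometry.QuadPlusBasic
set_option linter.all false

/-!
# `kappa` and determinants; the form `Σ xᵢ yᵢ` (helper198)

* `kappa_conj` : `kappa` and an isometry `e : (V, Q) ≃ (V', Q')`; `neutral_of_isometry`;
* `neutral_plus : Neutral (plusForm m F) m`;
* `sgn_kappa`, `sgn_kappa_iso` : `Good Q`, `g` an isometry: `kappa g` is the sign with image `det g` in `F`;
* `mu hG : Sim Q →* Fˣ` the multiplier, `dt` the determinant; `sgn_kappa_mul : sgn (kappa g) * mu g ^ m = dt g`;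
* `kappa_plus_iff` : `Q = plusForm m F`, odd characteristic: `kappa g = 1 ↔ dt g = mu g ^ m`.
-/

set_option autoImplicit false

namespace Cfsg.Agent.H198.ClassesPlus

open Module Matrix QuadraticMap Cfsg.Agent.LieClassical.OrthCore Cfsg.Agent.LieClassical.OrthTrans
  Cfsg.Agent.ClassicalGeometry.OrthSemi Cfsg.Agent.H198.Classes Cfsg.Agent.H198.OrthFrame
  Cfsg.Agent.LieClassical.QuadForms

universe u

/-! ### Transport along an isometry -/

section Transport

variable {F V V' : Type*} [Field F] [AddCommGroup V] [Module F V] [AddCommGroup V'] [Module F V']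
  {Q : QuadraticForm F V} {Q' : QuadraticForm F V'} {m : ℕ}

theorem lag_comap (e : V ≃ₗ[F] V') (he : ∀ v, Q' (e v) = Q v) {U : Submodule F V'}
    (hU : Lag Q' m U) : Lag Q m (U.comap e.toLinearMap) := by
  refine ⟨?_, fun w hw => ?_⟩
  · rw [← hU.1]
    exact (e.ofSubmodule' U).finrank_eq
  · rw [← he]
    exact hU.2 _ hw

theorem neutral_of_isometry (e : V ≃ₗ[F] V') (he : ∀ v, Q' (e v) = Q v) (h : Neutral Q' m) :
    Neutral Q m := by
  have hfd := h.fd
  have hpol : ∀ x y, polar Q' (e x) (e y) = polar Q x y := fun x y => by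
    rw [polar, polar, ← map_add, he, he, he]
  refine ⟨fun x hx => ?_, Module.Finite.equiv e.symm, by rw [e.finrank_eq, h.dim], ?_⟩
  · have h1 : e x = 0 := h.nondeg _ fun y => by
      obtain ⟨y, rfl⟩ := e.surjective y
      rw [hpol, hx]
    exact e.map_eq_zero_iff.1 h1
  · obtain ⟨U, hU⟩ := h.ex
    exact ⟨_, lag_comap e he hU⟩

theorem mem_Gam_conj (e : V ≃ₗ[F] V') (he : ∀ v, Q' (e v) = Q v) (M : Gam Q) :
    (e.toEquiv.symm.trans ((M.1 : V ≃ V).trans e.toEquiv) : Equiv.Perm V') ∈ Gam Q' := by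
  obtain ⟨σ, c, hM⟩ := M.2
  have he' : ∀ v, Q (e.symm v) = Q' v := fun v => by rw [← he, e.apply_symm_apply]
  refine ⟨σ, c, hM.ne, fun u v => ?_, fun a v => ?_, fun v => ?_⟩
  · change e (M.1 (e.symm (u + v))) = e (M.1 (e.symm u)) + e (M.1 (e.symm v))
    rw [map_add, hM.add, map_add]
  · change e (M.1 (e.symm (a • v))) = σ a • e (M.1 (e.symm v))
    rw [map_smul, hM.smul, map_smul]
  · change Q' (e (M.1 (e.symm v))) = _
    rw [he, hM.form, he']

/-- Conjugation by an isometry. -/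
def conjGam (e : V ≃ₗ[F] V') (he : ∀ v, Q' (e v) = Q v) (M : Gam Q) : Gam Q' :=
  ⟨_, mem_Gam_conj e he M⟩

theorem conjGam_apply (e : V ≃ₗ[F] V') (he : ∀ v, Q' (e v) = Q v) (M : Gam Q) (v : V) :
    (conjGam e he M).1 (e v) = e (M.1 v) := by
  change e (M.1 (e.symm (e v))) = _
  rw [e.symm_apply_apply]

theorem kappa_conj (e : V ≃ₗ[F] V') (he : ∀ v, Q' (e v) = Q v) (h : Neutral Q m)
    (h' : Neutral Q' m) (M : Gam Q) : kappa h' (conjGam e he M) = kappa h M := by
  have hb := lag_base h'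
  have h1 := lag_comap e he hb
  rw [← kappa_eq h M h1, ← kappa_eq h' (conjGam e he M) hb, par, par]
  congr 2
  have h2 : img M ((base h').comap e.toLinearMap) ⊓ (base h').comap e.toLinearMap =
      (img (conjGam e he M) (base h') ⊓ base h').comap e.toLinearMap := by
    rw [Submodule.comap_inf]
    congr 1
    ext v
    rw [mem_img, Submodule.mem_comap, mem_img]
    constructor
    · rintro ⟨u, hu, rfl⟩
      exact ⟨e u, hu, conjGam_apply e he M u⟩
    · rintro ⟨w, hw, hwv⟩
      obtain ⟨u, rfl⟩ := e.surjective w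
      rw [conjGam_apply] at hwv
      exact ⟨u, hw, e.injective hwv⟩
  rw [h2]
  exact ((e.ofSubmodule' _).finrank_eq).symm

end Transport

/-! ### Isometries in odd characteristic -/

section Coord

variable {ι : Type} [Fintype ι] [DecidableEq ι] {F : Type u} [Field F]
  {Q : QuadraticForm F (ι → F)} {m : ℕ}

/-- The sign of `ℤˣ` in `Fˣ`. -/
def sgn (F : Type u) [Field F] : ℤˣ →* Fˣ := Units.map (Int.castRingHom F).toMonoidHom

theorem sgn_neg_one : sgn F (-1) = -1 := by
  apply Units.ext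
  simp [sgn]

theorem sgn_eq_one_iff (h2 : (2 : F) ≠ 0) {x : ℤˣ} : sgn F x = 1 ↔ x = 1 := by
  constructor
  · intro h
    rcases Int.units_eq_one_or x with h1 | h1
    · exact h1
    · rw [h1, sgn_neg_one] at h
      exact absurd h (ClassicalGeometry.OmegaIndex.neg_one_ne_one_units h2)
  · rintro rfl
    exact map_one _

omit [Fintype ι] [DecidableEq ι] in
theorem det_of_E (hG : Good Q) {g : (ι → F) ≃ₗ[F] (ι → F)} (hg : g ∈ E Q) :
    LinearEquiv.det g = 1 := by
  let f : E Q →* Fˣ := LinearEquiv.det.comp (E Q).subtype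
  have h1 : ∀ x : E Q, f x = 1 := by
    intro x
    have h2 : x ∈ commutator (E Q) := by rw [commutator_E hG]; exact Subgroup.mem_top x
    exact (Abelianization.commutator_subset_ker f) h2
  exact h1 ⟨g, hg⟩

/-- `kappa` of an isometry is its determinant. -/
theorem sgn_kappa (hG : Good Q) (h : Neutral Q m) {g : (ι → F) ≃ₗ[F] (ι → F)}
    (hg : g ∈ O Q) : sgn F (kappa h (gamO Q ⟨g, hg⟩)) = LinearEquiv.det g := by
  have key : ∀ x ∈ Subgroup.closure (reflSet Q ∪ siegelSet Q), ∀ hx : x ∈ O Q,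
      sgn F (kappa h (gamO Q ⟨x, hx⟩)) = LinearEquiv.det x := by
    have hO : Subgroup.closure (reflSet Q ∪ siegelSet Q) = O Q := (O_eq_closure hG.nondeg).symm
    intro x hx
    induction hx using Subgroup.closure_induction with
    | mem x hx =>
      intro hxO
      rcases hx with ⟨v, hv, rfl⟩ | hx
      · rw [kappa_refl h hv, sgn_neg_one, FooteOrth.det_refl hv]
      · have h1 : x ∈ E Q := Subgroup.subset_closure hx
        rw [det_of_E hG h1, kappa_of_E hG h h1, map_one]
    | one =>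
      intro hxO
      have : (⟨1, hxO⟩ : O Q) = 1 := rfl
      rw [this, map_one, map_one, map_one, map_one]
    | mul x y hx hy ihx ihy =>
      intro hxO
      have h1 : x ∈ O Q := by rw [← hO]; exact hx
      have h2 : y ∈ O Q := by rw [← hO]; exact hy
      have : (⟨x * y, hxO⟩ : O Q) = ⟨x, h1⟩ * ⟨y, h2⟩ := rfl
      rw [this, map_mul, map_mul, map_mul, ihx h1, ihy h2, map_mul]
    | inv x hx ih =>
      intro hxO
      have h1 : x ∈ O Q := by rw [← hO]; exact hx
      have : (⟨x⁻¹, hxO⟩ : O Q) = (⟨x, h1⟩ : O Q)⁻¹ := rfl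
      rw [this, map_inv, map_inv, map_inv, ih h1, map_inv]
  exact key g (by rw [← O_eq_closure hG.nondeg]; exact hg) hg

/-! ### Multipliers -/

omit [Fintype ι] [DecidableEq ι] in
theorem exists_ne_zero_of_good (hG : Good Q) : ∃ v, Q v ≠ 0 := by
  obtain ⟨x, y, h⟩ := hG.exists_hyp
  refine ⟨x + y, ?_⟩
  rw [Q_add, h.left, h.right, h.pair]
  simp

/-- The multiplier of a similarity. -/
noncomputable def mult (g : Sim Q) : Fˣ := Classical.choose g.2

theorem mult_spec (g : Sim Q) (v : ι → F) :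
    Q (((g : GL ι F) : Matrix ι ι F) *ᵥ v) = (mult g : F) * Q v :=
  Classical.choose_spec g.2 v

theorem mult_unique (hG : Good Q) (g : Sim Q) {c : Fˣ}
    (h : ∀ v : ι → F, Q (((g : GL ι F) : Matrix ι ι F) *ᵥ v) = (c : F) * Q v) : mult g = c := by
  obtain ⟨v, hv⟩ := exists_ne_zero_of_good hG
  apply Units.ext
  have h1 := mult_spec g v
  rw [h] at h1
  exact (mul_right_cancel₀ hv h1).symm

/-- The multiplier as a homomorphism. -/
noncomputable def mu (hG : Good Q) : Sim Q →* Fˣ where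
  toFun := mult
  map_one' := mult_unique hG 1 fun v => by
    rw [Units.val_one, one_mul]
    change Q ((1 : Matrix ι ι F) *ᵥ v) = Q v
    rw [one_mulVec]
  map_mul' g h := mult_unique hG (g * h) fun v => by
    change Q ((((g : GL ι F) : Matrix ι ι F) * ((h : GL ι F) : Matrix ι ι F)) *ᵥ v) = _
    rw [← mulVec_mulVec, mult_spec, mult_spec, Units.val_mul, mul_assoc]

theorem mu_spec (hG : Good Q) (g : Sim Q) (v : ι → F) :
    Q (((g : GL ι F) : Matrix ι ι F) *ᵥ v) = (mu hG g : F) * Q v := mult_spec g v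

theorem mu_unique (hG : Good Q) (g : Sim Q) {c : Fˣ}
    (h : ∀ v : ι → F, Q (((g : GL ι F) : Matrix ι ι F) *ᵥ v) = (c : F) * Q v) : mu hG g = c :=
  mult_unique hG g h

theorem mu_eq_one_iff (hG : Good Q) (g : Sim Q) :
    mu hG g = 1 ↔ (g : GL ι F) ∈ isometryGroup F ⇑Q := by
  constructor
  · intro h u _
    change Q (((g : GL ι F) : Matrix ι ι F) *ᵥ u) = Q u
    rw [mu_spec hG, h, Units.val_one, one_mul]
  · intro h
    exact mu_unique hG g fun v => by rw [Units.val_one, one_mul]; exact h v v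

/-- The determinant of a similarity. -/
def dt : Sim Q →* Fˣ := (Matrix.GeneralLinearGroup.det (n := ι) (R := F)).comp (Sim Q).subtype

theorem dt_apply (g : Sim Q) : ((dt g : Fˣ) : F) = ((g : GL ι F) : Matrix ι ι F).det := rfl

/-- An isometry in the group of similarities, as a linear map. -/
theorem exists_O_of_iso (g : Sim Q) (hg : (g : GL ι F) ∈ isometryGroup F ⇑Q) :
    ∃ x : (ι → F) ≃ₗ[F] (ι → F), ∃ hx : x ∈ O Q, gamO Q ⟨x, hx⟩ = simGam Q g ∧
      LinearEquiv.det x = dt g := by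
  refine ⟨(LieClassical.OrthFinite.isometryEquiv Q ⟨g, hg⟩ : (ι → F) ≃ₗ[F] (ι → F)),
    (LieClassical.OrthFinite.isometryEquiv Q ⟨g, hg⟩).2, ?_, ?_⟩
  · apply Subtype.ext
    ext1 v
    rfl
  · apply Units.ext
    rw [FooteOrth.det_isometryEquiv, dt_apply]

/-- `kappa` of an isometry given by a matrix. -/
theorem sgn_kappa_iso (hG : Good Q) (h : Neutral Q m) (g : Sim Q)
    (hg : (g : GL ι F) ∈ isometryGroup F ⇑Q) : sgn F (kappa h (simGam Q g)) = dt g := by
  obtain ⟨x, hx, h1, h2⟩ := exists_O_of_iso g hg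
  rw [← h1, sgn_kappa hG h hx, h2]

/-- `kappa` and the determinant, in the presence of standard similarities. -/
theorem sgn_kappa_mul (hG : Good Q) (h : Neutral Q m)
    (H : ∀ c : Fˣ, ∃ k : Sim Q, mu hG k = c ∧ dt k = c ^ m ∧ kappa h (simGam Q k) = 1)
    (g : Sim Q) : sgn F (kappa h (simGam Q g)) * mu hG g ^ m = dt g := by
  obtain ⟨k, h1, h2, h3⟩ := H (mu hG g)
  have h4 : mu hG (g * k⁻¹) = 1 := by rw [map_mul, map_inv, h1, mul_inv_cancel]
  have h5 := sgn_kappa_iso hG h (g * k⁻¹) ((mu_eq_one_iff hG _).1 h4)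
  rw [map_mul, map_mul, map_inv, map_inv, h3, inv_one, mul_one, map_mul, map_inv, h2] at h5
  rw [h5, inv_mul_cancel_right]

/-! ### The plus form -/

theorem neutral_plus (m : ℕ) (F : Type*) [Field F] : Neutral (plusForm m F) m := by
  refine ⟨fun x hx => polar_plusForm_nondeg m x hx, inferInstance,
    ClassicalGeometry.QuadPlusBasic.finrank_space m F,
    ClassicalGeometry.QuadPlusBasic.stdX m F, ClassicalGeometry.QuadPlusBasic.finrank_stdX m F,
    fun w hw => ?_⟩
  rw [coe_plusForm]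
  exact ClassicalGeometry.QuadPlusBasic.quadFormPlus_stdX m F w hw

/-- The diagonal similarity with entries `c` on the `xᵢ` and `1` on the `yᵢ`. -/
def dg (m : ℕ) {F : Type*} [Field F] (c : Fˣ) : GL (Fin m ⊕ Fin m) F :=
  ⟨Matrix.diagonal (Sum.elim (fun _ => (c : F)) fun _ => 1),
    Matrix.diagonal (Sum.elim (fun _ => ((c⁻¹ : Fˣ) : F)) fun _ => 1), by
      rw [Matrix.diagonal_mul_diagonal, ← Matrix.diagonal_one]
      congr 1
      funext i
      rcases i with i | i <;> simp, by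
      rw [Matrix.diagonal_mul_diagonal, ← Matrix.diagonal_one]
      congr 1
      funext i
      rcases i with i | i <;> simp⟩

theorem dg_mulVec_inl (m : ℕ) (c : Fˣ) (v : Fin m ⊕ Fin m → F) (i : Fin m) :
    ((dg m c : GL (Fin m ⊕ Fin m) F).1 *ᵥ v) (.inl i) = c * v (.inl i) := by
  simp [dg, Matrix.mulVec_diagonal]

theorem dg_mulVec_inr (m : ℕ) (c : Fˣ) (v : Fin m ⊕ Fin m → F) (i : Fin m) :
    ((dg m c : GL (Fin m ⊕ Fin m) F).1 *ᵥ v) (.inr i) = v (.inr i) := by
  simp [dg, Matrix.mulVec_diagonal]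

theorem plusForm_dg (m : ℕ) (c : Fˣ) (v : Fin m ⊕ Fin m → F) :
    plusForm m F ((dg m c : GL (Fin m ⊕ Fin m) F).1 *ᵥ v) = c * plusForm m F v := by
  rw [plusForm_apply, plusForm_apply, Finset.mul_sum]
  apply Finset.sum_congr rfl
  intro i _
  rw [dg_mulVec_inl, dg_mulVec_inr, mul_assoc]

theorem dg_mem_sim (m : ℕ) (c : Fˣ) : (dg m c : GL (Fin m ⊕ Fin m) F) ∈ Sim (plusForm m F) :=
  ⟨c, plusForm_dg m c⟩

theorem dt_dg (m : ℕ) (c : Fˣ) :
    dt (⟨dg m c, dg_mem_sim m c⟩ : Sim (plusForm m F)) = c ^ m := by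
  apply Units.ext
  rw [dt_apply]
  change (Matrix.diagonal (Sum.elim (fun _ => (c : F)) fun _ => 1)).det = _
  rw [Matrix.det_diagonal, Fintype.prod_sum_type]
  simp

theorem kappa_dg (m : ℕ) (c : Fˣ) :
    kappa (neutral_plus m F) (simGam _ ⟨dg m c, dg_mem_sim m c⟩) = 1 := by
  have hU : Lag (plusForm m F) m (ClassicalGeometry.QuadPlusBasic.stdX m F) :=
    ⟨ClassicalGeometry.QuadPlusBasic.finrank_stdX m F, fun w hw => by
      rw [coe_plusForm]
      exact ClassicalGeometry.QuadPlusBasic.quadFormPlus_stdX m F w hw⟩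
  rw [← kappa_eq (neutral_plus m F) _ hU]
  have h1 : img (simGam _ ⟨dg m c, dg_mem_sim m c⟩) (ClassicalGeometry.QuadPlusBasic.stdX m F) =
      ClassicalGeometry.QuadPlusBasic.stdX m F := by
    have h2 : img (simGam _ ⟨dg m c, dg_mem_sim m c⟩)
        (ClassicalGeometry.QuadPlusBasic.stdX m F) ≤ ClassicalGeometry.QuadPlusBasic.stdX m F := by
      rintro _ ⟨u, hu, rfl⟩
      rw [ClassicalGeometry.QuadPlusBasic.mem_stdX]
      intro i
      rw [simGam_apply]
      exact (dg_mulVec_inr m c u i).trans (hu i)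
    exact Submodule.eq_of_le_of_finrank_eq h2 (finrank_img _ _)
  rw [h1, par_self hU]

theorem exists_std_plus {m : ℕ} (hG : Good (plusForm m F)) (c : Fˣ) :
    ∃ k : Sim (plusForm m F), mu hG k = c ∧ dt k = c ^ m ∧
      kappa (neutral_plus m F) (simGam _ k) = 1 :=
  ⟨⟨dg m c, dg_mem_sim m c⟩, mu_unique hG _ (plusForm_dg m c), dt_dg m c, kappa_dg m c⟩

/-- Odd characteristic: the similarities of `Σ xᵢ yᵢ` preserving the classes. -/
theorem kappa_plus_iff {m : ℕ} (hG : Good (plusForm m F)) (h2 : (2 : F) ≠ 0)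
    (g : Sim (plusForm m F)) :
    kappa (neutral_plus m F) (simGam _ g) = 1 ↔ dt g = mu hG g ^ m := by
  rw [← sgn_kappa_mul hG (neutral_plus m F) (exists_std_plus hG) g, mul_eq_right,
    sgn_eq_one_iff h2]

end Coord

end Cfsg.Agent.H198.ClassesPlus
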