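import Mathlib
import Cfsg.Prelude.Def_LieTypeDatum
import Cfsg.Agent.ClassicalGeometry.PSUAutMain
set_option linter.all false

/-!
# Automorphisms of `PSU n F q` and the Prelude predicates (helper198)

* `toAut_eq_mul` : `toAut A ρ = toAut A 1 * toAut 1 ρ`;
* `isInnerDiag`, `isFieldOf`, `isInduced` : the Prelude predicates for `toAut`.
-/

set_option autoImplicit false

namespace Cfsg.Agent.H198.UnitGamma

open Matrix Cfsg.Agent.LieClassical.HermBasic Cfsg.Agent.LieClassical.HermSiegel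
  Cfsg.Agent.LieClassical.HermGen Cfsg.Agent.LieClassical.SUBasic
  Cfsg.Agent.ClassicalGeometry.PSUAutCount Cfsg.Agent.LieClassical.FieldTransfer

variable {F : Type*} [Field F] {q n : ℕ}

theorem mat_semiConj (A : GU n F q) (ρ : F ≃+* F) (s : SU n F q) :
    mat (semiConj A ρ s) = gm A * (mat s).map ρ * gm A⁻¹ := rfl

theorem mk_toAut (A : GU n F q) (ρ : F ≃+* F) (s : SU n F q) :
    toAut A ρ (QuotientGroup.mk s) = QuotientGroup.mk (semiConj A ρ s) := rfl

theorem isInduced (A : GU n F q) (ρ : F ≃+* F) :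
    IsInducedBySemilinearPSU (A : GL (Fin n) F) ρ (toAut A ρ) := by
  intro s s' h
  rw [mk_toAut]
  congr 1
  apply Subtype.ext
  apply Subtype.ext
  exact h.symm

theorem isInnerDiag (A : GU n F q) : IsInnerDiagonalAutPSU (toAut A (RingEquiv.refl F)) := by
  refine ⟨A, A.2, fun s s' h => isInduced A (RingEquiv.refl F) s s' ?_⟩
  rw [h]
  rfl

theorem isFieldOf (ρ : F ≃+* F) : IsFieldAutPSUOf ρ (toAut (1 : GU n F q) ρ) := by
  intro s s' h
  apply isInduced (1 : GU n F q) ρ s s'
  rw [h]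
  simp

theorem toAut_eq_mul (A : GU n F q) (ρ : F ≃+* F) :
    toAut A ρ = toAut A (RingEquiv.refl F) * toAut 1 ρ := by
  ext x
  obtain ⟨s, rfl⟩ := QuotientGroup.mk_surjective x
  rw [MulAut.mul_apply, mk_toAut, mk_toAut, mk_toAut]
  congr 1
  apply Subtype.ext
  apply Subtype.ext
  change mat (semiConj A ρ s) = mat (semiConj A (RingEquiv.refl F) (semiConj 1 ρ s))
  rw [mat_semiConj, mat_semiConj, mat_semiConj, inv_one, gm_one, Matrix.one_mul, Matrix.mul_one]
  rfl

end Cfsg.Agent.H198.UnitGamma
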