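import Mathlib
import Cfsg.Agent.H198.Carriers
set_option linter.all false

/-!
# The minus form over a quadratic extension (helper198)

`F` finite, `z₁² + a z₁ z₂ + b z₂²` anisotropic over `F`, `K / F` of degree two.

* `exists_roots` : `α, β ∈ K`, `α + β = a`, `α β = b`, `α ≠ β`, `α ∉ F`;
* `exists_ext` : an extension of degree two in the universe of `F`;
* `psi`, `exists_psi` : every `V ∈ K^ι` is `psi u + α • psi w`;
* `extSim` : `Sim Q →* Sim QK` for a form `QK` over `K` extending `Q`;
* `splitEquiv` : isometry of `minusQ m K (α + β) (α β)` with `plusQ (m + 1) K`;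
* `simO : O Q →* Sim Q`.
-/

set_option autoImplicit false

namespace Cfsg.Agent.H198.ExtForm

open Module Matrix QuadraticMap Cfsg.Agent.LieClassical.OrthCore Cfsg.Agent.LieClassical.OrthTrans
  Cfsg.Agent.ClassicalGeometry.OrthSemi Cfsg.Agent.H198.Classes Cfsg.Agent.H198.OrthFrame
  Cfsg.Agent.LieClassical.QuadForms Cfsg.Agent.H198.ClassesPlus Cfsg.Agent.H198.Carriers

universe u

/-- The binary form `z₁² + a z₁ z₂ + b z₂²` is anisotropic. -/
abbrev Aniso {F : Type*} [Field F] (a b : F) : Prop :=
  ∀ z₁ z₂ : F, z₁ ^ 2 + a * z₁ * z₂ + b * z₂ ^ 2 = 0 → z₁ = 0 ∧ z₂ = 0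

section Roots

variable {F : Type u} [Field F] {a b : F}

/-- The polynomial `X² - a X + b`. -/
noncomputable def pol (a b : F) : Polynomial F :=
  Polynomial.X ^ 2 - Polynomial.C a * Polynomial.X + Polynomial.C b

theorem natDegree_pol (a b : F) : (pol a b).natDegree = 2 := by
  unfold pol
  compute_degree!

theorem irreducible_pol (hab : Aniso a b) : Irreducible (pol a b) := by
  apply Polynomial.irreducible_of_degree_le_three_of_not_isRoot
  · rw [natDegree_pol]
    decide
  · intro x hx
    rw [Polynomial.IsRoot.def, pol] at hx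
    simp only [Polynomial.eval_add, Polynomial.eval_sub, Polynomial.eval_pow, Polynomial.eval_X,
      Polynomial.eval_mul, Polynomial.eval_C] at hx
    have := (hab (-x) 1 (by linear_combination hx)).2
    exact one_ne_zero this

theorem exists_ext (hab : Aniso a b) :
    ∃ (K : Type u) (_ : Field K) (_ : Algebra F K), finrank F K = 2 := by
  have := Fact.mk (irreducible_pol hab)
  refine ⟨AdjoinRoot (pol a b), inferInstance, inferInstance, ?_⟩
  rw [← natDegree_pol a b]
  exact finrank_quotient_span_eq_natDegree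

variable {K : Type*} [Field K] [Algebra F K]

theorem exists_roots [Finite F] (hab : Aniso a b) (hK : finrank F K = 2) :
    ∃ α β : K, α + β = algebraMap F K a ∧ α * β = algebraMap F K b ∧ α ≠ β ∧
      ∀ c : F, algebraMap F K c ≠ α := by
  have hirr := irreducible_pol hab
  have := Fact.mk hirr
  obtain ⟨p, hp⟩ := CharP.exists F
  have : Fact p.Prime := ⟨CharP.char_is_prime F p⟩
  have h2 : finrank F (AdjoinRoot (pol a b)) = 2 := by
    rw [← natDegree_pol a b]
    exact finrank_quotient_span_eq_natDegree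
  let e := (FiniteField.algEquivExtension F p 2 (AdjoinRoot (pol a b)) h2).trans
    (FiniteField.algEquivExtension F p 2 K hK).symm
  set α : K := e (AdjoinRoot.root (pol a b)) with hα
  have h1 : α ^ 2 - algebraMap F K a * α + algebraMap F K b = 0 := by
    have h3 : Polynomial.aeval α (pol a b) = 0 :=
      AdjoinRoot.aeval_algHom_eq_zero (pol a b) (e : AdjoinRoot (pol a b) →ₐ[F] K)
    rw [pol] at h3
    simpa using h3
  have hinj := (algebraMap F K).injective
  have h4 : ∀ c : F, algebraMap F K c ≠ α := by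
    intro c hc
    rw [← hc, ← map_pow, ← map_mul, ← map_sub, ← map_add, ← map_zero (algebraMap F K)] at h1
    have h5 := hinj h1
    have := (hab (-c) 1 (by linear_combination h5)).2
    exact one_ne_zero this
  refine ⟨α, algebraMap F K a - α, by ring, by linear_combination -h1, ?_, h4⟩
  intro h5
  by_cases h22 : (2 : F) = 0
  · have hK2 : (2 : K) = 0 := by
      rw [← map_ofNat (algebraMap F K), h22, map_zero]
    have hchar : ringChar F = 2 := by
      have h6 : CharP F 2 := CharTwo.of_one_ne_zero_of_two_eq_zero one_ne_zero h22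
      exact ringChar.eq F 2
    have : Fintype F := Fintype.ofFinite F
    obtain ⟨c, hc⟩ := FiniteField.isSquare_of_char_two hchar b
    apply h4 c
    have h6 : (algebraMap F K c - α) ^ 2 = 0 := by
      have h7 : algebraMap F K b = algebraMap F K c * algebraMap F K c := by rw [hc, map_mul]
      linear_combination α * h5 - h1 + h7 +
        (algebraMap F K c * algebraMap F K c - algebraMap F K c * α) * hK2
    exact sub_eq_zero.1 ((pow_eq_zero_iff two_ne_zero).1 h6)
  · apply h4 (a / 2)
    have hK2 : (2 : K) ≠ 0 := by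
      rw [← map_ofNat (algebraMap F K)]
      exact (map_ne_zero _).2 h22
    rw [map_div₀, map_ofNat, div_eq_iff hK2]
    linear_combination -h5

theorem exists_repr (hK : finrank F K = 2) {α : K} (hα : ∀ c : F, algebraMap F K c ≠ α) (x : K) :
    ∃ s t : F, x = algebraMap F K s + α * algebraMap F K t := by
  let L : F × F →ₗ[F] K :=
    { toFun := fun p => algebraMap F K p.1 + α * algebraMap F K p.2
      map_add' := fun p q => by simp only [Prod.fst_add, Prod.snd_add, map_add]; ring
      map_smul' := fun c p => by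
        rw [Prod.smul_fst, Prod.smul_snd, smul_eq_mul, smul_eq_mul, map_mul, map_mul,
          RingHom.id_apply, Algebra.smul_def]
        ring }
  have : FiniteDimensional F K := Module.finite_of_finrank_pos (by omega)
  have hL : Function.Injective L := by
    rw [← LinearMap.ker_eq_bot, LinearMap.ker_eq_bot']
    rintro ⟨s, t⟩ h
    have h : algebraMap F K s + α * algebraMap F K t = 0 := h
    by_cases ht : t = 0
    · subst ht
      rw [map_zero, mul_zero, add_zero] at h
      have := (map_eq_zero _).1 h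
      rw [this]
      rfl
    · exfalso
      have ht' : algebraMap F K t ≠ 0 := (map_ne_zero _).2 ht
      apply hα (-s / t)
      rw [map_div₀, map_neg, div_eq_iff ht']
      linear_combination -h
  have h1 : finrank F (F × F) = finrank F K := by
    rw [hK, finrank_prod, finrank_self]
  obtain ⟨⟨s, t⟩, h⟩ := (LinearMap.injective_iff_surjective_of_finrank_eq_finrank h1).1 hL x
  exact ⟨s, t, h.symm⟩

end Roots

/-! ### Extension of scalars -/

section Ext

variable {ι : Type} [Fintype ι] [DecidableEq ι] {F K : Type*} [Field F] [Field K] [Algebra F K]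

/-- A vector over `F` as a vector over `K`. -/
def psi (K : Type*) [Field K] [Algebra F K] (u : ι → F) : ι → K := fun i => algebraMap F K (u i)

omit [Fintype ι] [DecidableEq ι] in
theorem psi_add (u w : ι → F) : psi K (u + w) = psi K u + psi K w := by
  funext i
  exact map_add _ _ _

omit [Fintype ι] [DecidableEq ι] in
theorem psi_sub (u w : ι → F) : psi K (u - w) = psi K u - psi K w := by
  funext i
  exact map_sub _ _ _

omit [Fintype ι] [DecidableEq ι] in
theorem psi_smul (c : F) (u : ι → F) : psi K (c • u) = algebraMap F K c • psi K u := by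
  funext i
  exact map_mul _ _ _

omit [DecidableEq ι] in
theorem map_mulVec_psi (g : Matrix ι ι F) (u : ι → F) :
    (g.map (algebraMap F K)) *ᵥ psi K u = psi K (g *ᵥ u) := by
  funext i
  exact (RingHom.map_mulVec (algebraMap F K) g u i).symm

omit [Fintype ι] [DecidableEq ι] in
theorem exists_psi (hK : finrank F K = 2) {α : K} (hα : ∀ c : F, algebraMap F K c ≠ α)
    (V : ι → K) : ∃ u w : ι → F, V = psi K u + α • psi K w := by
  choose s t h using fun i => exists_repr hK hα (V i)
  exact ⟨s, t, funext h⟩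

/-- `QK` extends `Q`. -/
def Extends (Q : QuadraticForm F (ι → F)) (QK : QuadraticForm K (ι → K)) : Prop :=
  ∀ u, QK (psi K u) = algebraMap F K (Q u)

variable {Q : QuadraticForm F (ι → F)} {QK : QuadraticForm K (ι → K)}

omit [Fintype ι] [DecidableEq ι] in
theorem Extends.polar (h : Extends Q QK) (u w : ι → F) :
    polar QK (psi K u) (psi K w) = algebraMap F K (polar Q u w) := by
  rw [QuadraticMap.polar, QuadraticMap.polar, ← psi_add, h, h, h, map_sub, map_sub]

omit [Fintype ι] [DecidableEq ι] in
theorem Extends.form (h : Extends Q QK) (α : K) (u w : ι → F) :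
    QK (psi K u + α • psi K w) = algebraMap F K (Q u) + α * α * algebraMap F K (Q w) +
      α * algebraMap F K (QuadraticMap.polar Q u w) := by
  rw [Q_add, QuadraticMap.map_smul, h, h, polar_smul_right, h.polar]
  rfl

theorem Extends.sim (h : Extends Q QK) (hK : finrank F K = 2) {α : K}
    (hα : ∀ c : F, algebraMap F K c ≠ α) {g : GL ι F} {c : F}
    (hg : ∀ v, Q ((g : Matrix ι ι F) *ᵥ v) = c * Q v) (V : ι → K) :
    QK (((g : Matrix ι ι F).map (algebraMap F K)) *ᵥ V) = algebraMap F K c * QK V := by
  obtain ⟨u, w, rfl⟩ := exists_psi hK hα V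
  have hp : QuadraticMap.polar Q ((g : Matrix ι ι F) *ᵥ u) ((g : Matrix ι ι F) *ᵥ w) =
      c * QuadraticMap.polar Q u w := by
    rw [QuadraticMap.polar, QuadraticMap.polar, ← mulVec_add, hg, hg, hg]
    ring
  rw [mulVec_add, mulVec_smul, map_mulVec_psi, map_mulVec_psi, h.form, h.form, hg, hg, hp]
  simp only [map_mul]
  ring

/-- Extension of scalars on similarities. -/
def extSim (h : Extends Q QK) (hK : finrank F K = 2) {α : K}
    (hα : ∀ c : F, algebraMap F K c ≠ α) : Sim Q →* Sim QK where
  toFun g := ⟨Matrix.GeneralLinearGroup.map (algebraMap F K) g.1, by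
    obtain ⟨c, hc⟩ := g.2
    exact ⟨Units.map (algebraMap F K).toMonoidHom c, fun V => h.sim hK hα hc V⟩⟩
  map_one' := Subtype.ext (map_one _)
  map_mul' g k := Subtype.ext (map_mul _ _ _)

theorem coe_extSim (h : Extends Q QK) (hK : finrank F K = 2) {α : K}
    (hα : ∀ c : F, algebraMap F K c ≠ α) (g : Sim Q) :
    ((extSim h hK hα g : GL ι K) : Matrix ι ι K) =
      ((g : GL ι F) : Matrix ι ι F).map (algebraMap F K) := rfl

theorem dt_extSim {F K : Type u} [Field F] [Field K] [Algebra F K] {Q : QuadraticForm F (ι → F)}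
    {QK : QuadraticForm K (ι → K)} (h : Extends Q QK) (hK : finrank F K = 2) {α : K}
    (hα : ∀ c : F, algebraMap F K c ≠ α) (g : Sim Q) :
    ((dt (extSim h hK hα g) : Kˣ) : K) = algebraMap F K ((dt g : Fˣ) : F) := by
  rw [dt_apply, coe_extSim, dt_apply]
  exact (RingHom.map_det (algebraMap F K) _).symm

/-! ### Isometries as similarities -/

/-- An isometry as a similarity. -/
noncomputable def simO (Q : QuadraticForm F (ι → F)) : O Q →* Sim Q :=
  (Subgroup.inclusion (iso_le_sim Q)).comp
    (LieClassical.OrthFinite.isometryEquiv Q).symm.toMonoidHom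

theorem simO_mulVec (x : O Q) (v : ι → F) :
    ((simO Q x : GL ι F) : Matrix ι ι F) *ᵥ v = (x : (ι → F) ≃ₗ[F] (ι → F)) v := by
  obtain ⟨y, rfl⟩ := (LieClassical.OrthFinite.isometryEquiv Q).surjective x
  change ((((LieClassical.OrthFinite.isometryEquiv Q).symm
    (LieClassical.OrthFinite.isometryEquiv Q y) : isometryGroup F ⇑Q) : GL ι F) :
      Matrix ι ι F) *ᵥ v = _
  rw [MulEquiv.symm_apply_apply]
  rfl

theorem simGam_simO (x : O Q) : simGam Q (simO Q x) = gamO Q x := by
  apply Subtype.ext
  ext1 v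
  exact simO_mulVec x v

theorem exists_simO {g : Sim Q} (hg : (g : GL ι F) ∈ isometryGroup F ⇑Q) : ∃ x, simO Q x = g := by
  refine ⟨LieClassical.OrthFinite.isometryEquiv Q ⟨g.1, hg⟩, ?_⟩
  apply Subtype.ext
  change (((LieClassical.OrthFinite.isometryEquiv Q).symm
    (LieClassical.OrthFinite.isometryEquiv Q ⟨g.1, hg⟩) : isometryGroup F ⇑Q) : GL ι F) = _
  rw [MulEquiv.symm_apply_apply]

/-- The extension of a reflection is the reflection in the same vector. -/
theorem extSim_refl (h : Extends Q QK) (hK : finrank F K = 2) {α : K}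
    (hα : ∀ c : F, algebraMap F K c ≠ α) {v : ι → F} (hv : Q v ≠ 0) (hv' : QK (psi K v) ≠ 0) :
    extSim h hK hα (simO Q ⟨refl Q v hv, refl_mem_O hv⟩) =
      simO QK ⟨refl QK (psi K v) hv', refl_mem_O hv'⟩ := by
  apply simGam_injective
  apply Subtype.ext
  ext1 V
  rw [simGam_apply, simGam_apply, simO_mulVec, coe_extSim, refl_apply]
  obtain ⟨u, w, rfl⟩ := exists_psi hK hα V
  rw [mulVec_add, mulVec_smul, map_mulVec_psi, map_mulVec_psi, simO_mulVec, simO_mulVec,
    refl_apply, refl_apply, psi_sub, psi_sub, psi_smul, psi_smul, polar_add_right,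
    polar_smul_right, h.polar, h.polar, h]
  simp only [map_mul, map_inv₀, smul_eq_mul]
  module

end Ext

/-! ### The split form -/

section Split

variable {K : Type*} [Field K] {m : ℕ} {α β : K}

/-- The linear map `(x, y, z₁, z₂) ↦ ((x, y), z₁ + α z₂, z₁ + β z₂)`. -/
def splitPre (m : ℕ) (α β : K) :
    ((Fin m ⊕ Fin m) ⊕ Fin 2 → K) →ₗ[K] (Fin m ⊕ Fin m → K) × K × K where
  toFun v := (fun i => v (.inl i), v (.inr 0) + α * v (.inr 1), v (.inr 0) + β * v (.inr 1))
  map_add' u v := by
    refine Prod.ext rfl (Prod.ext ?_ ?_) <;>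
    · simp only [Pi.add_apply, Prod.snd_add, Prod.fst_add]
      ring
  map_smul' c v := by
    refine Prod.ext rfl (Prod.ext ?_ ?_) <;>
    · simp only [Pi.smul_apply, Prod.smul_snd, Prod.smul_fst, smul_eq_mul, RingHom.id_apply]
      ring

/-- The linear map `(x, y, z₁, z₂) ↦ (x, y, z₁ + α z₂, z₁ + β z₂)`. -/
def splitMap (m : ℕ) (α β : K) :
    ((Fin m ⊕ Fin m) ⊕ Fin 2 → K) →ₗ[K] (Fin (m + 1) ⊕ Fin (m + 1) → K) :=
  (plusStep m K).toLinearMap.comp (splitPre m α β)

theorem splitMap_apply (m : ℕ) (α β : K) (v : (Fin m ⊕ Fin m) ⊕ Fin 2 → K) :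
    splitMap m α β v = plusStep m K (fun i => v (.inl i), v (.inr 0) + α * v (.inr 1),
      v (.inr 0) + β * v (.inr 1)) := rfl

theorem splitMap_injective (h : α ≠ β) : Function.Injective (splitMap m α β) := by
  rw [← LinearMap.ker_eq_bot, LinearMap.ker_eq_bot']
  intro v hv
  rw [splitMap_apply, LinearEquiv.map_eq_zero_iff, Prod.mk_eq_zero, Prod.mk_eq_zero] at hv
  obtain ⟨h1, h2, h3⟩ := hv
  have h4 : v (.inr 1) = 0 := by
    have h5 : (α - β) * v (.inr 1) = 0 := by linear_combination h2 - h3
    exact (mul_eq_zero.1 h5).resolve_left (sub_ne_zero.2 h)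
  have h5 : v (.inr 0) = 0 := by
    rw [h4, mul_zero, add_zero] at h2
    exact h2
  funext x
  rcases x with i | i
  · exact congrFun h1 i
  · fin_cases i
    · exact h5
    · exact h4

/-- The isometry of the minus form over a splitting field with the plus form. -/
noncomputable def splitEquiv (m : ℕ) {α β : K} (h : α ≠ β) :
    ((Fin m ⊕ Fin m) ⊕ Fin 2 → K) ≃ₗ[K] (Fin (m + 1) ⊕ Fin (m + 1) → K) :=
  LinearMap.linearEquivOfInjective (splitMap m α β) (splitMap_injective h) (by
    simp only [finrank_fintype_fun_eq_card, Fintype.card_sum, Fintype.card_fin]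
    omega)

theorem splitEquiv_form (h : α ≠ β) {a b : K} (ha : α + β = a) (hb : α * β = b)
    (v : (Fin m ⊕ Fin m) ⊕ Fin 2 → K) :
    plusQ (m + 1) K (splitEquiv m h v) = minusQ m K a b v := by
  rw [plusQ_eq, minusQ_eq]
  change plusForm (m + 1) K (splitMap m α β v) = _
  rw [splitMap_apply, plusForm_plusStep, minusForm_apply, binForm_apply, ← ha, ← hb]
  ring

theorem neutral_minusK (h : α ≠ β) {a b : K} (ha : α + β = a) (hb : α * β = b) :
    Neutral (minusQ m K a b) (m + 1) :=
  neutral_of_isometry (splitEquiv m h) (splitEquiv_form h ha hb) (neutral_plusQ (m + 1) K)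

end Split

/-- `kappa`, determinant and multiplier over a splitting field. -/
theorem sgn_kappa_minusK {K : Type u} [Field K] [Finite K] {m : ℕ} (hm : 2 ≤ m) {a b α β : K}
    (h : α ≠ β) (ha : α + β = a) (hb : α * β = b) (g : Sim (minusQ m K a b)) (c : Kˣ)
    (hc : ∀ v, minusQ m K a b (((g : GL ((Fin m ⊕ Fin m) ⊕ Fin 2) K) : Matrix _ _ K) *ᵥ v) =
      (c : K) * minusQ m K a b v) :
    sgn K (kappa (neutral_minusK h ha hb) (simGam _ g)) * c ^ (m + 1) = dt g := by
  have hG : Good (plusQ (m + 1) K) := good_plusQ (by omega)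
  set e := splitEquiv m h with he
  have hf := splitEquiv_form (m := m) h ha hb
  have h1 : IsSS (minusQ m K a b) (RingEquiv.refl K) c (simGam _ g).1 := isSS_perm c.ne_zero hc
  have h2 : IsSS (plusQ (m + 1) K) (RingEquiv.refl K) c (conjGam e hf (simGam _ g)).1 := by
    refine ⟨h1.ne, fun u v => ?_, fun x v => ?_, fun v => ?_⟩
    · obtain ⟨u, rfl⟩ := e.surjective u
      obtain ⟨v, rfl⟩ := e.surjective v
      rw [← map_add, conjGam_apply, conjGam_apply, conjGam_apply, h1.add, map_add]
    · obtain ⟨v, rfl⟩ := e.surjective v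
      rw [← map_smul, conjGam_apply, conjGam_apply, h1.smul, map_smul]
    · obtain ⟨v, rfl⟩ := e.surjective v
      rw [conjGam_apply, hf, h1.form, hf]
  obtain ⟨k, hk⟩ := exists_sim_of_refl h2
  have h3 : mu hG k = c := by
    apply mu_unique
    intro v
    have h4 := h2.form v
    rw [← hk] at h4
    exact h4
  have h4 : dt k = dt g := by
    apply Units.ext
    rw [dt_apply, dt_apply, ← LinearMap.det_toLin', ← LinearMap.det_toLin',
      ← LinearMap.det_conj (Matrix.toLin' ((g : GL ((Fin m ⊕ Fin m) ⊕ Fin 2) K) :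
        Matrix _ _ K)) e]
    congr 1
    apply LinearMap.ext
    intro v
    obtain ⟨v, rfl⟩ := e.surjective v
    have h5 : (simGam _ k).1 (e v) = e ((simGam _ g).1 v) := by rw [hk, conjGam_apply]
    simp only [LinearMap.comp_apply, LinearEquiv.coe_coe, LinearEquiv.symm_apply_apply,
      Matrix.toLin'_apply]
    exact h5
  rw [← h4, ← sgn_kappa_plusQ hG k, h3, hk, kappa_conj]

end Cfsg.Agent.H198.ExtForm
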