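import Cfsg.Agent.H198.TriDia
import Cfsg.Agent.H198.TwComp
set_option linter.all false

/-!
# The twisted symmetric composition of a triality automorphism of order three (helper198)

* `mo M M₂ u w = conj(M⁻¹ u) · M₂(w̄)`;
* `exists_M` : an element of order three outside the range of `Ψ`, or its inverse, is `Ψ(M) ρ` with `TriS M M₁ M₂`
  and `M κ M₁ M₂ κ = c₀`;
* `tc` : then `mo M M₂` is a twisted symmetric composition for a multiple of the norm;
* `comm_mo` : if `Ψ(N)`, `TriS N N₁ N₂`, commutes with `Ψ(M) ρ`, then `N (u ⋄ w) = c • (N u ⋄ N w)`;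
* `comm_range` : an element of order prime to three commuting with `Ψ(M) ρ` is such a `Ψ(N)`.
-/

set_option autoImplicit false

namespace Cfsg.Agent.H198.TriTC

open Module QuadraticMap Cfsg.Agent.LieClassical.OrthCore Cfsg.Agent.LieClassical.OrthTrans
  Cfsg.Agent.LieClassical.OrthSimple Cfsg.Agent.ClassicalGeometry.OrthAut1
  Cfsg.Agent.ClassicalGeometry.OrthSemi Cfsg.Agent.H198.Classes
  Cfsg.Agent.LieClassical.QuadForms Cfsg.Agent.H198.ClassesPlus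
  Cfsg.Agent.ClassicalGeometry.TrialityOct Cfsg.Agent.ClassicalGeometry.Triality
  Cfsg.Agent.ClassicalGeometry.TrialitySpaces Cfsg.Agent.H198.TriBase Cfsg.Agent.H198.TriAut
  Cfsg.Agent.H206.Balance Cfsg.Agent.H198.BalVar Cfsg.Agent.H198.TriDia Cfsg.Agent.H198.TwComp

universe u

variable {F : Type u} [Field F]

/-- The product attached to `Ψ(M) ρ`, `TriS M M₁ M₂`. -/
def mo (M M₂ : G8 F) (u w : V8 F) : V8 F := omul (oconj (M⁻¹.1 u)) (M₂.1 (oconj w))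

theorem gen_cube {G : Type u} [Group G] {a b c r : G} (h3 : r ^ 3 = 1) (hb : r * a * r⁻¹ = b)
    (hc : r⁻¹ * a * r = c) : (a * r) ^ 3 = a * b * c := by
  subst hb
  subst hc
  have h : r⁻¹ * r⁻¹ = r := by
    have h1 : r * (r * r) = 1 := by rw [← mul_assoc, ← pow_two, ← pow_succ, h3]
    have h2 : r⁻¹ = r * r := inv_eq_of_mul_eq_one_right h1
    calc r⁻¹ * r⁻¹ = r⁻¹ * (r * r) := by rw [← h2]
      _ = r := by group
  calc (a * r) ^ 3 = a * r * a * r * (a * r) := by rw [pow_succ, pow_two]; group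
    _ = a * r * a * (r⁻¹ * r⁻¹) * (a * r) := by rw [h]
    _ = _ := by group

theorem oconj_smul (c : F) (x : V8 F) : oconj (c • x) = c • oconj x := by coord8

theorem oconj_add (x y : V8 F) : oconj (x + y) = oconj x + oconj y := by coord8

/-- The cube of `Ψ(M) ρ`. -/
theorem cube_psi (hG : Good (plusForm 4 F)) {M M₁ M₂ : G8 F} (hM : TriS M M₁ M₂) :
    (Psi _ M * rho hG) ^ 3 = Psi _ (M * (kapG F * M₁ * kapG F) * (kapG F * M₂ * kapG F)) := by
  have h := gen_cube (rho_pow_three hG) (rho_conj hG hM) (rho_inv_conj hG hM)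
  rw [h, map_mul (Psi (plusForm 4 F)) (M * (kapG F * M₁ * kapG F)) (kapG F * M₂ * kapG F),
    map_mul (Psi (plusForm 4 F)) M (kapG F * M₁ * kapG F)]

/-- The condition for `Ψ(M) ρ` to have order three. -/
def Cub (M M₁ M₂ : G8 F) : Prop :=
  ∃ c : Fˣ, ∀ v, M.1 (oconj (M₁.1 (M₂.1 (oconj v)))) = (c : F) • v

theorem cub_of_cube (hG : Good (plusForm 4 F)) {M M₁ M₂ : G8 F} (hM : TriS M M₁ M₂)
    (h : (Psi _ M * rho hG) ^ 3 = 1) : Cub M M₁ M₂ := by
  rw [cube_psi hG hM] at h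
  have h1 : M * (kapG F * M₁ * kapG F) * (kapG F * M₂ * kapG F) ∈ (Psi (plusForm 4 F)).ker := h
  rw [ker_Psi hG] at h1
  obtain ⟨c, hc⟩ := h1
  refine ⟨c, fun v => ?_⟩
  have h2 := congrArg (fun z : G8 F => z.1 v) hc
  have h3 : (M * (kapG F * M₁ * kapG F) * (kapG F * M₂ * kapG F)).1 v =
      M.1 (oconj (M₁.1 (oconj (oconj (M₂.1 (oconj v)))))) := rfl
  beta_reduce at h2
  rw [h3, oconj_oconj, scal_apply] at h2
  exact h2.symm

/-! ### The twisted composition -/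

section comp

variable {M M₁ M₂ : G8 F} (hM : TriS M M₁ M₂) {c₀ : Fˣ}
  (h0 : ∀ v, M.1 (oconj (M₁.1 (M₂.1 (oconj v)))) = (c₀ : F) • v)
  {σ : F ≃+* F} {c c₁ : F} (hs : IsSS (plusForm 4 F) σ c M.1)

include hM h0 hs in
/-- The composition attached to a triality automorphism. -/
theorem tc : ∃ k : F, k ≠ 0 ∧ TC (k • plusForm 4 F) σ (mo M M₂) := by
  obtain ⟨σ₁, c₁, hs₁⟩ := M₁.2
  obtain ⟨σ₂, c₂, hs₂⟩ := M₂.2
  obtain rfl := hM.field hs hs₁
  obtain rfl := hM.field₂ hs hs₂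
  have hc := hM.mult hs hs₁ hs₂
  have hsi : IsSS (plusForm 4 F) σ.symm (σ.symm c⁻¹) M⁻¹.1 := hs.inv
  have hsi₁ : IsSS (plusForm 4 F) σ.symm (σ.symm c₁⁻¹) M₁⁻¹.1 := hs₁.inv
  have inv_apply : ∀ (N : G8 F) (x : V8 F), N⁻¹.1 (N.1 x) = x := fun N x => N.1.symm_apply_apply x
  have apply_inv : ∀ (N : G8 F) (x : V8 F), N.1 (N⁻¹.1 x) = x := fun N x => N.1.apply_symm_apply x
  -- `σ³ = 1`
  have hσ : ∀ t, σ (σ (σ t)) = t := by
    intro t
    have h1 := h0 (t • one8 F)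
    rw [oconj_smul, hs₂.smul, hs₁.smul, oconj_smul, hs.smul, h0, smul_smul, smul_smul, mul_comm] at h1
    have h2 : ((c₀ : F) * σ (σ (σ t)) - (c₀ : F) * t) • one8 F = 0 := by rw [sub_smul, h1, sub_self]
    rcases smul_eq_zero.1 h2 with h3 | h3
    · exact mul_left_cancel₀ c₀.ne_zero (sub_eq_zero.1 h3)
    · exfalso
      have h5 := norm_one8 (F := F)
      rw [h3, QuadraticMap.map_zero] at h5
      exact zero_ne_one h5
  have hσ2 : ∀ t, σ.symm (σ.symm t) = σ t := by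
    intro t
    rw [RingEquiv.symm_apply_eq, RingEquiv.symm_apply_eq, hσ]
  -- two forms of the cube condition
  have hA : ∀ v, oconj (M₁.1 (M₂.1 (oconj v))) = σ.symm c₀ • M⁻¹.1 v := by
    intro v
    have h1 := congrArg M⁻¹.1 (h0 v)
    rwa [inv_apply, hsi.smul] at h1
  have hB : ∀ v, M₂.1 (oconj v) = σ (c₀ : F) • M₁⁻¹.1 (oconj (M⁻¹.1 v)) := by
    intro v
    have h1 := congrArg (fun z => M₁⁻¹.1 (oconj z)) (hA v)
    beta_reduce at h1
    rw [oconj_oconj, inv_apply, oconj_smul, hsi₁.smul, hσ2] at h1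
    exact h1
  have hsw := hM.swap (c₂ := Units.mk0 c₂ hs₂.ne) hs₂
  -- third form of the triple
  have hM2 : ∀ x y, M₂.1 (omul x y) = c₁⁻¹ • omul (oconj (M₁.1 (oconj x))) (M.1 y) := by
    intro x y
    have h1 := hM.kap.swap (c₂ := Units.mk0 c₁ hs₁.ne) (M₂ := kapG F * M₁ * kapG F) (σ₂ := σ) (by
      refine ⟨hs₁.ne, fun u v => ?_, fun a v => ?_, fun v => ?_⟩
      · change oconj (M₁.1 (oconj (u + v))) = oconj (M₁.1 (oconj u)) + oconj (M₁.1 (oconj v))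
        rw [oconj_add, hs₁.add, oconj_add]
      · change oconj (M₁.1 (oconj (a • v))) = σ a • oconj (M₁.1 (oconj v))
        rw [oconj_smul, hs₁.smul, oconj_smul]
      · change plusForm 4 F (oconj (M₁.1 (oconj v))) = _
        rw [norm_oconj, hs₁.form, norm_oconj]
        rfl)
    have h2 := h1 (oconj y) (oconj x)
    have e1 : (kapG F * M₂ * kapG F).1 (omul (oconj y) (oconj x)) = oconj (M₂.1 (omul x y)) := by
      change oconj (M₂.1 (oconj (omul (oconj y) (oconj x)))) = _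
      rw [oconj_omul, oconj_oconj, oconj_oconj]
    have e2 : (kapG F * M * kapG F).1 (oconj y) = oconj (M.1 y) := by
      change oconj (M.1 (oconj (oconj y))) = _
      rw [oconj_oconj]
    have e3 : (hatG (Units.mk0 c₁ hs₁.ne) (kapG F * M₁ * kapG F)).1 (oconj x) = c₁⁻¹ • M₁.1 (oconj x) := by
      change (((Units.mk0 c₁ hs₁.ne)⁻¹ : Fˣ) : F) • oconj (oconj (M₁.1 (oconj (oconj (oconj x))))) = _
      rw [oconj_oconj, oconj_oconj, Units.val_inv_eq_inv_val]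
      rfl
    rw [e1, e2, e3, omul_smul] at h2
    have h3 := congrArg oconj h2
    rwa [oconj_oconj, oconj_smul, oconj_omul, oconj_oconj] at h3
  refine ⟨(c₀ : F) * c⁻¹ * (σ c₁)⁻¹, ?_, ?_⟩
  · exact mul_ne_zero (mul_ne_zero c₀.ne_zero (inv_ne_zero hs.ne)) (inv_ne_zero (by simpa using hs₁.ne))
  refine ⟨fun a b d => ?_, fun a b d => ?_, fun t a b => ?_, fun t a b => ?_, fun a b => ?_, fun a b => ?_, hσ⟩
  · rw [mo, mo, mo, hsi.add, oconj_add, add_omul]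
  · rw [mo, mo, mo, oconj_add, hs₂.add, omul_add]
  · rw [mo, mo, hsi.smul, oconj_smul, smul_omul]
  · rw [mo, mo, oconj_smul, hs₂.smul, omul_smul]
  · rw [mo, mo, hM.inv, inv_apply, oconj_omul, oconj_oconj, hB, omul_smul, omul_oconj_omul', smul_smul,
      hsi₁.form, norm_oconj, hsi.form]
    congr 1
    change σ (c₀ : F) * (σ.symm c₁⁻¹ * σ.symm (σ.symm c⁻¹ * σ.symm (plusForm 4 F a))) =
      σ ((c₀ : F) * c⁻¹ * (σ c₁)⁻¹ * plusForm 4 F a)
    have e : σ (σ c₁) = σ.symm c₁ := by rw [RingEquiv.eq_symm_apply, hσ]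
    rw [map_mul σ.symm, hσ2, hσ2, map_mul, map_mul, map_mul, map_inv₀ σ (σ c₁), e, map_inv₀ σ.symm]
    ring
  · have e : σ.symm (σ c₁) = c₁ := σ.symm_apply_apply c₁
    have e2 : oconj (M₁.1 (oconj (oconj (M₂.1 (oconj a))))) = σ.symm c₀ • M⁻¹.1 a := by rw [oconj_oconj, hA]
    rw [mo, mo, oconj_omul, oconj_oconj, hM2, apply_inv, e2, omul_smul, smul_omul, omul_smul, oconj_omul_omul,
      smul_smul, smul_smul, hsi.form]
    congr 1
    change c₁⁻¹ * σ.symm (c₀ : F) * (σ.symm c⁻¹ * σ.symm (plusForm 4 F a)) =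
      σ.symm ((c₀ : F) * c⁻¹ * (σ c₁)⁻¹ * plusForm 4 F a)
    rw [map_mul, map_mul, map_mul, map_inv₀ σ.symm (σ c₁), e]
    ring

end comp

/-! ### Elements commuting with `Ψ(M) ρ` -/

theorem gen_comm1 {G : Type u} [Group G] {a b r : G} (h : b * (a * r) = a * r * b) : r * b * r⁻¹ = a⁻¹ * b * a := by
  have h1 : a⁻¹ * (b * (a * r)) * r⁻¹ = a⁻¹ * (a * r * b) * r⁻¹ := by rw [h]
  calc r * b * r⁻¹ = a⁻¹ * (a * r * b) * r⁻¹ := by group
    _ = a⁻¹ * (b * (a * r)) * r⁻¹ := h1.symm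
    _ = _ := by group

theorem gen_comm2 {G : Type u} [Group G] {a b r : G} (h : b * (a * r) = a * r * b) : r⁻¹ * (a⁻¹ * b * a) * r = b := by
  rw [← gen_comm1 h]
  group

/-- Two elements of `Γ` with the same image differ by a scalar. -/
theorem smul_of_Psi_eq (hG : Good (plusForm 4 F)) {A B : G8 F} (h : Psi (plusForm 4 F) A = Psi (plusForm 4 F) B) :
    ∃ c : Fˣ, ∀ v, A.1 v = B.1 ((c : F) • v) := by
  have h1 : B⁻¹ * A ∈ (Psi (plusForm 4 F)).ker := by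
    have e : Psi (plusForm 4 F) (B⁻¹ * A) = (Psi (plusForm 4 F) B)⁻¹ * Psi (plusForm 4 F) A := by
      rw [map_mul (Psi (plusForm 4 F)) B⁻¹ A, map_inv (Psi (plusForm 4 F)) B]
    rw [MonoidHom.mem_ker, e, h, inv_mul_cancel]
  rw [ker_Psi hG] at h1
  obtain ⟨c, hc⟩ := h1
  refine ⟨c, fun v => ?_⟩
  have h2 : A = B * scal _ c := by rw [hc]; group
  rw [h2]
  rfl

set_option maxHeartbeats 4000000 in
/-- If `Ψ(N)` commutes with `Ψ(M) ρ`, then `N` is a similarity of the product `mo M M₂`. -/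
theorem comm_mo (hG : Good (plusForm 4 F)) {M M₁ M₂ N N₁ N₂ : G8 F} (hM : TriS M M₁ M₂) (hN : TriS N N₁ N₂)
    (hc : Psi _ N * (Psi _ M * rho hG) = Psi _ M * rho hG * Psi _ N) :
    ∃ c : F, c ≠ 0 ∧ ∀ u w, N.1 (mo M M₂ u w) = c • mo M M₂ (N.1 u) (N.1 w) := by
  have inv_apply : ∀ (N : G8 F) (x : V8 F), N⁻¹.1 (N.1 x) = x := fun N x => N.1.symm_apply_apply x
  have apply_inv : ∀ (N : G8 F) (x : V8 F), N.1 (N⁻¹.1 x) = x := fun N x => N.1.apply_symm_apply x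
  obtain ⟨σ, k, hs⟩ := M.2
  obtain ⟨ν, l, ht⟩ := N.2
  obtain ⟨σ₂, k₂, hs₂⟩ := M₂.2
  obtain rfl := hM.field₂ hs hs₂
  have hsi : IsSS (plusForm 4 F) σ.symm (σ.symm k⁻¹) M⁻¹.1 := hs.inv
  have g1 := gen_comm1 hc
  have g2 := gen_comm2 hc
  have e1 : (Psi (plusForm 4 F) M)⁻¹ * Psi (plusForm 4 F) N * Psi (plusForm 4 F) M =
      Psi (plusForm 4 F) (M⁻¹ * N * M) := by
    rw [map_mul (Psi (plusForm 4 F)) (M⁻¹ * N) M, map_mul (Psi (plusForm 4 F)) M⁻¹ N,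
      map_inv (Psi (plusForm 4 F)) M]
  rw [rho_conj hG hN, e1] at g1
  rw [e1, rho_inv_conj hG ((hM.inv.mul hN).mul hM)] at g2
  obtain ⟨c, hc1⟩ := smul_of_Psi_eq hG g1
  obtain ⟨d, hd1⟩ := smul_of_Psi_eq hG g2
  have hc2 : ∀ v, N₁.1 (oconj v) = oconj (M⁻¹.1 (N.1 (M.1 ((c : F) • v)))) := by
    intro v
    have := congrArg oconj (hc1 v)
    have e : (kapG F * N₁ * kapG F).1 v = oconj (N₁.1 (oconj v)) := rfl
    rw [e, oconj_oconj] at this
    exact this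
  have hd2 : ∀ v, N₂.1 (M₂.1 (oconj v)) = M₂.1 (oconj (N.1 ((d : F) • v))) := by
    intro v
    have := congrArg (fun z => M₂.1 (oconj z)) (hd1 v)
    have e : (kapG F * (M₂⁻¹ * N₂ * M₂) * kapG F).1 v = oconj (M₂⁻¹.1 (N₂.1 (M₂.1 (oconj v)))) := rfl
    beta_reduce at this
    rw [e, oconj_oconj, apply_inv] at this
    exact this
  refine ⟨σ.symm (ν (σ c)) * σ (ν d), ?_, fun u w => ?_⟩
  · apply mul_ne_zero <;> simp
  · have k1 : N.1 (mo M M₂ u w) = omul (N₁.1 (oconj (M⁻¹.1 u))) (N₂.1 (M₂.1 (oconj w))) := hN _ _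
    have k2 : M.1 ((c : F) • M⁻¹.1 u) = σ c • u := by rw [hs.smul, apply_inv]
    have k3 : N.1 (σ c • u) = ν (σ c) • N.1 u := ht.smul _ _
    have k4 : N.1 ((d : F) • w) = ν d • N.1 w := ht.smul _ _
    have k6 : N₁.1 (oconj (M⁻¹.1 u)) = σ.symm (ν (σ c)) • oconj (M⁻¹.1 (N.1 u)) :=
      calc N₁.1 (oconj (M⁻¹.1 u)) = oconj (M⁻¹.1 (N.1 (M.1 ((c : F) • M⁻¹.1 u)))) := hc2 _
        _ = oconj (M⁻¹.1 (N.1 (σ c • u))) := congrArg (fun z => oconj (M⁻¹.1 (N.1 z))) k2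
        _ = oconj (M⁻¹.1 (ν (σ c) • N.1 u)) := congrArg (fun z => oconj (M⁻¹.1 z)) k3
        _ = oconj (σ.symm (ν (σ c)) • M⁻¹.1 (N.1 u)) := congrArg oconj (hsi.smul _ _)
        _ = _ := oconj_smul _ _
    have k7 : N₂.1 (M₂.1 (oconj w)) = σ (ν d) • M₂.1 (oconj (N.1 w)) :=
      calc N₂.1 (M₂.1 (oconj w)) = M₂.1 (oconj (N.1 ((d : F) • w))) := hd2 _
        _ = M₂.1 (oconj (ν d • N.1 w)) := congrArg (fun z => M₂.1 (oconj z)) k4
        _ = M₂.1 (ν d • oconj (N.1 w)) := congrArg (fun z => M₂.1 z) (oconj_smul _ _)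
        _ = _ := hs₂.smul _ _
    have k5 : mo M M₂ (N.1 u) (N.1 w) = omul (oconj (M⁻¹.1 (N.1 u))) (M₂.1 (oconj (N.1 w))) := rfl
    rw [k1, k6, k7, k5, smul_omul, omul_smul, smul_smul]

/-! ### Reduction to `Ψ(M) ρ` -/

theorem not_mem_T1 (hG : Good (plusForm 4 F)) {N : G8 F} (h : N ∉ T1 F) : N * kapG F ∈ T1 F := by
  rcases mem_S1 hG N with h1 | h1
  · exact absurd h1.2 h
  · exact h1.2

theorem gen_B {G : Type u} [Group G] {a b c k r t : G} (hr : r = k * t) (hb : b = a * k)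
    (ht : t * b * t⁻¹ = c) (tt : t * t = 1) (h : (a * r) ^ 3 = 1) : a * r = (b * c)⁻¹ := by
  have ti : t⁻¹ = t := inv_eq_of_mul_eq_one_right tt
  have e1 : a * r = b * t := by rw [hr, hb, mul_assoc]
  have e2 : (a * r) * (a * r) = b * c := by
    rw [e1, ← ht, ti]
    group
  rw [eq_inv_iff_mul_eq_one, ← e2, ← h, pow_three]

theorem mem_of_cube (hG : Good (plusForm 4 F)) {N : G8 F} (h : (Psi _ N * rho hG) ^ 3 = 1) : N ∈ T1 F := by
  by_contra hn
  obtain ⟨N₁, N₂, hN⟩ := not_mem_T1 hG hn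
  have hb : Psi (plusForm 4 F) (N * kapG F) = Psi (plusForm 4 F) N * Psi (plusForm 4 F) (kapG F) :=
    map_mul (Psi (plusForm 4 F)) N (kapG F)
  have e := gen_B (r := rho hG) rfl hb (tau_conj hG hN) (tau_mul_tau hG) h
  have e3 : Psi (plusForm 4 F) N * rho hG ∈ (Psi (plusForm 4 F)).range := by
    rw [e]
    exact inv_mem (mul_mem (MonoidHom.mem_range.2 ⟨_, rfl⟩) (MonoidHom.mem_range.2 ⟨_, rfl⟩))
  exact xt_not_mem hG N e3

theorem gen_C {G : Type u} [Group G] {a r : G} (h : (r * a) ^ 3 = 1) : (a * r) ^ 3 = 1 := by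
  have e : a * r = r⁻¹ * (r * a) * r⁻¹⁻¹ := by group
  rw [e, conj_pow, h, mul_one, mul_inv_cancel]

theorem gen_D {G : Type u} [Group G] {a b r : G} (h : r * a * r⁻¹ = b) : b * r = r * a := by
  rw [← h, inv_mul_cancel_right]

theorem gen_E {G : Type u} [Group G] {a b r : G} (h : b = a⁻¹) (hr : r ^ 2 = r⁻¹) : b * r = (r ^ 2 * a)⁻¹ := by
  rw [mul_inv_rev, hr, inv_inv, h]

theorem gen_F {G : Type u} [Group G] {x y : G} (h : y = x⁻¹) (hx : x ^ 3 = 1) : y ^ 3 = 1 := by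
  rw [h, inv_pow, hx, inv_one]

/-- **Automorphisms of order three outside the range of `Ψ`.** -/
theorem exists_M [Finite F] (hG : Good (plusForm 4 F)) {x : MulAut (P8 F)} (hx : x ∉ (Psi (plusForm 4 F)).range)
    (ho : x ^ 3 = 1) : ∃ M M₁ M₂ : G8 F, TriS M M₁ M₂ ∧ Cub M M₁ M₂ ∧
      (Psi _ M * rho hG = x ∨ Psi _ M * rho hG = x⁻¹) := by
  obtain ⟨i, N, hi, rfl⟩ := aut_cases hG x
  interval_cases i
  · exfalso
    apply hx
    rw [pow_zero, one_mul]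
    exact MonoidHom.mem_range.2 ⟨N, rfl⟩
  · rw [pow_one] at ho ⊢
    have h1 : (Psi (plusForm 4 F) N * rho hG) ^ 3 = 1 := gen_C ho
    obtain ⟨N₁, N₂, hN⟩ := mem_of_cube hG h1
    have e : Psi (plusForm 4 F) (kapG F * N₁ * kapG F) * rho hG = rho hG * Psi (plusForm 4 F) N :=
      gen_D (rho_conj hG hN)
    obtain ⟨M₁, M₂, hM⟩ := kap_mem_T1 hN.mem₁
    exact ⟨_, M₁, M₂, hM, cub_of_cube hG hM (by rw [e]; exact ho), Or.inl e⟩
  · have e : Psi (plusForm 4 F) N⁻¹ * rho hG = (rho hG ^ 2 * Psi (plusForm 4 F) N)⁻¹ :=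
      gen_E (map_inv (Psi (plusForm 4 F)) N) (rho_sq hG)
    have h1 : (Psi (plusForm 4 F) N⁻¹ * rho hG) ^ 3 = 1 := gen_F e ho
    obtain ⟨M₁, M₂, hM⟩ := mem_of_cube hG h1
    exact ⟨_, M₁, M₂, hM, cub_of_cube hG hM h1, Or.inr e⟩

/-! ### Elements of order prime to three in the centraliser -/

theorem gen_Q {Q : Type u} [Group Q] {r k y : Q} (h3 : r ^ 3 = 1) (hr : r ≠ 1) (hk : k * r * k = r⁻¹) (kk : k * k = 1)
    {i : ℕ} (hy : y = r ^ i ∨ y = r ^ i * k) (hc : y * r = r * y) {n : ℕ} (hn : n.Coprime 3) (yn : y ^ n = 1) :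
    y = 1 := by
  rcases hy with hy | hy
  · have h1 : y ^ 3 = 1 := by rw [hy, ← pow_mul, mul_comm, pow_mul, h3, one_pow]
    have h2 := pow_gcd_eq_one.2 ⟨yn, h1⟩
    rwa [hn.gcd_eq_one, pow_one] at h2
  · exfalso
    apply hr
    rw [hy] at hc
    have h1 : k * r = r * k := by
      have h2 : r ^ i * (k * r) = r ^ i * (r * k) := by
        rw [← mul_assoc, hc, ← mul_assoc, ← mul_assoc, ← pow_succ, ← pow_succ']
      exact mul_left_cancel h2
    rw [h1, mul_assoc, kk, mul_one] at hk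
    have h2 : r * r = 1 := by
      nth_rw 1 [hk]
      exact inv_mul_cancel r
    rwa [pow_succ, pow_two, h2, one_mul] at h3

/-- The image of `T₁`. -/
def KT (F : Type u) [Field F] : Subgroup (MulAut (P8 F)) := (T1 F).map (Psi (plusForm 4 F))

theorem mem_KT {y : MulAut (P8 F)} : y ∈ KT F ↔ ∃ N ∈ T1 F, Psi (plusForm 4 F) N = y := Iff.rfl

theorem KT_normal [Finite F] (hG : Good (plusForm 4 F)) : (KT F).Normal := by
  have h1 : ∀ y ∈ KT F, rho hG * y * (rho hG)⁻¹ ∈ KT F := by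
    rintro y ⟨N, ⟨N₁, N₂, hN⟩, rfl⟩
    exact ⟨kapG F * N₁ * kapG F, kap_mem_T1 hN.mem₁, (rho_conj hG hN).symm⟩
  have h2 : ∀ (M : G8 F), ∀ y ∈ KT F, Psi (plusForm 4 F) M * y * (Psi (plusForm 4 F) M)⁻¹ ∈ KT F := by
    rintro M y ⟨N, hN, rfl⟩
    refine ⟨M * N * M⁻¹, ?_, ?_⟩
    · change _ ∈ T1 F
      change N ∈ T1 F at hN
      rw [mem_T1_iff hG] at hN ⊢
      rw [map_mul, map_mul, hN, mul_one, map_inv, mul_inv_cancel]
    · rw [map_mul (Psi (plusForm 4 F)) (M * N) M⁻¹, map_mul (Psi (plusForm 4 F)) M N, map_inv (Psi (plusForm 4 F)) M]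
  have h3 : ∀ (i : ℕ), ∀ y ∈ KT F, rho hG ^ i * y * (rho hG ^ i)⁻¹ ∈ KT F := by
    intro i
    induction i with
    | zero =>
      intro y hy
      rwa [pow_zero, one_mul, inv_one, mul_one]
    | succ i ih =>
      intro y hy
      have e : rho hG ^ (i + 1) * y * (rho hG ^ (i + 1))⁻¹ = rho hG ^ i * (rho hG * y * (rho hG)⁻¹) * (rho hG ^ i)⁻¹ := by
        rw [pow_succ]
        group
      rw [e]
      exact ih _ (h1 y hy)
  refine ⟨fun y hy g => ?_⟩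
  obtain ⟨i, M, -, rfl⟩ := aut_cases hG g
  have e : rho hG ^ i * Psi (plusForm 4 F) M * y * (rho hG ^ i * Psi (plusForm 4 F) M)⁻¹ =
      rho hG ^ i * (Psi (plusForm 4 F) M * y * (Psi (plusForm 4 F) M)⁻¹) * (rho hG ^ i)⁻¹ := by group
  rw [e]
  exact h3 i _ (h2 M y hy)

set_option maxHeartbeats 4000000 in
/-- **Elements of order prime to three commuting with `Ψ(M) ρ`.** -/
theorem comm_range [Finite F] (hG : Good (plusForm 4 F)) {M : G8 F} (hM : M ∈ T1 F) {y : MulAut (P8 F)}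
    (hc : y * (Psi _ M * rho hG) = Psi _ M * rho hG * y) {n : ℕ} (hn : n.Coprime 3) (yn : y ^ n = 1) :
    ∃ N N₁ N₂ : G8 F, TriS N N₁ N₂ ∧ Psi (plusForm 4 F) N = y := by
  have hNor := KT_normal hG
  set π := QuotientGroup.mk' (KT F) with hπ
  have hker : ∀ y, π y = 1 ↔ y ∈ KT F := fun y => QuotientGroup.eq_one_iff y
  have hT : ∀ N ∈ T1 F, π (Psi (plusForm 4 F) N) = 1 := fun N hN => (hker _).2 ⟨N, hN, rfl⟩
  have h3 : π (rho hG) ^ 3 = 1 := by
    rw [← map_pow π (rho hG) 3, rho_pow_three, map_one π]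
  have hr : π (rho hG) ≠ 1 := by
    intro h
    obtain ⟨N, -, h1⟩ := (hker _).1 h
    exact rho_not_mem hG (MonoidHom.mem_range.2 ⟨N, h1⟩)
  have hk : π (Psi _ (kapG F)) * π (rho hG) * π (Psi _ (kapG F)) = (π (rho hG))⁻¹ := by
    rw [← map_mul π (Psi _ (kapG F)) (rho hG), ← map_mul π (Psi _ (kapG F) * rho hG) (Psi _ (kapG F)),
      TriInn.kap_rho_kap hG, map_inv π (rho hG)]
  have kk : π (Psi _ (kapG F)) * π (Psi _ (kapG F)) = 1 := by
    rw [← map_mul π (Psi _ (kapG F)) (Psi _ (kapG F)), ← map_mul (Psi (plusForm 4 F)) (kapG F) (kapG F), kapG_mul_kapG, map_one (Psi (plusForm 4 F)),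
      map_one π]
  have hcc : π y * π (rho hG) = π (rho hG) * π y := by
    have h1 : π (Psi _ M * rho hG) = π (rho hG) := by
      rw [map_mul π (Psi _ M) (rho hG), hT M hM, one_mul]
    calc π y * π (rho hG) = π y * π (Psi _ M * rho hG) := congrArg (fun z => π y * z) h1.symm
      _ = π (y * (Psi _ M * rho hG)) := (map_mul π y (Psi _ M * rho hG)).symm
      _ = π (Psi _ M * rho hG * y) := congrArg π hc
      _ = π (Psi _ M * rho hG) * π y := map_mul π (Psi _ M * rho hG) y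
      _ = _ := congrArg (fun z => z * π y) h1
  have hyn : π y ^ n = 1 := by rw [← map_pow π y n, yn, map_one π]
  have hy : π y = 1 := by
    obtain ⟨i, N, -, h1⟩ := aut_cases hG y
    refine gen_Q h3 hr hk kk (i := i) ?_ hcc hn hyn
    have h2 : π y = π (rho hG) ^ i * π (Psi _ N) := by
      rw [h1, map_mul π (rho hG ^ i) (Psi _ N), map_pow π (rho hG) i]
    by_cases hN : N ∈ T1 F
    · left
      rw [h2, hT N hN, mul_one]
    · right
      have h3 := hT _ (not_mem_T1 hG hN)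
      rw [map_mul (Psi (plusForm 4 F)) N (kapG F), map_mul π (Psi _ N) (Psi _ (kapG F))] at h3
      have h4 : π (Psi _ N) = π (Psi _ (kapG F)) := by
        rw [eq_inv_of_mul_eq_one_left h3]
        exact (eq_inv_of_mul_eq_one_left kk).symm
      rw [h2, h4]
  obtain ⟨N, ⟨N₁, N₂, hN⟩, h⟩ := (hker y).1 hy
  exact ⟨N, N₁, N₂, hN, h⟩

end Cfsg.Agent.H198.TriTC
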