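import Mathlib
import Cfsg.Agent.H198.Carriers
import Cfsg.Agent.AutOrth.Main
set_option linter.all false

/-!
# Triality triples of semisimilarities (helper198)

`Q = plusForm 4 F` the norm of the split octonions `V8 F`, `omul` the product.

* `TriS M M₁ M₂ : ∀ x y, M (x y) = M₁ x · M₂ y`; `triG` the group of triples in `Gam Q`; `T1` the first members;
* `kapG` conjugation, `lG a`, `rG a`, `bG a` the multiplications, `fG σ` the field automorphism;
* `TriS.kap`, `TriS.swap` : the symmetries of triples;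
* `mem_T1_iff : M ∈ T1 F ↔ kappa (neutral_plus 4 F) M = 1`.
-/

set_option autoImplicit false

namespace Cfsg.Agent.H198.TriBase

open Module QuadraticMap Cfsg.Agent.LieClassical.OrthCore Cfsg.Agent.LieClassical.OrthTrans
  Cfsg.Agent.ClassicalGeometry.OrthSemi Cfsg.Agent.H198.Classes
  Cfsg.Agent.LieClassical.QuadForms Cfsg.Agent.H198.ClassesPlus
  Cfsg.Agent.ClassicalGeometry.TrialityOct Cfsg.Agent.ClassicalGeometry.Triality
  Cfsg.Agent.ClassicalGeometry.TrialitySpaces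

variable {F : Type*} [Field F]

/-- The group of semisimilarities of the octonion norm. -/
abbrev G8 (F : Type*) [Field F] : Subgroup (Equiv.Perm (V8 F)) := Gam (plusForm 4 F)

/-- `M (x y) = M₁ x · M₂ y`. -/
def TriS (M M₁ M₂ : G8 F) : Prop := ∀ x y, M.1 (omul x y) = omul (M₁.1 x) (M₂.1 y)

theorem TriS.mul {M M₁ M₂ N N₁ N₂ : G8 F} (h : TriS M M₁ M₂) (k : TriS N N₁ N₂) :
    TriS (M * N) (M₁ * N₁) (M₂ * N₂) := by
  intro x y
  change M.1 (N.1 (omul x y)) = omul (M₁.1 (N₁.1 x)) (M₂.1 (N₂.1 y))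
  rw [k, h]

theorem TriS.one : TriS (1 : G8 F) 1 1 := fun _ _ => rfl

theorem TriS.inv {M M₁ M₂ : G8 F} (h : TriS M M₁ M₂) : TriS M⁻¹ M₁⁻¹ M₂⁻¹ := by
  intro x y
  apply M.1.injective
  change M.1 (M.1.symm (omul x y)) = M.1 (omul (M₁.1.symm x) (M₂.1.symm y))
  rw [h, Equiv.apply_symm_apply, Equiv.apply_symm_apply, Equiv.apply_symm_apply]

/-- The first members of the triality triples. -/
def T1 (F : Type*) [Field F] : Subgroup (G8 F) where
  carrier := {M | ∃ M₁ M₂, TriS M M₁ M₂}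
  mul_mem' := by
    rintro M N ⟨M₁, M₂, h⟩ ⟨N₁, N₂, k⟩
    exact ⟨_, _, h.mul k⟩
  one_mem' := ⟨1, 1, TriS.one⟩
  inv_mem' := by
    rintro M ⟨M₁, M₂, h⟩
    exact ⟨_, _, h.inv⟩

theorem mem_T1 {M : G8 F} : M ∈ T1 F ↔ ∃ M₁ M₂, TriS M M₁ M₂ := Iff.rfl

/-! ### Multiplications -/

/-- Left multiplication. -/
def lP (a : V8 F) (ha : plusForm 4 F a ≠ 0) : Equiv.Perm (V8 F) where
  toFun x := omul a x
  invFun y := (plusForm 4 F a)⁻¹ • omul (oconj a) y
  left_inv x := by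
    change (plusForm 4 F a)⁻¹ • omul (oconj a) (omul a x) = x
    rw [oconj_omul_omul, smul_smul, inv_mul_cancel₀ ha, one_smul]
  right_inv y := by
    change omul a ((plusForm 4 F a)⁻¹ • omul (oconj a) y) = y
    rw [omul_smul, omul_oconj_omul, smul_smul, inv_mul_cancel₀ ha, one_smul]

/-- Right multiplication. -/
def rP (a : V8 F) (ha : plusForm 4 F a ≠ 0) : Equiv.Perm (V8 F) where
  toFun x := omul x a
  invFun y := (plusForm 4 F a)⁻¹ • omul y (oconj a)
  left_inv x := by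
    change (plusForm 4 F a)⁻¹ • omul (omul x a) (oconj a) = x
    rw [omul_omul_oconj, smul_smul, inv_mul_cancel₀ ha, one_smul]
  right_inv y := by
    change omul ((plusForm 4 F a)⁻¹ • omul y (oconj a)) a = y
    rw [smul_omul, omul_oconj_omul', smul_smul, inv_mul_cancel₀ ha, one_smul]

theorem isSS_lP (a : V8 F) (ha : plusForm 4 F a ≠ 0) :
    IsSS (plusForm 4 F) (RingEquiv.refl F) (plusForm 4 F a) (lP a ha) :=
  ⟨ha, fun u v => omul_add a u v, fun c v => omul_smul c a v, fun v => norm_omul a v⟩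

theorem isSS_rP (a : V8 F) (ha : plusForm 4 F a ≠ 0) :
    IsSS (plusForm 4 F) (RingEquiv.refl F) (plusForm 4 F a) (rP a ha) :=
  ⟨ha, fun u v => add_omul u v a, fun c v => smul_omul c v a, fun v => by
    rw [mul_comm]; exact norm_omul v a⟩

/-- Left multiplication as a similarity. -/
def lG (a : V8 F) (ha : plusForm 4 F a ≠ 0) : G8 F := ⟨lP a ha, _, _, isSS_lP a ha⟩

/-- Right multiplication as a similarity. -/
def rG (a : V8 F) (ha : plusForm 4 F a ≠ 0) : G8 F := ⟨rP a ha, _, _, isSS_rP a ha⟩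

theorem lG_apply (a : V8 F) (ha : plusForm 4 F a ≠ 0) (x : V8 F) : (lG a ha).1 x = omul a x := rfl

theorem rG_apply (a : V8 F) (ha : plusForm 4 F a ≠ 0) (x : V8 F) : (rG a ha).1 x = omul x a := rfl

/-- `x ↦ (a x) a`. -/
def bG (a : V8 F) (ha : plusForm 4 F a ≠ 0) : G8 F := rG a ha * lG a ha

theorem bG_apply (a : V8 F) (ha : plusForm 4 F a ≠ 0) (x : V8 F) :
    (bG a ha).1 x = omul (omul a x) a := rfl

theorem moufang_left (a x y : V8 F) :
    omul a (omul x (omul a y)) = omul (omul (omul a x) a) y := by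
  coord8

theorem moufang_right (a x y : V8 F) :
    omul (omul (omul x a) y) a = omul x (omul (omul a y) a) := by
  coord8

theorem tri_bG (a : V8 F) (ha : plusForm 4 F a ≠ 0) : TriS (bG a ha) (lG a ha) (rG a ha) :=
  fun x y => moufang a x y

theorem tri_lG (a : V8 F) (ha : plusForm 4 F a ≠ 0) :
    TriS (lG a ha) (bG a ha) (lG a ha)⁻¹ := by
  intro x y
  obtain ⟨y, rfl⟩ := (lG a ha).1.surjective y
  have h1 : (lG a ha)⁻¹.1 ((lG a ha).1 y) = y := (lG a ha).1.symm_apply_apply y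
  rw [h1, lG_apply, lG_apply, bG_apply, moufang_left]

theorem tri_rG (a : V8 F) (ha : plusForm 4 F a ≠ 0) :
    TriS (rG a ha) (rG a ha)⁻¹ (bG a ha) := by
  intro x y
  obtain ⟨x, rfl⟩ := (rG a ha).1.surjective x
  have h1 : (rG a ha)⁻¹.1 ((rG a ha).1 x) = x := (rG a ha).1.symm_apply_apply x
  rw [h1, rG_apply, rG_apply, bG_apply, moufang_right]

theorem tri_scal (c : Fˣ) : TriS (scal (plusForm 4 F) c) (scal _ c) 1 := by
  intro x y
  change (c : F) • omul x y = omul ((c : F) • x) y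
  rw [smul_omul]

/-! ### Conjugation -/

/-- Octonion conjugation. -/
def kapG (F : Type*) [Field F] : G8 F := gamO _ ⟨kap F, kap_mem⟩

theorem kapG_apply (x : V8 F) : (kapG F).1 x = oconj x := rfl

theorem kapG_mul_kapG : kapG F * kapG F = 1 := by
  apply Subtype.ext
  ext1 x
  exact oconj_oconj x

theorem kapG_inv : (kapG F)⁻¹ = kapG F := inv_eq_of_mul_eq_one_left kapG_mul_kapG

theorem TriS.kap {M M₁ M₂ : G8 F} (h : TriS M M₁ M₂) :
    TriS (kapG F * M * kapG F) (kapG F * M₂ * kapG F) (kapG F * M₁ * kapG F) := by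
  intro x y
  change oconj (M.1 (oconj (omul x y))) = omul (oconj (M₂.1 (oconj x))) (oconj (M₁.1 (oconj y)))
  rw [oconj_omul, h, oconj_omul]

theorem kap_mem_T1 {M : G8 F} (h : M ∈ T1 F) : kapG F * M * kapG F ∈ T1 F := by
  obtain ⟨M₁, M₂, h⟩ := h
  exact ⟨_, _, h.kap⟩

/-- The reflection in `a`. -/
theorem gamO_refl {a : V8 F} (ha : plusForm 4 F a ≠ 0) :
    gamO _ ⟨refl (plusForm 4 F) a ha, refl_mem_O ha⟩ =
      scal _ (Units.mk0 (-(plusForm 4 F a)⁻¹) (neg_ne_zero.2 (inv_ne_zero ha))) *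
        (bG a ha * kapG F) := by
  apply Subtype.ext
  ext1 x
  exact refl_eq ha x

theorem scal_mem_T1 (c : Fˣ) : scal (plusForm 4 F) c ∈ T1 F := ⟨_, _, tri_scal c⟩

theorem gamO_refl_mul_mem {a b : V8 F} (ha : plusForm 4 F a ≠ 0) (hb : plusForm 4 F b ≠ 0) :
    gamO _ ⟨refl (plusForm 4 F) a ha, refl_mem_O ha⟩ *
      gamO _ ⟨refl (plusForm 4 F) b hb, refl_mem_O hb⟩ ∈ T1 F := by
  rw [gamO_refl, gamO_refl]
  set c := scal (plusForm 4 F) (Units.mk0 (-(plusForm 4 F a)⁻¹) (neg_ne_zero.2 (inv_ne_zero ha)))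
  set d := scal (plusForm 4 F) (Units.mk0 (-(plusForm 4 F b)⁻¹) (neg_ne_zero.2 (inv_ne_zero hb)))
  have e : c * (bG a ha * kapG F) * (d * (bG b hb * kapG F)) =
      c * bG a ha * (kapG F * (d * bG b hb) * kapG F) := by group
  rw [e]
  exact mul_mem (mul_mem (scal_mem_T1 _) ⟨_, _, tri_bG a ha⟩)
    (kap_mem_T1 (mul_mem (scal_mem_T1 _) ⟨_, _, tri_bG b hb⟩))

theorem gamO_mem_T1 (hG : Good (plusForm 4 F)) {x : O (plusForm 4 F)}
    (hx : (x : V8 F ≃ₗ[F] V8 F) ∈ E (plusForm 4 F)) : gamO _ x ∈ T1 F := by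
  have h1 : E (plusForm 4 F) ≤ ((T1 F).comap (gamO (plusForm 4 F))).map (O (plusForm 4 F)).subtype :=
    E_le_of_refl_mul_refl hG fun a b ha hb _ =>
      ⟨⟨refl (plusForm 4 F) a ha, refl_mem_O ha⟩ * ⟨refl (plusForm 4 F) b hb, refl_mem_O hb⟩,
        gamO_refl_mul_mem ha hb, rfl⟩
  obtain ⟨y, hy, hyx⟩ := h1 hx
  have : y = x := Subtype.ext hyx
  rwa [this] at hy

/-! ### The field automorphisms -/

/-- The field automorphism. -/
def fP (σ : F ≃+* F) : Equiv.Perm (V8 F) where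
  toFun x := fun i => σ (x i)
  invFun x := fun i => σ.symm (x i)
  left_inv x := by simp
  right_inv x := by simp

theorem fP_omul (σ : F ≃+* F) (x y : V8 F) : fP σ (omul x y) = omul (fP σ x) (fP σ y) := by
  apply ext8 <;>
  · change σ _ = _
    simp only [omul_l0, omul_l1, omul_l2, omul_l3, omul_r0, omul_r1, omul_r2, omul_r3, map_add,
      map_sub, map_mul]
    rfl

theorem isSS_fP (σ : F ≃+* F) : IsSS (plusForm 4 F) σ 1 (fP σ) := by
  refine ⟨one_ne_zero, fun u v => funext fun i => map_add σ _ _,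
    fun c v => funext fun i => map_mul σ _ _, fun v => ?_⟩
  rw [norm8, norm8, one_mul]
  simp only [map_add, map_mul]
  rfl

/-- The field automorphism as a semisimilarity. -/
def fG (σ : F ≃+* F) : G8 F := ⟨fP σ, _, _, isSS_fP σ⟩

theorem fG_apply (σ : F ≃+* F) (x : V8 F) (i : Fin 4 ⊕ Fin 4) : (fG σ).1 x i = σ (x i) := rfl

theorem tri_fG (σ : F ≃+* F) : TriS (fG σ) (fG σ) (fG σ) := fP_omul σ

/-! ### `kappa` -/

/-- `kappa` on the semisimilarities of the octonion norm. -/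
noncomputable abbrev kp (F : Type*) [Field F] : G8 F →* ℤˣ := kappa (neutral_plus 4 F)

/-- The space `{x | x (inr i) = 0}`. -/
abbrev X0 (F : Type*) [Field F] : Submodule F (V8 F) := ClassicalGeometry.QuadPlusBasic.stdX 4 F

theorem lag_X0 : Lag (plusForm 4 F) 4 (X0 F) :=
  ⟨ClassicalGeometry.QuadPlusBasic.finrank_stdX 4 F, fun w hw => by
    rw [coe_plusForm]
    exact ClassicalGeometry.QuadPlusBasic.quadFormPlus_stdX 4 F w hw⟩

theorem kp_of_fix {M : G8 F} (h : ∀ x ∈ X0 F, M.1 x ∈ X0 F) : kp F M = 1 := by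
  rw [← kappa_eq (neutral_plus 4 F) M lag_X0]
  have h2 : img M (X0 F) ≤ X0 F := by
    rintro _ ⟨u, hu, rfl⟩
    exact h u hu
  rw [Submodule.eq_of_le_of_finrank_eq h2 (finrank_img _ _), par_self lag_X0]

theorem kp_scal (c : Fˣ) : kp F (scal _ c) = 1 :=
  kp_of_fix fun _ hx => (X0 F).smul_mem _ hx

theorem kp_fG (σ : F ≃+* F) : kp F (fG σ) = 1 := by
  apply kp_of_fix
  intro x hx
  rw [ClassicalGeometry.QuadPlusBasic.mem_stdX] at hx ⊢
  intro i
  rw [fG_apply, hx, map_zero]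

/-- The octonion `(c, 1)`. -/
def aC (c : F) : V8 F := Sum.elim ![c, 0, 0, 0] ![1, 0, 0, 0]

theorem norm_aC (c : F) : plusForm 4 F (aC c) = c := by
  rw [norm8]
  simp [aC]

theorem norm_aC_ne (c : Fˣ) : plusForm 4 F (aC (c : F)) ≠ 0 := by
  rw [norm_aC]
  exact c.ne_zero

theorem kp_lG_aC (c : Fˣ) : kp F (lG (aC (c : F)) (norm_aC_ne c)) = 1 := by
  apply kp_of_fix
  intro x hx
  rw [ClassicalGeometry.QuadPlusBasic.mem_stdX] at hx ⊢
  intro i
  rw [lG_apply]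
  fin_cases i
  · change omul _ _ (.inr 0) = 0
    rw [omul_r0, hx 0]
    simp [aC]
  · change omul _ _ (.inr 1) = 0
    rw [omul_r1, hx 1]
    simp [aC]
  · change omul _ _ (.inr 2) = 0
    rw [omul_r2, hx 2]
    simp [aC]
  · change omul _ _ (.inr 3) = 0
    rw [omul_r3, hx 3]
    simp [aC]

theorem kp_refl {a : V8 F} (ha : plusForm 4 F a ≠ 0) :
    kp F (gamO _ ⟨refl (plusForm 4 F) a ha, refl_mem_O ha⟩) = -1 := kappa_refl _ ha

theorem bG_one : bG (one8 F) (by rw [norm_one8]; exact one_ne_zero) = 1 := by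
  apply Subtype.ext
  ext1 x
  change omul (omul (one8 F) x) (one8 F) = x
  rw [one_omul, omul_one]

theorem kp_kapG : kp F (kapG F) = -1 := by
  have h1 := kp_refl (a := one8 F) (by rw [norm_one8]; exact one_ne_zero)
  rw [gamO_refl, bG_one, one_mul, map_mul, kp_scal, one_mul] at h1
  exact h1

/-! ### Every semisimilarity with `kappa = 1` is the first member of a triple -/

/-- Linear semisimilarities of multiplier one are isometries. -/
theorem exists_gamO {V : Type*} [AddCommGroup V] [Module F V] {Q : QuadraticForm F V}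
    {M : Gam Q} (h : IsSS Q (RingEquiv.refl F) 1 M.1) : ∃ x : O Q, gamO Q x = M := by
  refine ⟨⟨{ M.1 with
    map_add' := h.add
    map_smul' := h.smul }, fun v => ?_⟩, ?_⟩
  · have := h.form v
    rw [one_mul] at this
    exact this
  · apply Subtype.ext
    ext1 v
    rfl

/-- The subgroup of the elements which have the expected position. -/
def S1 (F : Type*) [Field F] : Subgroup (G8 F) where
  carrier := {M | (kp F M = 1 ∧ M ∈ T1 F) ∨ (kp F M = -1 ∧ M * kapG F ∈ T1 F)}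
  mul_mem' := by
    have e1 : ∀ M N : G8 F, M * N * kapG F = M * (N * kapG F) := fun M N => mul_assoc _ _ _
    have e2 : ∀ M N : G8 F, M * N * kapG F = (M * kapG F) * (kapG F * N * kapG F) := by
      intro M N
      have : (M * kapG F) * (kapG F * N * kapG F) = M * (kapG F * kapG F) * N * kapG F := by group
      rw [this, kapG_mul_kapG, mul_one]
    have e3 : ∀ M N : G8 F, M * N = (M * kapG F) * (kapG F * (N * kapG F) * kapG F) := by
      intro M N
      have : (M * kapG F) * (kapG F * (N * kapG F) * kapG F) =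
        M * (kapG F * kapG F) * N * (kapG F * kapG F) := by group
      rw [this, kapG_mul_kapG, mul_one, mul_one]
    rintro M N (⟨h1, h2⟩ | ⟨h1, h2⟩) (⟨k1, k2⟩ | ⟨k1, k2⟩)
    · exact Or.inl ⟨by rw [map_mul, h1, k1, one_mul], mul_mem h2 k2⟩
    · exact Or.inr ⟨by rw [map_mul, h1, k1, one_mul], by rw [e1]; exact mul_mem h2 k2⟩
    · exact Or.inr ⟨by rw [map_mul, h1, k1, mul_one], by rw [e2]; exact mul_mem h2 (kap_mem_T1 k2)⟩
    · exact Or.inl ⟨by rw [map_mul, h1, k1]; decide, by rw [e3]; exact mul_mem h2 (kap_mem_T1 k2)⟩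
  one_mem' := Or.inl ⟨map_one _, one_mem _⟩
  inv_mem' := by
    rintro M (⟨h1, h2⟩ | ⟨h1, h2⟩)
    · exact Or.inl ⟨by rw [map_inv, h1, inv_one], inv_mem h2⟩
    · refine Or.inr ⟨by rw [map_inv, h1]; decide, ?_⟩
      have h3 := kap_mem_T1 (inv_mem h2)
      have h4 : kapG F * (M * kapG F)⁻¹ * kapG F = (kapG F * (kapG F)⁻¹) * M⁻¹ * kapG F := by group
      rwa [h4, mul_inv_cancel, one_mul] at h3

theorem gamO_mem_S1 (hG : Good (plusForm 4 F)) (x : O (plusForm 4 F)) :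
    gamO _ x ∈ S1 F := by
  have key : ∀ x ∈ Subgroup.closure (reflSet (plusForm 4 F) ∪ siegelSet (plusForm 4 F)),
      ∀ hx : x ∈ O (plusForm 4 F), gamO _ ⟨x, hx⟩ ∈ S1 F := by
    have hO : Subgroup.closure (reflSet (plusForm 4 F) ∪ siegelSet (plusForm 4 F)) =
      O (plusForm 4 F) := (O_eq_closure hG.nondeg).symm
    intro x hx
    induction hx using Subgroup.closure_induction with
    | mem x hx =>
      intro hxO
      rcases hx with ⟨v, hv, rfl⟩ | hx
      · refine Or.inr ⟨kp_refl hv, ?_⟩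
        rw [gamO_refl, mul_assoc, mul_assoc, kapG_mul_kapG, mul_one]
        exact mul_mem (scal_mem_T1 _) ⟨_, _, tri_bG v hv⟩
      · have h1 : x ∈ E (plusForm 4 F) := Subgroup.subset_closure hx
        exact Or.inl ⟨kappa_of_E hG _ h1, gamO_mem_T1 hG (x := ⟨x, hxO⟩) h1⟩
    | one =>
      intro hxO
      have : (⟨1, hxO⟩ : O (plusForm 4 F)) = 1 := rfl
      rw [this, map_one]
      exact one_mem _
    | mul x y hx hy ihx ihy =>
      intro hxO
      have h1 : x ∈ O (plusForm 4 F) := by rw [← hO]; exact hx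
      have h2 : y ∈ O (plusForm 4 F) := by rw [← hO]; exact hy
      have : (⟨x * y, hxO⟩ : O (plusForm 4 F)) = ⟨x, h1⟩ * ⟨y, h2⟩ := rfl
      rw [this, map_mul]
      exact mul_mem (ihx h1) (ihy h2)
    | inv x hx ih =>
      intro hxO
      have h1 : x ∈ O (plusForm 4 F) := by rw [← hO]; exact hx
      have : (⟨x⁻¹, hxO⟩ : O (plusForm 4 F)) = (⟨x, h1⟩ : O (plusForm 4 F))⁻¹ := rfl
      rw [this, map_inv]
      exact inv_mem (ih h1)
  exact key x.1 (by rw [← O_eq_closure hG.nondeg]; exact x.2) x.2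

theorem mem_S1 (hG : Good (plusForm 4 F)) (M : G8 F) : M ∈ S1 F := by
  obtain ⟨σ, c, hM⟩ := M.2
  set l : G8 F := lG (aC c) (norm_aC_ne (Units.mk0 c hM.ne)) with hl
  have h1 : IsSS (plusForm 4 F) (RingEquiv.refl F) 1 (l⁻¹ * M * (fG σ)⁻¹).1 := by
    have h2 := ((isSS_lP (aC c) (norm_aC_ne (Units.mk0 c hM.ne))).inv.mul hM).mul (isSS_fP σ).inv
    have h3 : σ.symm.trans (σ.trans (RingEquiv.refl F).symm) = RingEquiv.refl F := by
      ext x
      simp
    have h4 : (RingEquiv.refl F).symm (plusForm 4 F (aC c))⁻¹ * (RingEquiv.refl F).symm c *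
        (σ.trans (RingEquiv.refl F).symm) (σ.symm 1⁻¹) = 1 := by
      rw [norm_aC]
      simp [inv_mul_cancel₀ hM.ne]
    rw [h3, h4] at h2
    exact h2
  obtain ⟨x, hx⟩ := exists_gamO h1
  have h5 : M = l * gamO _ x * fG σ := by rw [hx]; group
  rw [h5]
  refine mul_mem (mul_mem (Or.inl ⟨?_, ⟨_, _, tri_lG _ _⟩⟩) (gamO_mem_S1 hG x))
    (Or.inl ⟨kp_fG σ, ⟨_, _, tri_fG σ⟩⟩)
  exact kp_lG_aC (Units.mk0 c hM.ne)

theorem kapG_not_mem : kapG F ∉ T1 F := by
  rintro ⟨M₁, M₂, h⟩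
  obtain ⟨σ, c, hM⟩ := M₁.2
  have h0 : M₁.1 (e8 F) ≠ 0 := by
    rw [← hM.map_zero]
    exact fun h => e8_ne (M₁.1.injective h)
  have h1 : plusForm 4 F (M₁.1 (e8 F)) = 0 := by
    rw [hM.form, norm_e8, map_zero, mul_zero]
  have h2 : plusForm 4 F (oconj (e8 F)) = 0 := by rw [norm_oconj, norm_e8]
  refine leftSp_ne_rightSp h1 h0 h2 (oconj_ne_zero e8_ne) ?_
  ext z
  rw [mem_leftSp, mem_rightSp]
  constructor
  · rintro ⟨y, rfl⟩
    obtain ⟨y, rfl⟩ := M₂.1.surjective y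
    rw [← h]
    refine ⟨oconj y, ?_⟩
    rw [kapG_apply, oconj_omul]
  · rintro ⟨y, rfl⟩
    refine ⟨M₂.1 (oconj y), ?_⟩
    rw [← h, kapG_apply, oconj_omul, oconj_oconj]

theorem mem_T1_iff (hG : Good (plusForm 4 F)) {M : G8 F} : M ∈ T1 F ↔ kp F M = 1 := by
  constructor
  · intro h
    rcases mem_S1 hG M with h1 | ⟨h1, h2⟩
    · exact h1.1
    · exfalso
      apply kapG_not_mem (F := F)
      have := mul_mem (inv_mem h) h2
      rwa [inv_mul_cancel_left] at this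
  · intro h
    rcases mem_S1 hG M with h1 | ⟨h1, -⟩
    · exact h1.2
    · rw [h] at h1
      exact absurd h1 (by decide)

/-! ### The second symmetry of triples -/

/-- Members of a triple are semilinear with respect to the same field automorphism. -/
theorem TriS.field {M M₁ M₂ : G8 F} (h : TriS M M₁ M₂) {σ σ₁ : F ≃+* F} {c c₁ : F}
    (hM : IsSS (plusForm 4 F) σ c M.1) (hM₁ : IsSS (plusForm 4 F) σ₁ c₁ M₁.1) : σ = σ₁ := by
  ext t
  have h1 := h (t • one8 F) (one8 F)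
  rw [smul_omul, hM.smul, hM₁.smul, smul_omul, ← h] at h1
  have h2 : (σ t - σ₁ t) • M.1 (omul (one8 F) (one8 F)) = 0 := by rw [sub_smul, h1, sub_self]
  rcases smul_eq_zero.1 h2 with h3 | h3
  · exact sub_eq_zero.1 h3
  · exfalso
    rw [← hM.map_zero] at h3
    have h4 := M.1.injective h3
    rw [one_omul] at h4
    have h5 := norm_one8 (F := F)
    rw [h4, QuadraticMap.map_zero] at h5
    exact zero_ne_one h5

/-- The scalar and conjugate `c⁻¹ κ M κ`. -/
def hatG (c : Fˣ) (M : G8 F) : G8 F := scal _ c⁻¹ * (kapG F * M * kapG F)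

theorem TriS.field₂ {M M₁ M₂ : G8 F} (h : TriS M M₁ M₂) {σ σ₂ : F ≃+* F} {c c₂ : F}
    (hM : IsSS (plusForm 4 F) σ c M.1) (hM₂ : IsSS (plusForm 4 F) σ₂ c₂ M₂.1) : σ = σ₂ := by
  ext t
  have h1 := h (one8 F) (t • one8 F)
  rw [omul_smul, hM.smul, hM₂.smul, omul_smul, ← h] at h1
  have h2 : (σ t - σ₂ t) • M.1 (omul (one8 F) (one8 F)) = 0 := by rw [sub_smul, h1, sub_self]
  rcases smul_eq_zero.1 h2 with h3 | h3
  · exact sub_eq_zero.1 h3
  · exfalso
    rw [← hM.map_zero] at h3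
    have h4 := M.1.injective h3
    rw [one_omul] at h4
    have h5 := norm_one8 (F := F)
    rw [h4, QuadraticMap.map_zero] at h5
    exact zero_ne_one h5

theorem TriS.mult {M M₁ M₂ : G8 F} (h : TriS M M₁ M₂) {σ σ₁ σ₂ : F ≃+* F} {c c₁ c₂ : F}
    (hM : IsSS (plusForm 4 F) σ c M.1) (hM₁ : IsSS (plusForm 4 F) σ₁ c₁ M₁.1)
    (hM₂ : IsSS (plusForm 4 F) σ₂ c₂ M₂.1) : c = c₁ * c₂ := by
  have h1 := congrArg (plusForm 4 F) (h (one8 F) (one8 F))
  rw [hM.form, norm_omul, norm_omul, hM₁.form, hM₂.form, norm_one8, mul_one, map_one, map_one,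
    map_one, mul_one, mul_one, mul_one] at h1
  exact h1

/-- `(M₁, M, c₂⁻¹ κ M₂ κ)` is a triple. -/
theorem TriS.swap {M M₁ M₂ : G8 F} (h : TriS M M₁ M₂) {σ₂ : F ≃+* F} {c₂ : Fˣ}
    (hM₂ : IsSS (plusForm 4 F) σ₂ (c₂ : F) M₂.1) : TriS M₁ M (hatG c₂ M₂) := by
  obtain ⟨σ, c, hM⟩ := M.2
  obtain ⟨σ₁, c₁, hM₁⟩ := M₁.2
  obtain rfl := h.field hM hM₁
  obtain rfl := h.field₂ hM hM₂
  have hc := h.mult hM hM₁ hM₂
  have hc₁ := hM₁.ne
  have hc₂ := c₂.ne_zero
  intro z y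
  obtain ⟨x, rfl⟩ : ∃ x, oconj x = y := ⟨oconj y, oconj_oconj y⟩
  have hr : (hatG c₂ M₂).1 (oconj x) = (c₂ : F)⁻¹ • oconj (M₂.1 x) := by
    change ((c₂⁻¹ : Fˣ) : F) • oconj (M₂.1 (oconj (oconj x))) = _
    rw [oconj_oconj, Units.val_inv_eq_inv_val]
  rw [hr, omul_smul]
  have key : ∀ w, polar (plusForm 4 F) (M₁.1 w) (M₁.1 (omul z (oconj x))) =
      polar (plusForm 4 F) (M₁.1 w) ((c₂ : F)⁻¹ • omul (M.1 z) (oconj (M₂.1 x))) := by
    intro w
    rw [hM₁.polar, ← polar_omul, polar_smul_right, ← polar_omul, ← h, hM.polar, hc, smul_eq_mul]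
    field_simp
  have h3 : M₁.1 (omul z (oconj x)) - (c₂ : F)⁻¹ • omul (M.1 z) (oconj (M₂.1 x)) = 0 := by
    apply ClassicalGeometry.Triality.nondeg8
    intro y
    obtain ⟨w, rfl⟩ := M₁.1.surjective y
    rw [polar_comm, polar_sub_right, key, sub_self]
  exact sub_eq_zero.1 h3

theorem TriS.mem₁ {M M₁ M₂ : G8 F} (h : TriS M M₁ M₂) : M₁ ∈ T1 F := by
  obtain ⟨σ₂, c₂, hM₂⟩ := M₂.2
  exact ⟨_, _, h.swap (c₂ := Units.mk0 c₂ hM₂.ne) hM₂⟩

theorem TriS.mem₂ {M M₁ M₂ : G8 F} (h : TriS M M₁ M₂) : M₂ ∈ T1 F := by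
  have h1 := kap_mem_T1 h.kap.mem₁
  have h2 : kapG F * (kapG F * M₂ * kapG F) * kapG F =
    (kapG F * kapG F) * M₂ * (kapG F * kapG F) := by group
  rwa [h2, kapG_mul_kapG, one_mul, mul_one] at h1

end Cfsg.Agent.H198.TriBase
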