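import Mathlib
import Cfsg.Agent.H198.TriAut
set_option linter.all false

/-!
# `Aut PΩ₈⁺(F)` and its inner-diagonal subgroup (helper198)

`F` finite, `hG : Good (plusQ 4 F)`, `Phi hG : Gam (plusQ 4 F) →* MulAut (POmega F (quadFormPlus 4 F))`.

* `TriData hG hN ρ` : `ρ` is a triality automorphism of order three; `exists_triality`;
* `inndiag_plus_normal'` : `Inndiag(PΩ⁺_{2m}(F))` is normal in the automorphism group, all `m ≥ 4`.
-/

set_option autoImplicit false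

namespace Cfsg.Agent.H198.TriInn

open Module QuadraticMap Cfsg.Agent.LieClassical.OrthCore Cfsg.Agent.LieClassical.OrthTrans
  Cfsg.Agent.LieClassical.OrthSimple Cfsg.Agent.ClassicalGeometry.OrthAut1
  Cfsg.Agent.ClassicalGeometry.OrthSemi Cfsg.Agent.H198.Classes Cfsg.Agent.H198.OrthFrame
  Cfsg.Agent.LieClassical.QuadForms Cfsg.Agent.H198.ClassesPlus Cfsg.Agent.H198.Carriers
  Cfsg.Agent.ClassicalGeometry.TrialityOct Cfsg.Agent.ClassicalGeometry.Triality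
  Cfsg.Agent.ClassicalGeometry.TrialitySpaces Cfsg.Agent.H198.TriBase Cfsg.Agent.H198.TriAut
  Cfsg.Agent.AutOrth.Main

universe u

variable {F : Type u} [Field F]

/-- `ρ` is a triality automorphism of `POmega F Q`, `Q` a form isometric to the octonion norm. -/
structure TriData {Q : QuadraticForm F (Fin 4 ⊕ Fin 4 → F)} (hG : Good Q) (hN : Neutral Q 4)
    (ρ : MulAut (POmega F ⇑Q)) : Prop where
  cube : ρ ^ 3 = 1
  not_mem : ρ ∉ (Phi hG).range
  conj : ∀ M : Gam Q, kappa hN M = 1 → ∃ M₁ : Gam Q, kappa hN M₁ = 1 ∧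
    (∀ σ c, IsSS Q σ c M.1 → ∃ c₁, IsSS Q σ c₁ M₁.1) ∧ ρ * Phi hG M * ρ⁻¹ = Phi hG M₁
  cases : ∀ α : MulAut (POmega F ⇑Q), ∃ (i : ℕ) (M : Gam Q), i < 3 ∧ α = ρ ^ i * Phi hG M
  inv : ∃ κ : Gam Q, kappa hN κ = -1 ∧ IsSS Q (RingEquiv.refl F) 1 κ.1 ∧ κ * κ = 1 ∧
    Phi hG κ * ρ * Phi hG κ = ρ⁻¹

theorem isSS_kapG : IsSS (plusForm 4 F) (RingEquiv.refl F) 1 (kapG F).1 := by
  refine ⟨one_ne_zero, fun u v => ?_, fun a v => ?_, fun v => ?_⟩
  · exact map_add (kap F) u v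
  · exact map_smul (kap F) a v
  · rw [one_mul]
    exact norm_oconj v

set_option maxHeartbeats 2000000 in
theorem kap_rho_kap (hG : Good (plusForm 4 F)) :
    Psi _ (kapG F) * rho hG * Psi _ (kapG F) = (rho hG)⁻¹ := by
  have h1 : (Psi (plusForm 4 F) (kapG F))⁻¹ = Psi (plusForm 4 F) (kapG F) := by
    rw [← map_inv (Psi (plusForm 4 F)) (kapG F), kapG_inv]
  have h2 : rho hG = (Psi (plusForm 4 F) (kapG F))⁻¹ * tau hG := by rw [h1, rho]
  calc _ = Psi (plusForm 4 F) (kapG F) * ((Psi (plusForm 4 F) (kapG F))⁻¹ * tau hG) *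
        Psi _ (kapG F) := by rw [← h2]
    _ = tau hG * Psi _ (kapG F) := by rw [mul_inv_cancel_left]
    _ = (tau hG)⁻¹ * (Psi (plusForm 4 F) (kapG F))⁻¹ := by rw [tau_inv, h1]
    _ = (rho hG)⁻¹ := (mul_inv_rev _ _).symm

set_option maxHeartbeats 2000000 in
theorem exists_triality [Finite F] {Q : QuadraticForm F (Fin 4 ⊕ Fin 4 → F)}
    (hQ : Q = plusForm 4 F) (hG : Good Q) (hN : Neutral Q 4) :
    ∃ ρ : MulAut (POmega F ⇑Q), TriData hG hN ρ := by
  subst hQ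
  set e : MulAut (P8 F) ≃* MulAut (POmega F ⇑(plusForm 4 F)) := MulAut.congr (pe hG).symm with he
  have hPhi : ∀ M, Phi hG M = e (Psi _ M) := fun M => rfl
  refine ⟨e (rho hG), ?_, ?_, ?_, ?_, ?_⟩
  · rw [← map_pow, rho_pow_three, map_one]
  · rintro ⟨M, hM⟩
    rw [hPhi] at hM
    exact rho_not_mem hG ⟨M, e.injective hM⟩
  · intro M hM
    obtain ⟨M₁, M₂, h⟩ := (mem_T1_iff hG).2 hM
    refine ⟨kapG F * M₁ * kapG F, (mem_T1_iff hG).1 (kap_mem_T1 h.mem₁), fun σ c hc => ?_, ?_⟩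
    · obtain ⟨σ₁, c₁, hM₁⟩ := M₁.2
      obtain rfl := h.field hc hM₁
      have h2 := (isSS_kapG.mul hM₁).mul isSS_kapG
      have h3 : (RingEquiv.refl F).trans (σ.trans (RingEquiv.refl F)) = σ := by
        ext x
        simp
      rw [h3] at h2
      exact ⟨_, h2⟩
    · have h1 := congrArg e (rho_conj hG h)
      rw [map_mul, map_mul, map_inv] at h1
      exact h1
  · intro α
    obtain ⟨i, M, hi, h⟩ := aut_cases hG (e.symm α)
    refine ⟨i, M, hi, ?_⟩
    have h1 := congrArg e h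
    rw [map_mul e, map_pow e, MulEquiv.apply_symm_apply] at h1
    exact h1
  · refine ⟨kapG F, kp_kapG, isSS_kapG, kapG_mul_kapG, ?_⟩
    have h1 := congrArg e (kap_rho_kap hG)
    rw [map_mul, map_mul, map_inv] at h1
    exact h1

/-- Conjugation by any automorphism of `PΩ₈⁺` preserves the image of the class-preserving
similarities. -/
theorem TriData.conj_mem {Q : QuadraticForm F (Fin 4 ⊕ Fin 4 → F)} {hG : Good Q}
    {hN : Neutral Q 4} {ρ : MulAut (POmega F ⇑Q)} (hρ : TriData hG hN ρ) (α : MulAut (POmega F ⇑Q))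
    {β : MulAut (POmega F ⇑Q)} (hβ : β ∈ (((kappa hN).comp (simGam Q)).ker).map (S hG)) :
    α * β * α⁻¹ ∈ (((kappa hN).comp (simGam Q)).ker).map (S hG) := by
  obtain ⟨i, M, -, rfl⟩ := hρ.cases α
  have h1 := conj_mem_map_kappa hG hN M hβ
  have h2 : ∀ (i : ℕ) {γ : MulAut (POmega F ⇑Q)},
      γ ∈ (((kappa hN).comp (simGam Q)).ker).map (S hG) →
      ρ ^ i * γ * (ρ ^ i)⁻¹ ∈ (((kappa hN).comp (simGam Q)).ker).map (S hG) := by
    intro i
    induction i with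
    | zero =>
      intro γ hγ
      simpa using hγ
    | succ i ih =>
      intro γ hγ
      have e : ρ ^ (i + 1) * γ * (ρ ^ (i + 1))⁻¹ = ρ ^ i * (ρ * γ * ρ⁻¹) * (ρ ^ i)⁻¹ := by
        rw [pow_succ]
        group
      rw [e]
      apply ih
      obtain ⟨g, hg, rfl⟩ := hγ
      obtain ⟨M₁, hk, hss, hc⟩ := hρ.conj (simGam Q g) hg
      obtain ⟨d, hd⟩ := g.2
      obtain ⟨c₁, hc₁⟩ := hss (RingEquiv.refl F) d (isSS_perm d.ne_zero hd)
      obtain ⟨k, hkk⟩ := exists_sim_of_refl hc₁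
      refine ⟨k, ?_, ?_⟩
      · rw [SetLike.mem_coe, MonoidHom.mem_ker, MonoidHom.comp_apply, hkk, hk]
      · change Phi hG (simGam Q k) = _
        rw [hkk, ← hc]
        rfl
  have e : ρ ^ i * Phi hG M * β * (ρ ^ i * Phi hG M)⁻¹ =
      ρ ^ i * (Phi hG M * β * (Phi hG M)⁻¹) * (ρ ^ i)⁻¹ := by group
  rw [e]
  exact h2 i h1

/-- `Inndiag(PΩ₈⁺(F))` is normal in the automorphism group. -/
theorem inndiag_plus_normal_four [Finite F] : (inndiagPOmegaPlus 4 F).Normal := by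
  have hG := good_plusQ (F := F) (m := 4) (by omega)
  obtain ⟨ρ, hρ⟩ := exists_triality (plusQ_eq 4 F) hG (neutral_plusQ 4 F)
  refine ⟨fun β hβ α => ?_⟩
  rw [inndiag_plus_eq hG] at hβ ⊢
  exact hρ.conj_mem α hβ

/-- `Inndiag(PΩ⁺_{2m}(F))` is normal in the automorphism group, `m ≥ 4`. -/
theorem inndiag_plus_normal' [Finite F] {m : ℕ} (hm : 4 ≤ m) : (inndiagPOmegaPlus m F).Normal := by
  rcases hm.eq_or_lt with rfl | h
  · exact inndiag_plus_normal_four
  · exact inndiag_plus_normal h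

end Cfsg.Agent.H198.TriInn
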