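import Mathlib
import Cfsg.Agent.LieClassical.OrthCore
import Cfsg.Agent.H160.QFinal
import Cfsg.Agent.H899.O7.Spec
import Cfsg.Agent.H938.Sax.Base
import Cfsg.Agent.UGT.U2.Rec.Congr
import Cfsg.Agent.H813.SaxSpM
import Cfsg.Agent.S0270
import Cfsg.Agent.FastGrp
import Cfsg.Agent.Prune
set_option linter.all false

section
prune_inst 0x7fbeadf9abb829dedfff7e7fa6dccffdffbcbfffe6dff9cb7fe0ebff0bdf4b00cbc5ab8f8fea10fe0ef6623410f87b53fb7eeeffe26bdc7ffffd5ff41ffbffdfedf7b508519598340fbc0ffe03f0778e7f3fffffffffffffffffffffffffffbeffbfffffffff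

-- part: H198/SaxO8P3
section
prune_inst 0x20042800100000000000200000001000000200400000004000000101004000000000020001100000040000000000000000000000000000000000000000000000000080080000000000000000000000000000000000000000000000000000000000000
set_option linter.all false
open scoped Cfsg.Agent.FastGrp

-- part: H198/SaxMat
section
/-!
# The centralizer of a nilpotent matrix of type `(5, 3)` (helper198)
-/

set_option autoImplicit false
set_option linter.unusedSectionVars false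
set_option maxRecDepth 100000

namespace Cfsg.Agent.H198.Sax

open Matrix

/-- the nilpotent matrix of type `(5, 3)` -/
def Nm : Matrix (Fin 8) (Fin 8) (ZMod 3) :=
  !![0, 0, 1, 0, 0, 0, 0, 0;
    0, 0, 0, 1, 0, 0, 0, 0;
    0, 0, 0, 0, 1, 0, 0, 0;
    0, 0, 0, 0, 0, 1, 0, 0;
    0, 0, 0, 0, 0, 0, 1, 0;
    0, 0, 0, 0, 0, 0, 0, 0;
    0, 0, 0, 0, 0, 0, 0, 1;
    0, 0, 0, 0, 0, 0, 0, 0]

variable {X : Matrix (Fin 8) (Fin 8) (ZMod 3)}

theorem left_mul_Nm (X : Matrix (Fin 8) (Fin 8) (ZMod 3)) (i : Fin 8) :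
    (X * Nm) i 0 = 0 ∧ (X * Nm) i 1 = 0 ∧ (X * Nm) i 2 = X i 0 ∧ (X * Nm) i 3 = X i 1 ∧ (X * Nm) i 4 = X i 2 ∧
      (X * Nm) i 5 = X i 3 ∧ (X * Nm) i 6 = X i 4 ∧ (X * Nm) i 7 = X i 6 := by
  refine ⟨?_, ?_, ?_, ?_, ?_, ?_, ?_, ?_⟩ <;>
    simp [Matrix.mul_apply, Fin.sum_univ_eight, Nm]

theorem right_mul_Nm (X : Matrix (Fin 8) (Fin 8) (ZMod 3)) (j : Fin 8) :
    (Nm * X) 0 j = X 2 j ∧ (Nm * X) 1 j = X 3 j ∧ (Nm * X) 2 j = X 4 j ∧ (Nm * X) 3 j = X 5 j ∧ (Nm * X) 4 j = X 6 j ∧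
      (Nm * X) 5 j = 0 ∧ (Nm * X) 6 j = X 7 j ∧ (Nm * X) 7 j = 0 := by
  refine ⟨?_, ?_, ?_, ?_, ?_, ?_, ?_, ?_⟩ <;>
    simp [Matrix.mul_apply, Fin.sum_univ_eight, Nm]

theorem tri (h : X * Nm = Nm * X) :
    (∀ i j : Fin 8, j < i → X i j = 0) ∧ X 6 6 = X 7 7 ∧ X 4 4 = X 7 7 ∧ X 2 2 = X 7 7 ∧ X 0 0 = X 7 7 ∧
      X 3 3 = X 5 5 ∧ X 1 1 = X 5 5 := by
  have e : ∀ i j, (X * Nm) i j = (Nm * X) i j := fun i j => by rw [h]
  obtain ⟨a00, a01, a02, a03, a04, a05, a06, a07⟩ := left_mul_Nm X 0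
  obtain ⟨a10, a11, a12, a13, a14, a15, a16, a17⟩ := left_mul_Nm X 1
  obtain ⟨a20, a21, a22, a23, a24, a25, a26, a27⟩ := left_mul_Nm X 2
  obtain ⟨a30, a31, a32, a33, a34, a35, a36, a37⟩ := left_mul_Nm X 3
  obtain ⟨a40, a41, a42, a43, a44, a45, a46, a47⟩ := left_mul_Nm X 4
  obtain ⟨a50, a51, a52, a53, a54, a55, a56, a57⟩ := left_mul_Nm X 5
  obtain ⟨a60, a61, a62, a63, a64, a65, a66, a67⟩ := left_mul_Nm X 6
  obtain ⟨a70, a71, a72, a73, a74, a75, a76, a77⟩ := left_mul_Nm X 7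
  obtain ⟨b00, b10, b20, b30, b40, b50, b60, b70⟩ := right_mul_Nm X 0
  obtain ⟨b01, b11, b21, b31, b41, b51, b61, b71⟩ := right_mul_Nm X 1
  obtain ⟨b02, b12, b22, b32, b42, b52, b62, b72⟩ := right_mul_Nm X 2
  obtain ⟨b03, b13, b23, b33, b43, b53, b63, b73⟩ := right_mul_Nm X 3
  obtain ⟨b04, b14, b24, b34, b44, b54, b64, b74⟩ := right_mul_Nm X 4
  obtain ⟨b05, b15, b25, b35, b45, b55, b65, b75⟩ := right_mul_Nm X 5
  obtain ⟨b06, b16, b26, b36, b46, b56, b66, b76⟩ := right_mul_Nm X 6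
  obtain ⟨b07, b17, b27, b37, b47, b57, b67, b77⟩ := right_mul_Nm X 7
  -- columns 0, 1
  have x20 : X 2 0 = 0 := by rw [← b00, ← e, a00]
  have x21 : X 2 1 = 0 := by rw [← b01, ← e, a01]
  have x30 : X 3 0 = 0 := by rw [← b10, ← e, a10]
  have x31 : X 3 1 = 0 := by rw [← b11, ← e, a11]
  have x40 : X 4 0 = 0 := by rw [← b20, ← e, a20]
  have x41 : X 4 1 = 0 := by rw [← b21, ← e, a21]
  have x50 : X 5 0 = 0 := by rw [← b30, ← e, a30]
  have x51 : X 5 1 = 0 := by rw [← b31, ← e, a31]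
  have x60 : X 6 0 = 0 := by rw [← b40, ← e, a40]
  have x61 : X 6 1 = 0 := by rw [← b41, ← e, a41]
  have x70 : X 7 0 = 0 := by rw [← b60, ← e, a60]
  have x71 : X 7 1 = 0 := by rw [← b61, ← e, a61]
  -- rows 5, 7
  have x72 : X 7 2 = 0 := by rw [← a74, e, b74]
  have x73 : X 7 3 = 0 := by rw [← a75, e, b75]
  have x74 : X 7 4 = 0 := by rw [← a76, e, b76]
  have x76 : X 7 6 = 0 := by rw [← a77, e, b77]
  have x52 : X 5 2 = 0 := by rw [← a54, e, b54]
  have x53 : X 5 3 = 0 := by rw [← a55, e, b55]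
  have x54 : X 5 4 = 0 := by rw [← a56, e, b56]
  have x56 : X 5 6 = 0 := by rw [← a57, e, b57]
  -- the others
  have x62 : X 6 2 = 0 := by rw [← a64, e, b64, x74]
  have x64 : X 6 4 = 0 := by rw [← a66, e, b66, x76]
  have x66 : X 6 6 = X 7 7 := by rw [← a67, e, b67]
  have x63 : X 6 3 = X 7 5 := by rw [← a65, e, b65]
  have x75 : X 7 5 = 0 := by rw [← x63, ← b43, ← e, a43, x41]
  have x42 : X 4 2 = 0 := by rw [← a44, e, b44, x64]
  have x44 : X 4 4 = X 6 6 := by rw [← a46, e, b46]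
  have x43 : X 4 3 = X 6 5 := by rw [← a45, e, b45]
  have x65 : X 6 5 = 0 := by rw [← x43, ← b23, ← e, a23, x21]
  have x22 : X 2 2 = X 4 4 := by rw [← a24, e, b24]
  have x00 : X 0 0 = X 2 2 := by rw [← a02, e, b02]
  have x32 : X 3 2 = 0 := by rw [← a34, e, b34, x54]
  have x33 : X 3 3 = X 5 5 := by rw [← a35, e, b35]
  have x10 : X 1 0 = 0 := by rw [← a12, e, b12, x32]
  have x11 : X 1 1 = X 3 3 := by rw [← a13, e, b13]
  refine ⟨?_, x66, x44.trans x66, x22.trans (x44.trans x66), x00.trans (x22.trans (x44.trans x66)), x33, x11.trans x33⟩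
  intro i j hij
  fin_cases i <;> fin_cases j <;> first
    | exact absurd hij (by decide)
    | assumption
    | exact x63.trans x75
    | exact x43.trans x65

theorem strict_zero {Y : Matrix (Fin 8) (Fin 8) (ZMod 3)} (h : ∀ i j : Fin 8, j ≤ i → Y i j = 0) (hY : Y = Y * Y) :
    Y = 0 := by
  have key : ∀ (n : ℕ) (i j : Fin 8), (j : ℕ) ≤ i + n → Y i j = 0 := by
    intro n
    induction n with
    | zero => intro i j hij; exact h i j hij
    | succ n ih =>
      intro i j hij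
      rw [hY, Matrix.mul_apply]
      refine Finset.sum_eq_zero fun k _ => ?_
      by_cases hk : k ≤ i
      · rw [h i k hk, zero_mul]
      · by_cases hk2 : j ≤ k
        · rw [h k j hk2, mul_zero]
        · have h1 : (i : ℕ) < k := not_le.1 hk
          rw [ih k j (by omega), mul_zero]
  ext i j
  exact key 8 i j (by have := j.2; omega)

theorem units_three (a : ZMod 3) (h : a * a = 1 ∨ a * a = -1) : a = 1 ∨ a = -1 := by
  revert h; revert a; decide

/-- the involutions of determinant one in the centralizer -/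
theorem cent (h : X * Nm = Nm * X) (hsq : X * X = 1 ∨ X * X = -1) (hdet : X.det = 1) : X = 1 ∨ X = -1 := by
  obtain ⟨ht, x66, x44, x22, x00, x33, x11⟩ := tri h
  have hd : ∀ i, X i i * X i i = (X * X) i i := by
    intro i
    rw [Matrix.mul_apply, Finset.sum_eq_single i]
    · intro k _ hk
      rcases lt_or_gt_of_ne hk with h1 | h1
      · rw [ht i k h1, zero_mul]
      · rw [ht k i h1, mul_zero]
    · intro h1
      exact absurd (Finset.mem_univ i) h1
  have hu : ∀ i, X i i = 1 ∨ X i i = -1 := by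
    intro i
    apply units_three
    rw [hd i]
    rcases hsq with h1 | h1
    · left; rw [h1, Matrix.one_apply_eq]
    · right; rw [h1, Matrix.neg_apply, Matrix.one_apply_eq]
  have hdet2 : X.det = X 7 7 ^ 5 * X 5 5 ^ 3 := by
    rw [Matrix.det_of_upperTriangular (fun i j hij => ht i j hij), Fin.prod_univ_eight, x66, x44, x22, x00, x33, x11]
    ring
  rw [hdet] at hdet2
  have h57 : X 5 5 = X 7 7 := by
    rcases hu 5 with h1 | h1 <;> rcases hu 7 with h2 | h2 <;> rw [h1, h2] at hdet2 <;> rw [h1, h2] <;>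
      first | rfl | exact absurd hdet2 (by decide)
  have hdiag : ∀ i, X i i = X 7 7 := by
    intro i
    fin_cases i
    · exact x00
    · exact x11.trans h57
    · exact x22
    · exact x33.trans h57
    · exact x44
    · exact h57
    · exact x66
    · rfl
  have hsq1 : X * X = 1 := by
    rcases hsq with h1 | h1
    · exact h1
    · exfalso
      have h2 := hd 7
      rw [h1, Matrix.neg_apply, Matrix.one_apply_eq] at h2
      rcases hu 7 with h3 | h3 <;> rw [h3] at h2 <;> exact absurd h2 (by decide)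
  have main : ∀ Z : Matrix (Fin 8) (Fin 8) (ZMod 3), (∀ i j : Fin 8, j < i → Z i j = 0) → (∀ i, Z i i = 1) →
      Z * Z = 1 → Z = 1 := by
    intro Z h1 h2 h3
    have h4 : Z - 1 = 0 := by
      apply strict_zero
      · intro i j hij
        rcases lt_or_eq_of_le hij with h5 | h5
        · rw [Matrix.sub_apply, h1 i j h5, Matrix.one_apply_ne h5.ne', sub_zero]
        · rw [← h5, Matrix.sub_apply, h2, Matrix.one_apply_eq, sub_self]
      · have h5 : (Z - 1) * (Z - 1) = Z * Z - 2 • Z + 1 := by noncomm_ring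
        rw [h5, h3]
        have h6 : (3 : ℕ) • (Z - 1) = 0 := by
          ext i j
          rw [Matrix.smul_apply, nsmul_eq_mul]
          have : ((3 : ℕ) : ZMod 3) = 0 := by decide
          rw [this, zero_mul]
          rfl
        have h7 : Z - 1 - (1 - 2 • Z + 1) = (3 : ℕ) • (Z - 1) := by module
        rw [← sub_eq_zero, h7, h6]
    exact sub_eq_zero.1 h4
  rcases hu 7 with h1 | h1
  · left
    exact main X ht (fun i => by rw [hdiag i, h1]) hsq1
  · right
    have h2 := main (-X) (fun i j hij => by rw [Matrix.neg_apply, ht i j hij, neg_zero])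
      (fun i => by rw [Matrix.neg_apply, hdiag i, h1, neg_neg]) (by rw [neg_mul_neg, hsq1])
    rw [← h2, neg_neg]

end Cfsg.Agent.H198.Sax
end

-- part: H198/SaxLin
section
/-!
# Unipotent isometries of a seven dimensional space in characteristic three (helper198)
-/

set_option autoImplicit false
set_option linter.unusedSectionVars false

namespace Cfsg.Agent.H198.Sax

open QuadraticMap Module Cfsg.Agent.LieClassical.OrthCore

section Rank

variable {F V : Type*} [Field F] [AddCommGroup V] [Module F V] [FiniteDimensional F V]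

/-- the ranks of the powers of a nilpotent map are convex -/
theorem rank_ineq (N : Module.End F V) {j k : ℕ} (hj : N ^ (j + 1) = 0) (hk : k ≤ j) :
    finrank F (LinearMap.range (N ^ (k + 1))) + finrank F (LinearMap.range (N ^ j)) ≤
      finrank F (LinearMap.range (N ^ k)) := by
  set A := LinearMap.range (N ^ k) with hA
  let f : A →ₗ[F] V := N.domRestrict A
  have h1 : LinearMap.range f = LinearMap.range (N ^ (k + 1)) := by
    ext x
    constructor
    · rintro ⟨⟨y, z, rfl⟩, rfl⟩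
      refine ⟨z, ?_⟩
      rw [pow_succ']
      rfl
    · rintro ⟨z, rfl⟩
      refine ⟨⟨(N ^ k) z, z, rfl⟩, ?_⟩
      rw [pow_succ']
      rfl
  have h2 : LinearMap.range (N ^ j) ≤ (LinearMap.ker f).map A.subtype := by
    rintro _ ⟨z, rfl⟩
    have h3 : (N ^ j) z ∈ A := by
      refine ⟨(N ^ (j - k)) z, ?_⟩
      rw [← Module.End.mul_apply, ← pow_add, Nat.add_sub_cancel' hk]
    refine ⟨⟨_, h3⟩, ?_, rfl⟩
    change (N * N ^ j) z = 0
    rw [← pow_succ', hj]
    rfl
  have h3 := LinearMap.finrank_range_add_finrank_ker f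
  rw [h1] at h3
  have h4 := Submodule.finrank_mono h2
  rw [Submodule.finrank_map_subtype_eq] at h4
  omega

theorem rank_mul (N : Module.End F V) {j : ℕ} (hj : N ^ (j + 1) = 0) :
    (j + 1) * finrank F (LinearMap.range (N ^ j)) ≤ finrank F V := by
  have key : ∀ k : ℕ, k ≤ j → finrank F (LinearMap.range (N ^ k)) + k * finrank F (LinearMap.range (N ^ j)) ≤
      finrank F V := by
    intro k
    induction k with
    | zero => intro _; rw [zero_mul, add_zero]; exact Submodule.finrank_le _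
    | succ k ih =>
      intro hk
      have h1 := ih (by omega)
      have h2 := rank_ineq N hj (k := k) (by omega)
      rw [add_mul, one_mul]
      omega
  have h1 := key j le_rfl
  rw [add_mul, one_mul]
  omega

theorem finrank_range_pos {A : Module.End F V} (h : A ≠ 0) : 1 ≤ finrank F (LinearMap.range A) := by
  by_contra h1
  have h2 : finrank F (LinearMap.range A) = 0 := by omega
  rw [Submodule.finrank_eq_zero, LinearMap.range_eq_bot] at h2
  exact h h2

theorem nilp_bound (N : Module.End F V) {n : ℕ} (hn : finrank F V ≤ n) {j : ℕ} (hj : N ^ j = 0) : N ^ n = 0 := by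
  classical
  have hex : ∃ j, N ^ j = 0 := ⟨j, hj⟩
  set s := Nat.find hex with hs
  have h1 : N ^ s = 0 := Nat.find_spec hex
  by_cases hsn : s ≤ n
  · rw [← Nat.sub_add_cancel hsn, pow_add, h1, mul_zero]
  · exfalso
    obtain ⟨k, hk⟩ : ∃ k, s = k + 1 := ⟨s - 1, by omega⟩
    have h2 : N ^ k ≠ 0 := Nat.find_min hex (by omega)
    have h3 := finrank_range_pos h2
    rw [hk] at h1
    have h4 := rank_mul N h1
    have h5 : k + 1 ≤ (k + 1) * finrank F (LinearMap.range (N ^ k)) := Nat.le_mul_of_pos_right _ h3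
    omega

/-- an alternating map of rank one is zero -/
theorem alt_zero {b : V → V → F} (hadd : ∀ x x' y, b (x + x') y = b x y + b x' y)
    (hsmul : ∀ x (c : F) y, b x (c • y) = c * b x y)
    (hnd : ∀ y, (∀ x, b x y = 0) → y = 0) (A : Module.End F V)
    (hr : finrank F (LinearMap.range A) ≤ 1) (halt : ∀ x, b x (A x) = 0) : A = 0 := by
  by_contra hA
  obtain ⟨x, hx⟩ : ∃ x, A x ≠ 0 := by
    by_contra h
    push Not at h
    exact hA (LinearMap.ext h)
  have h1 : LinearMap.range A = Submodule.span F {A x} := by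
    symm
    apply Submodule.eq_of_le_of_finrank_le
    · rw [Submodule.span_singleton_le_iff_mem]
      exact ⟨x, rfl⟩
    · rw [finrank_span_singleton hx]
      exact hr
  obtain ⟨y, hy⟩ : ∃ y, b y (A x) ≠ 0 := by
    by_contra h
    push Not at h
    exact hx (hnd _ h)
  have h2 : A y ∈ Submodule.span F {A x} := by
    rw [← h1]
    exact ⟨y, rfl⟩
  obtain ⟨c, hc⟩ := Submodule.mem_span_singleton.1 h2
  have h3 := halt y
  rw [← hc, hsmul] at h3
  have hc0 : c = 0 := (mul_eq_zero.1 h3).resolve_right hy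
  rw [hc0, zero_smul] at hc
  have h4 := halt (x + y)
  rw [map_add, ← hc, add_zero, hadd, halt x, zero_add] at h4
  exact hy h4

end Rank

section Adj

variable {F V : Type*} [Field F] [AddCommGroup V] [Module F V] {Q : QuadraticForm F V} {m : V ≃ₗ[F] V}

/-- `m - 1` -/
def nil (m : V ≃ₗ[F] V) : Module.End F V := (m : V →ₗ[F] V) - 1

theorem nil_apply (m : V ≃ₗ[F] V) (x : V) : nil m x = m x - x := rfl

theorem adj_one (hm : m ∈ O Q) (x y : V) : polar Q (nil m x) y = polar Q x (nil m⁻¹ y) := by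
  rw [nil_apply, nil_apply, polar_sub_left, polar_sub_right]
  congr 1
  have h1 : m (m⁻¹ y) = y := LinearEquiv.apply_symm_apply m y
  conv_lhs => rw [← h1]
  exact polar_map hm x (m⁻¹ y)

theorem adj_pow (hm : m ∈ O Q) (k : ℕ) (x y : V) :
    polar Q ((nil m ^ k) x) y = polar Q x ((nil m⁻¹ ^ k) y) := by
  induction k generalizing x with
  | zero => rfl
  | succ k ih =>
    rw [pow_succ, Module.End.mul_apply, ih, adj_one hm, ← Module.End.mul_apply, ← pow_succ']

theorem nil_inv (m : V ≃ₗ[F] V) : nil m⁻¹ = - (((m⁻¹ : V ≃ₗ[F] V) : V →ₗ[F] V) * nil m) := by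
  apply LinearMap.ext
  intro x
  change m⁻¹ x - x = - (m⁻¹ (m x - x))
  have h1 : m⁻¹ (m x) = x := LinearEquiv.symm_apply_apply m x
  rw [map_sub, h1]
  abel

theorem inv_mul_nil_pow {k : ℕ} (h : nil m ^ (k + 1) = 0) :
    (((m⁻¹ : V ≃ₗ[F] V) : V →ₗ[F] V) * nil m ^ k : Module.End F V) = nil m ^ k := by
  apply LinearMap.ext
  intro x
  change m⁻¹ ((nil m ^ k) x) = (nil m ^ k) x
  have h1 : m ((nil m ^ k) x) = (nil m ^ k) x := by
    have h2 : (nil m ^ (k + 1)) x = 0 := by rw [h]; rfl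
    rw [pow_succ', Module.End.mul_apply, nil_apply, sub_eq_zero] at h2
    exact h2
  conv_lhs => rw [← h1]
  exact LinearEquiv.symm_apply_apply m _

theorem nil_inv_pow {k : ℕ} (h : nil m ^ (k + 1) = 0) : nil m⁻¹ ^ k = (-1) ^ k • nil m ^ k := by
  have hc : Commute (((m⁻¹ : V ≃ₗ[F] V) : V →ₗ[F] V) : Module.End F V) (nil m) := by
    apply LinearMap.ext
    intro x
    change m⁻¹ (m x - x) = m (m⁻¹ x) - m⁻¹ x
    have h1 : m⁻¹ (m x) = x := LinearEquiv.symm_apply_apply m x
    have h2 : m (m⁻¹ x) = x := LinearEquiv.apply_symm_apply m x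
    rw [map_sub, h1, h2]
  rw [nil_inv, neg_pow, hc.mul_pow]
  have key : ∀ j : ℕ, (((m⁻¹ : V ≃ₗ[F] V) : V →ₗ[F] V) ^ j * nil m ^ k : Module.End F V) = nil m ^ k := by
    intro j
    induction j with
    | zero => rw [pow_zero, one_mul]
    | succ j ih => rw [pow_succ, mul_assoc, inv_mul_nil_pow h, ih]
  rw [key, zsmul_eq_mul]
  push_cast
  rfl

/-- the top power of `m - 1` is symmetric or alternating -/
theorem adj_top (hm : m ∈ O Q) {k : ℕ} (h : nil m ^ (k + 1) = 0) (x y : V) :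
    polar Q ((nil m ^ k) x) y = (-1) ^ k * polar Q x ((nil m ^ k) y) := by
  rw [adj_pow hm, nil_inv_pow h, LinearMap.smul_apply]
  rcases neg_one_pow_eq_or ℤ k with h1 | h1
  · have h2 : ((-1) ^ k : F) = 1 := by
      have := congrArg (fun z : ℤ => (z : F)) h1
      simpa only [_root_.Int.reduceNeg, _root_.Int.cast_pow, _root_.Int.cast_neg, _root_.Int.cast_one] using this
    rw [h1, h2, one_smul, one_mul]
  · have h2 : ((-1) ^ k : F) = -1 := by
      have := congrArg (fun z : ℤ => (z : F)) h1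
      simpa only [_root_.Int.reduceNeg, _root_.Int.cast_pow, _root_.Int.cast_neg, _root_.Int.cast_one] using this
    rw [h1, h2, neg_smul, one_smul, polar_neg_right, neg_one_mul]

theorem alt_top (h2 : (2 : F) ≠ 0) (hm : m ∈ O Q) {k : ℕ} (hk : Odd k) (h : nil m ^ (k + 1) = 0) (x : V) :
    polar Q x ((nil m ^ k) x) = 0 := by
  have h1 := adj_top hm h x x
  rw [hk.neg_one_pow, polar_comm] at h1
  have h3 : 2 * polar Q x ((nil m ^ k) x) = 0 := by linear_combination h1
  exact (mul_eq_zero.1 h3).resolve_left h2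

theorem sym_top (hm : m ∈ O Q) {k : ℕ} (hk : Even k) (h : nil m ^ (k + 1) = 0) (x y : V) :
    polar Q ((nil m ^ k) x) y = polar Q x ((nil m ^ k) y) := by
  rw [adj_top hm h, hk.neg_one_pow, one_mul]

/-- a vector with `b(a, N ^ k a) ≠ 0` -/
theorem exists_top (h2 : (2 : F) ≠ 0) (hQ : Nondeg Q) (hm : m ∈ O Q) {k : ℕ} (hk : Even k) (h : nil m ^ (k + 1) = 0)
    (h0 : nil m ^ k ≠ 0) : ∃ a, polar Q a ((nil m ^ k) a) ≠ 0 := by
  by_contra hn
  push Not at hn
  apply h0
  apply LinearMap.ext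
  intro y
  apply hQ
  intro x
  have h1 := hn (x + y)
  rw [map_add, polar_add_left, polar_add_right, polar_add_right, hn x, hn y, ← sym_top hm hk h y x,
    polar_comm Q ((nil m ^ k) y) x] at h1
  have h3 : 2 * polar Q x ((nil m ^ k) y) = 0 := by linear_combination h1
  rw [polar_comm]
  exact (mul_eq_zero.1 h3).resolve_left h2

end Adj

end Cfsg.Agent.H198.Sax
end

-- part: H198/SaxTwo
section
/-!
# Unipotent isometries of order nine of a seven dimensional space (helper198)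

* `caseA` : if `w ^ 3 = 1`, `(w - 1) ^ 2 ≠ 0`, there is a nonsingular `v` orthogonal to `w v`
* `caseB` : if `(m - 1) ^ 6 = 0`, `(m - 1) ^ 3 ≠ 0`, there are two orthogonal nonsingular fixed vectors
-/

set_option autoImplicit false
set_option linter.unusedSectionVars false

namespace Cfsg.Agent.H198.Sax

open QuadraticMap Module Cfsg.Agent.LieClassical.OrthCore

variable {F V : Type*} [Field F] [AddCommGroup V] [Module F V] {Q : QuadraticForm F V} {m : V ≃ₗ[F] V}

theorem nil_cube (h3 : (3 : F) = 0) (m : V ≃ₗ[F] V) : nil (m ^ 3) = nil m ^ 3 := by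
  apply LinearMap.ext
  intro x
  have h1 : (m ^ 3) x = m (m (m x)) := by rw [pow_succ, pow_two]; rfl
  have h2 : (nil m ^ 3) x = nil m (nil m (nil m x)) := by rw [pow_succ, pow_two]; rfl
  rw [h2, nil_apply, h1, nil_apply m x, nil_apply m (m x - x), nil_apply, map_sub, map_sub, map_sub]
  have h4 : (3 : F) • m (m x) = 0 := by rw [h3, zero_smul]
  have h5 : (3 : F) • m x = 0 := by rw [h3, zero_smul]
  have h6 : m (m (m x)) - m (m x) - (m (m x) - m x) - (m (m x) - m x - (m x - x)) =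
      m (m (m x)) - x - (3 : F) • m (m x) + (3 : F) • m x := by module
  rw [h6, h4, h5, sub_zero, add_zero]

theorem nil_one : nil (1 : V ≃ₗ[F] V) = 0 := by
  apply LinearMap.ext
  intro x
  exact sub_self x

theorem caseA (h2 : (2 : F) ≠ 0) (h3 : (3 : F) = 0) (hQ : Nondeg Q) (hw : m ∈ O Q) (hw3 : m ^ 3 = 1)
    (hD : nil m ^ 2 ≠ 0) : ∃ v, Q v ≠ 0 ∧ polar Q v (m v) = 0 := by
  have hD3 : nil m ^ 3 = 0 := by rw [← nil_cube h3, hw3, nil_one]
  obtain ⟨a, ha⟩ := exists_top h2 hQ hw (k := 2) (by decide) hD3 hD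
  set c := polar Q a ((nil m ^ 2) a) with hc
  have hD3a : ∀ x, nil m ((nil m ^ 2) x) = 0 := fun x => by
    rw [← Module.End.mul_apply, ← pow_succ', hD3]; rfl
  have hD3b : ∀ x, (nil m ^ 2) (nil m x) = 0 := fun x => by
    rw [← Module.End.mul_apply, ← pow_succ, hD3]; rfl
  have e1 : polar Q (nil m a) (nil m a) = -c := by
    rw [adj_one hw, nil_inv]
    have h4 := congrArg (fun f : Module.End F V => f a) (inv_mul_nil_pow (m := m) (k := 2) hD3)
    have h5 : (m⁻¹ : V ≃ₗ[F] V) (nil m (nil m a)) = (nil m ^ 2) a := by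
      rw [← h4, pow_two]; rfl
    have h6 : (-(((m⁻¹ : V ≃ₗ[F] V) : V →ₗ[F] V) * nil m) : Module.End F V) (nil m a) = -((m⁻¹ : V ≃ₗ[F] V) (nil m (nil m a))) :=
      rfl
    rw [h6, h5, polar_neg_right]
  have e2 : 2 * polar Q a (nil m a) = c := by
    have h4 := polar_map hw a a
    have h5 : m a = a + nil m a := by rw [nil_apply]; abel
    rw [h5, polar_add_left, polar_add_right, polar_add_right, e1, polar_comm Q (nil m a) a] at h4
    linear_combination h4
  have e3 : polar Q ((nil m ^ 2) a) ((nil m ^ 2) a) = 0 := by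
    rw [sym_top hw (by decide) hD3]
    have h4 : (nil m ^ 2) ((nil m ^ 2) a) = 0 := by
      rw [← Module.End.mul_apply, ← pow_add, show 2 + 2 = 3 + 1 from rfl, pow_succ, hD3, zero_mul]
      rfl
    rw [h4, polar_zero_right]
  have e4 : polar Q ((nil m ^ 2) a) (nil m a) = 0 := by
    rw [sym_top hw (by decide) hD3, hD3b, polar_zero_right]
  have e5 : polar Q ((nil m ^ 2) a) a = c := by rw [polar_comm]
  set γ : F := -(polar Q a a + c / 2) / (2 * c) with hγ
  have hγ2 : 2 * γ * c = -(polar Q a a + c / 2) := by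
    rw [hγ]; field_simp
  set v := a + γ • (nil m ^ 2) a with hv
  have hmv : m v = v + nil m a := by
    have h5 : m v = v + nil m v := by rw [nil_apply]; abel
    rw [h5, hv, map_add, map_smul, hD3a, smul_zero, add_zero]
  have e6 : polar Q v v = -(c / 2) := by
    rw [hv, polar_add_left, polar_add_right, polar_add_right, polar_smul_left, polar_smul_right, polar_smul_left,
      polar_smul_right, e3, e5, ← hc]
    simp only [smul_eq_mul]
    linear_combination hγ2
  refine ⟨v, ?_, ?_⟩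
  · intro h
    rw [polar_self', h, mul_zero] at e6
    have h7 : c / 2 = 0 := by
      rw [← neg_eq_zero, ← e6]
    rcases div_eq_zero_iff.1 h7 with h8 | h8
    · exact ha h8
    · exact h2 h8
  · rw [hmv, polar_add_right, e6, hv, polar_add_left, polar_smul_left, e4, smul_zero, add_zero]
    have h8 : polar Q a (nil m a) = c / 2 := by
      rw [eq_div_iff h2, ← e2]; ring
    rw [h8]
    ring

section CaseB

variable [FiniteDimensional F V]

/-- the pairing of the vectors `N ^ i a` -/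
theorem pair (hm : m ∈ O Q) (i j : ℕ) (x y : V) :
    polar Q ((nil m ^ i) x) ((nil m ^ j) y) =
      (-1) ^ i * polar Q x (((((m⁻¹ : V ≃ₗ[F] V) : V →ₗ[F] V) : Module.End F V) ^ i) ((nil m ^ (i + j)) y)) := by
  have hc : Commute (((m⁻¹ : V ≃ₗ[F] V) : V →ₗ[F] V) : Module.End F V) (nil m) := by
    apply LinearMap.ext
    intro x
    change m⁻¹ (m x - x) = m (m⁻¹ x) - m⁻¹ x
    have h1 : m⁻¹ (m x) = x := LinearEquiv.symm_apply_apply m x
    have h2 : m (m⁻¹ x) = x := LinearEquiv.apply_symm_apply m x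
    rw [map_sub, h1, h2]
  have h1 : nil m⁻¹ ^ i = (-1 : F) ^ i • (((((m⁻¹ : V ≃ₗ[F] V) : V →ₗ[F] V) : Module.End F V) ^ i) * nil m ^ i) := by
    rw [nil_inv, neg_pow, hc.mul_pow]
    rcases Nat.even_or_odd i with h | h
    · rw [h.neg_one_pow, h.neg_one_pow, one_mul, one_smul]
    · rw [h.neg_one_pow, h.neg_one_pow, neg_one_mul, neg_smul, one_smul]
  rw [adj_pow hm, h1, LinearMap.smul_apply, polar_smul_right, Module.End.mul_apply, ← Module.End.mul_apply (nil m ^ i),
    ← pow_add]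
  rfl

theorem inv_fix {z : V} (h : nil m z = 0) (i : ℕ) :
    ((((m⁻¹ : V ≃ₗ[F] V) : V →ₗ[F] V) : Module.End F V) ^ i) z = z := by
  induction i with
  | zero => rfl
  | succ i ih =>
    rw [pow_succ, Module.End.mul_apply]
    have h1 : (((m⁻¹ : V ≃ₗ[F] V) : V →ₗ[F] V) : Module.End F V) z = z := by
      change m⁻¹ z = z
      have h2 : m z = z := by rw [nil_apply, sub_eq_zero] at h; exact h
      conv_lhs => rw [← h2]
      exact LinearEquiv.symm_apply_apply m z
    rw [h1, ih]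


theorem nil_five (h2 : (2 : F) ≠ 0) (hQ : Nondeg Q) (hm : m ∈ O Q) (h7 : finrank F V = 7) (h6 : nil m ^ 6 = 0) :
    nil m ^ 5 = 0 := by
  have h1 := rank_mul (nil m) (j := 5) h6
  rw [h7] at h1
  refine alt_zero (b := fun x y => polar Q x y) (fun x x' y => polar_add_left _ x x' y)
    (fun x c y => by rw [polar_smul_right]; rfl) (fun y hy => hQ y fun x => by rw [polar_comm]; exact hy x) _ (by omega)
    (fun x => alt_top h2 hm (by decide) h6 x)

theorem nil_four (h2 : (2 : F) ≠ 0) (hQ : Nondeg Q) (hm : m ∈ O Q) (h7 : finrank F V = 7) (h3 : nil m ^ 3 ≠ 0) :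
    nil m ^ 4 ≠ 0 := by
  intro h4
  apply h3
  have h1 := rank_mul (nil m) (j := 3) h4
  rw [h7] at h1
  refine alt_zero (b := fun x y => polar Q x y) (fun x x' y => polar_add_left _ x x' y)
    (fun x c y => by rw [polar_smul_right]; rfl) (fun y hy => hQ y fun x => by rw [polar_comm]; exact hy x) _ (by omega)
    (fun x => alt_top h2 hm (by decide) h4 x)

/-- the pairing with the vectors `N ^ i a` -/
def pairing (Q : QuadraticForm F V) (m : V ≃ₗ[F] V) (a : V) : V →ₗ[F] (Fin 5 → F) :=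
  LinearMap.pi fun i => polarBilin Q ((nil m ^ (i : ℕ)) a)

theorem pairing_apply (a z : V) (i : Fin 5) : pairing Q m a z i = polar Q ((nil m ^ (i : ℕ)) a) z := rfl

/-- the combinations of the vectors `N ^ i a` -/
def comb (m : V ≃ₗ[F] V) (a : V) : (Fin 5 → F) →ₗ[F] V :=
  Fintype.linearCombination F fun i : Fin 5 => (nil m ^ (i : ℕ)) a

theorem comb_apply (a : V) (α : Fin 5 → F) : comb m a α = ∑ i : Fin 5, α i • (nil m ^ (i : ℕ)) a := rfl

theorem polar_pow_pow (hm : m ∈ O Q) (h5 : nil m ^ 5 = 0) (a : V) (i j : ℕ) :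
    (5 ≤ i + j → polar Q ((nil m ^ i) a) ((nil m ^ j) a) = 0) ∧
      (i + j = 4 → polar Q ((nil m ^ i) a) ((nil m ^ j) a) = (-1) ^ i * polar Q a ((nil m ^ 4) a)) := by
  have hz : ∀ k, 5 ≤ k → nil m ^ k = 0 := fun k hk => by rw [← Nat.sub_add_cancel hk, pow_add, h5, mul_zero]
  constructor
  · intro h
    rw [pair hm, hz _ h, LinearMap.zero_apply, map_zero, polar_zero_right, mul_zero]
  · intro h
    rw [pair hm, h, inv_fix]
    rw [← Module.End.mul_apply, ← pow_succ', h5]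
    rfl

theorem pairing_comb_injective (hm : m ∈ O Q) (h5 : nil m ^ 5 = 0) {a : V} (ha : polar Q a ((nil m ^ 4) a) ≠ 0) :
    Function.Injective ((pairing Q m a) ∘ₗ (comb m a)) := by
  rw [injective_iff_map_eq_zero]
  intro α hα
  have hP := polar_pow_pow hm h5 a
  have key : ∀ j : Fin 5, ∑ i : Fin 5, α i * polar Q ((nil m ^ (j : ℕ)) a) ((nil m ^ (i : ℕ)) a) = 0 := by
    intro j
    have h1 := congrFun hα j
    rw [LinearMap.comp_apply, pairing_apply, comb_apply] at h1
    have h2 : polar Q ((nil m ^ (j : ℕ)) a) (∑ i : Fin 5, α i • (nil m ^ (i : ℕ)) a) =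
        ∑ i : Fin 5, α i * polar Q ((nil m ^ (j : ℕ)) a) ((nil m ^ (i : ℕ)) a) := by
      change polarBilin Q _ _ = _
      rw [map_sum]
      refine Finset.sum_congr rfl fun i _ => ?_
      rw [map_smul]
      rfl
    rw [← h2]
    exact h1
  have hne : ∀ i : ℕ, (-1 : F) ^ i * polar Q a ((nil m ^ 4) a) ≠ 0 := fun i =>
    mul_ne_zero (pow_ne_zero _ (neg_ne_zero.2 one_ne_zero)) ha
  have k4 := key 4
  have k3 := key 3
  have k2 := key 2
  have k1 := key 1
  have k0 := key 0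
  simp only [Fin.sum_univ_five, Fin.isValue, Fin.val_zero, Fin.val_one, Fin.val_two,
    show ((3 : Fin 5) : ℕ) = 3 from rfl, show ((4 : Fin 5) : ℕ) = 4 from rfl] at k4 k3 k2 k1 k0
  rw [(hP 4 0).2 rfl, (hP 4 1).1 (by norm_num), (hP 4 2).1 (by norm_num), (hP 4 3).1 (by norm_num),
    (hP 4 4).1 (by norm_num)] at k4
  simp only [mul_zero, add_zero] at k4
  have a0 : α 0 = 0 := (mul_eq_zero.1 k4).resolve_right (hne 4)
  rw [(hP 3 1).2 rfl, (hP 3 2).1 (by norm_num), (hP 3 3).1 (by norm_num),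
    (hP 3 4).1 (by norm_num), a0] at k3
  simp only [mul_zero, add_zero, zero_mul, zero_add] at k3
  have a1 : α 1 = 0 := (mul_eq_zero.1 k3).resolve_right (hne 3)
  rw [(hP 2 2).2 rfl, (hP 2 3).1 (by norm_num), (hP 2 4).1 (by norm_num), a0, a1] at k2
  simp only [mul_zero, add_zero, zero_mul, zero_add] at k2
  have a2 : α 2 = 0 := (mul_eq_zero.1 k2).resolve_right (hne 2)
  rw [(hP 1 3).2 rfl, (hP 1 4).1 (by norm_num), a0, a1, a2] at k1
  simp only [mul_zero, add_zero, zero_mul, zero_add] at k1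
  have a3 : α 3 = 0 := (mul_eq_zero.1 k1).resolve_right (hne 1)
  rw [(hP 0 4).2 rfl, a0, a1, a2, a3] at k0
  simp only [zero_mul, zero_add] at k0
  have a4 : α 4 = 0 := (mul_eq_zero.1 k0).resolve_right (hne 0)
  funext i
  fin_cases i
  · exact a0
  · exact a1
  · exact a2
  · exact a3
  · exact a4

theorem caseB (h2 : (2 : F) ≠ 0) (hQ : Nondeg Q) (hm : m ∈ O Q) (h7 : finrank F V = 7) (h6 : nil m ^ 6 = 0)
    (hn3 : nil m ^ 3 ≠ 0) :
    ∃ x₁ x₂, Q x₁ ≠ 0 ∧ Q x₂ ≠ 0 ∧ polar Q x₁ x₂ = 0 ∧ m x₁ = x₁ ∧ m x₂ = x₂ := by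
  have h5 := nil_five h2 hQ hm h7 h6
  have h4 := nil_four h2 hQ hm h7 hn3
  obtain ⟨a, ha⟩ := exists_top h2 hQ hm (k := 4) (by decide) h5 h4
  have hinj := pairing_comb_injective hm h5 ha
  have hsurj : Function.Surjective ((pairing Q m a) ∘ₗ (comb m a)) := LinearMap.injective_iff_surjective.1 hinj
  set K := LinearMap.ker (pairing Q m a) with hK
  have hmem : ∀ z, z ∈ K ↔ ∀ i : ℕ, polar Q ((nil m ^ i) a) z = 0 := by
    intro z
    rw [hK, LinearMap.mem_ker]
    constructor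
    · intro h i
      by_cases hi : i < 5
      · exact congrFun h ⟨i, hi⟩
      · have : nil m ^ i = 0 := by rw [← Nat.sub_add_cancel (not_lt.1 hi), pow_add, h5, mul_zero]
        rw [this, LinearMap.zero_apply, polar_zero_left]
    · intro h
      funext i
      exact h i
  have hKf : finrank F K = 2 := by
    have h1 := LinearMap.finrank_range_add_finrank_ker (pairing Q m a)
    have h3 : LinearMap.range (pairing Q m a) = ⊤ := by
      rw [LinearMap.range_eq_top]
      intro β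
      obtain ⟨α, hα⟩ := hsurj β
      exact ⟨comb m a α, hα⟩
    rw [h3, finrank_top, finrank_fintype_fun_eq_card, Fintype.card_fin, h7] at h1
    have h8 : 5 + finrank F K = 7 := h1
    omega
  -- decomposition
  have hdec : ∀ z, ∃ α : Fin 5 → F, z - comb m a α ∈ K := by
    intro z
    obtain ⟨α, hα⟩ := hsurj (pairing Q m a z)
    refine ⟨α, ?_⟩
    rw [hK, LinearMap.mem_ker, map_sub, sub_eq_zero]
    exact hα.symm
  have hKU : ∀ z ∈ K, ∀ α : Fin 5 → F, polar Q z (comb m a α) = 0 := by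
    intro z hz α
    rw [comb_apply]
    change polarBilin Q z _ = 0
    rw [map_sum]
    refine Finset.sum_eq_zero fun i _ => ?_
    rw [map_smul]
    change α i • polar Q z _ = 0
    rw [polar_comm, (hmem z).1 hz, smul_zero]
  have hnd : ∀ z ∈ K, (∀ x ∈ K, polar Q x z = 0) → z = 0 := by
    intro z hz h
    apply hQ
    intro y
    obtain ⟨α, hα⟩ := hdec y
    have h1 : y = (y - comb m a α) + comb m a α := by abel
    rw [h1, polar_add_right, hKU z hz, add_zero, polar_comm]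
    exact h _ hα
  -- invariance
  have hinv : ∀ z ∈ K, nil m z ∈ K := by
    intro z hz
    rw [hmem]
    have key : ∀ n i : ℕ, 5 ≤ n + i → polar Q (m⁻¹ ((nil m ^ i) a)) z = 0 := by
      intro n
      induction n with
      | zero =>
        intro i hi
        have : nil m ^ i = 0 := by rw [← Nat.sub_add_cancel (show 5 ≤ i by omega), pow_add, h5, mul_zero]
        rw [this, LinearMap.zero_apply, map_zero, polar_zero_left]
      | succ n ih =>
        intro i hi
        have h1 := ih (i + 1) (by omega)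
        have h3 : m⁻¹ ((nil m ^ (i + 1)) a) = (nil m ^ i) a - m⁻¹ ((nil m ^ i) a) := by
          rw [pow_succ', Module.End.mul_apply, nil_apply, map_sub]
          congr 1
          exact LinearEquiv.symm_apply_apply m _
        rw [h3, polar_sub_left, (hmem z).1 hz i, zero_sub, neg_eq_zero] at h1
        exact h1
    intro i
    have h1 := adj_one hm z ((nil m ^ i) a)
    rw [polar_comm, h1, nil_inv]
    change polar Q z (-(m⁻¹ (nil m ((nil m ^ i) a)))) = 0
    rw [polar_neg_right, ← Module.End.mul_apply, ← pow_succ', polar_comm, key 5 (i + 1) (by omega), neg_zero]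
  let N' : Module.End F K := (nil m).restrict hinv
  have hN' : ∀ z : K, ((N' z : K) : V) = nil m z := fun z => rfl
  have hN'p : ∀ (k : ℕ) (z : K), (((N' ^ k) z : K) : V) = (nil m ^ k) z := by
    intro k
    induction k with
    | zero => intro z; rfl
    | succ k ih =>
      intro z
      rw [pow_succ', Module.End.mul_apply, hN', ih, pow_succ', Module.End.mul_apply]
  have hN2 : N' ^ 2 = 0 := by
    apply nilp_bound N' hKf.le (j := 5)
    apply LinearMap.ext
    intro z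
    apply Subtype.ext
    rw [hN'p, h5]
    rfl
  have hN2' : ∀ z ∈ K, nil m (nil m z) = 0 := by
    intro z hz
    have h1 := hN'p 2 ⟨z, hz⟩
    rw [hN2] at h1
    have h3 : (nil m ^ 2) z = nil m (nil m z) := by rw [pow_two]; rfl
    rw [← h3]
    exact h1.symm
  have halt : ∀ z : K, polar Q (z : V) (nil m z) = 0 := by
    intro z
    have h1 := adj_one hm (z : V) (z : V)
    have h3 : nil m⁻¹ (z : V) = -(nil m z) := by
      rw [nil_inv]
      change -(m⁻¹ (nil m (z : V))) = _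
      congr 1
      have h8 := hN2' z z.2
      have h9 := inv_fix h8 1
      rw [pow_one] at h9
      exact h9
    rw [h3, polar_neg_right, polar_comm] at h1
    have h8 : 2 * polar Q (z : V) (nil m z) = 0 := by linear_combination h1
    exact (mul_eq_zero.1 h8).resolve_left h2
  have hN1 : N' = 0 := by
    refine alt_zero (b := fun x y : K => polar Q (x : V) (y : V)) (fun x x' y => polar_add_left _ _ _ _)
      (fun x c y => ?_) (fun y hy => ?_) N' ?_ (fun x => halt x)
    · change polar Q (x : V) (c • (y : V)) = _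
      rw [polar_smul_right]
      rfl
    · apply Subtype.ext
      exact hnd y y.2 fun x hx => hy ⟨x, hx⟩
    · have h1 := rank_mul N' (j := 1) hN2
      rw [hKf, pow_one] at h1
      omega
  have hfix : ∀ z ∈ K, m z = z := by
    intro z hz
    have h1 := hN' ⟨z, hz⟩
    rw [hN1] at h1
    have h3 : m z - z = 0 := h1.symm
    rwa [sub_eq_zero] at h3
  -- an orthogonal basis
  have : Invertible (2 : F) := invertibleOfNonzero h2
  let B : LinearMap.BilinForm F K := LinearMap.BilinForm.restrict (polarBilin Q) K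
  have hB : ∀ x y : K, B x y = polar Q (x : V) (y : V) := fun x y => rfl
  have hBs : LinearMap.IsSymm B := ⟨fun x y => polar_comm Q _ _⟩
  obtain ⟨v, hv⟩ := LinearMap.BilinForm.exists_orthogonal_basis (B := B) hBs
  have hBn : B.Nondegenerate := by
    constructor
    · intro x hx
      apply Subtype.ext
      exact hnd x x.2 fun y hy => by rw [polar_comm]; exact hx ⟨y, hy⟩
    · intro x hx
      apply Subtype.ext
      exact hnd x x.2 fun y hy => hx ⟨y, hy⟩
  have h0 : (0 : ℕ) < finrank F K := by rw [hKf]; norm_num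
  have h1 : (1 : ℕ) < finrank F K := by rw [hKf]; norm_num
  have hne : ∀ i, Q (v i : V) ≠ 0 := by
    intro i hi
    have h3 := LinearMap.BilinForm.iIsOrtho.not_isOrtho_basis_self_of_nondegenerate hv hBn i
    apply h3
    change B (v i) (v i) = 0
    rw [hB, polar_self', hi, mul_zero]
  refine ⟨v ⟨0, h0⟩, v ⟨1, h1⟩, hne _, hne _, ?_, hfix _ (v _).2, hfix _ (v _).2⟩
  exact hv (show (⟨0, h0⟩ : Fin _) ≠ ⟨1, h1⟩ by intro h; exact absurd (congrArg Fin.val h) (by norm_num))

end CaseB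

end Cfsg.Agent.H198.Sax
end

-- part: H198/SaxSeven
section
/-!
# `Ω₇(3)` contains no good element (helper198)

`Good g` : `g ^ 9 = 1`, `g ^ 3 ≠ 1`, no involution commutes with `g`, and `g ^ 3` centralizes the involutions which commute
with their conjugate under `g ^ 3`.
-/

set_option autoImplicit false
set_option linter.unusedSectionVars false

namespace Cfsg.Agent.H198.Sax

open QuadraticMap Module Cfsg.Agent.LieClassical.OrthCore Cfsg.Agent.H160.QSpin Cfsg.Agent.H160.QDisc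

/-- the properties of the elements of type `(5, 3)` of `PΩ₈⁺(3)` -/
structure Good {G : Type*} [Group G] (g : G) : Prop where
  nine : g ^ 9 = 1
  three : g ^ 3 ≠ 1
  inv : ∀ y : G, y * y = 1 → y * g = g * y → y = 1
  quad : ∀ y : G, y * y = 1 → y * ((g ^ 3)⁻¹ * y * g ^ 3) = ((g ^ 3)⁻¹ * y * g ^ 3) * y → (g ^ 3)⁻¹ * y * g ^ 3 = y

theorem Good.comap {G H : Type*} [Group G] [Group H] {f : H →* G} (hf : Function.Injective f) {h : H}
    (hg : Good (f h)) : Good h := by
  refine ⟨hf ?_, fun e => hg.three ?_, fun y h1 h2 => hf ?_, fun y h1 h2 => hf ?_⟩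
  · rw [map_pow, hg.nine, map_one]
  · rw [← map_pow, e, map_one]
  · rw [map_one]
    apply hg.inv
    · rw [← map_mul, h1, map_one]
    · rw [← map_mul, h2, map_mul]
  · have h3 := hg.quad (f y) (by rw [← map_mul, h1, map_one]) (by
      have h4 := congrArg f h2
      simpa only [map_mul, map_inv, map_pow] using h4)
    simpa only [map_mul, map_inv, map_pow] using h3

variable {F V : Type*} [Field F] [Finite F] [AddCommGroup V] [Module F V] [Finite V] [FiniteDimensional F V]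
  {Q : QuadraticForm F V}

theorem el_comm {a b : V ≃ₗ[F] V} (ha : a ∈ O Q) (hb : b ∈ O Q) : El Q 1 (a * b * a⁻¹ * b⁻¹) := by
  refine ⟨(O Q).mul_mem ((O Q).mul_mem ((O Q).mul_mem ha hb) ((O Q).inv_mem ha)) ((O Q).inv_mem hb), ?_, ?_⟩
  · rw [map_mul, map_mul, map_mul, map_inv, map_inv, mul_right_comm (LinearEquiv.det a), mul_inv_cancel, one_mul,
      mul_inv_cancel]
  · have e : (⟨a * b * a⁻¹ * b⁻¹, (O Q).mul_mem ((O Q).mul_mem ((O Q).mul_mem ha hb) ((O Q).inv_mem ha))
      ((O Q).inv_mem hb)⟩ : O Q) = ⟨a, ha⟩ * ⟨b, hb⟩ * ⟨a, ha⟩⁻¹ * ⟨b, hb⟩⁻¹ := rfl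
    rw [e, map_mul, map_mul, map_mul, map_inv, map_inv, mul_right_comm (spin Q ⟨a, ha⟩), mul_inv_cancel, one_mul,
      mul_inv_cancel]

theorem det_neg_odd (he : Odd (finrank F V)) : LinearEquiv.det (LinearEquiv.neg F : V ≃ₗ[F] V) = -1 := by
  apply Units.ext
  rw [LinearEquiv.coe_det]
  have h : ((LinearEquiv.neg F : V ≃ₗ[F] V) : V →ₗ[F] V) = (-1 : F) • LinearMap.id := by
    ext x
    simp
  rw [h, LinearMap.det_smul, LinearMap.det_id, he.neg_one_pow]
  simp

/-- the group theoretic part of case A -/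
theorem groupA {w : V ≃ₗ[F] V} (h2 : (2 : F) ≠ 0) (hw : w ∈ O Q) (hw3 : w ^ 3 = 1) {v : V} (hv : Q v ≠ 0)
    (hvw : polar Q v (w v) = 0) :
    ∃ y, El Q 1 y ∧ y * y = 1 ∧ y * (w⁻¹ * y * w) = (w⁻¹ * y * w) * y ∧ w⁻¹ * y * w ≠ y := by
  have hv1 : Q (w v) ≠ 0 := by rw [mem_O.1 hw]; exact hv
  set r := refl Q v hv with hr
  set s := refl Q (w v) hv1 with hs
  have e1 : w * r * w⁻¹ = s := refl_conj hw hv hv1
  have hrr : r * r = 1 := refl_mul_self hv
  have hss : s * s = 1 := refl_mul_self hv1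
  have hrs : r * s = s * r := refl_comm hv hv1 hvw
  have hwi : w⁻¹ = w * w := by
    rw [inv_eq_iff_mul_eq_one, ← mul_assoc, ← pow_two, ← pow_succ]
    exact hw3
  set t := w⁻¹ * r * w with ht
  have e2 : w * s * w⁻¹ = t := by
    rw [← e1, ht]
    have h4 : w * (w * r * w⁻¹) * w⁻¹ = (w * w) * r * (w⁻¹ * w⁻¹) := by group
    rw [h4, ← hwi, ← mul_inv_rev, ← hwi, inv_inv]
  have e3 : w⁻¹ * s * w = r := by rw [← e1]; group
  have htr : t * r = r * t := by
    have h5 : w⁻¹ * (r * s) * w = w⁻¹ * (s * r) * w := by rw [hrs]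
    have h6 : w⁻¹ * (r * s) * w = t * (w⁻¹ * s * w) := by rw [ht]; group
    have h7 : w⁻¹ * (s * r) * w = (w⁻¹ * s * w) * t := by rw [ht]; group
    rw [h6, h7, e3] at h5
    exact h5
  have hst : s * t = t * s := by
    have h5 : w * (r * s) * w⁻¹ = w * (s * r) * w⁻¹ := by rw [hrs]
    have h6 : w * (r * s) * w⁻¹ = (w * r * w⁻¹) * (w * s * w⁻¹) := by group
    have h7 : w * (s * r) * w⁻¹ = (w * s * w⁻¹) * (w * r * w⁻¹) := by group
    rw [h6, h7, e1, e2] at h5
    exact h5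
  have hy : w⁻¹ * (r * s) * w = t * r := by
    have h6 : w⁻¹ * (r * s) * w = t * (w⁻¹ * s * w) := by rw [ht]; group
    rw [h6, e3]
  refine ⟨r * s, ?_, ?_, ?_, ?_⟩
  · have h4 := el_comm (refl_mem_O hv) hw
    have h5 : refl Q v hv * w * (refl Q v hv)⁻¹ * w⁻¹ = r * s := by
      rw [refl_inv, ← e1, ← hr, mul_assoc, mul_assoc, mul_assoc]
    rw [h5] at h4
    exact h4
  · calc r * s * (r * s) = r * (s * r) * s := by group
      _ = r * (r * s) * s := by rw [hrs]
      _ = (r * r) * (s * s) := by group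
      _ = 1 := by rw [hrr, hss, one_mul]
  · rw [hy]
    calc r * s * (t * r) = r * (s * t) * r := by group
      _ = r * (t * s) * r := by rw [hst]
      _ = (r * t) * (s * r) := by group
      _ = (t * r) * (r * s) := by rw [← htr, ← hrs]
  · rw [hy]
    intro h
    have h5 : t = s := by
      rw [htr] at h
      exact mul_left_cancel h
    have h6 : s = r := by
      have h7 : w⁻¹ * (w * s * w⁻¹) * w = w⁻¹ * s * w := by rw [e2.trans h5]
      have h8 : w⁻¹ * (w * s * w⁻¹) * w = s := by group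
      rw [h8, e3] at h7
      exact h7
    have h7 := congrArg (fun f : V ≃ₗ[F] V => f v) h6
    simp only [hr, hs, refl_apply] at h7
    rw [polar_comm Q (w v) v, hvw, mul_zero, zero_smul, sub_zero, polar_self'] at h7
    have h8 : (Q v)⁻¹ * (2 * Q v) = 2 := by field_simp
    rw [h8] at h7
    have h9 : (2 : F) • v = 0 := by
      have : v - (v - (2 : F) • v) = 0 := by rw [← h7, sub_self]
      rwa [sub_sub_cancel] at this
    rcases smul_eq_zero.1 h9 with h10 | h10
    · exact h2 h10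
    · rw [h10, QuadraticMap.map_zero] at hv
      exact hv rfl

/-- the group theoretic part of case B -/
theorem groupB {m : V ≃ₗ[F] V} (h2 : (2 : F) ≠ 0) (hm : m ∈ O Q) (hodd : Odd (finrank F V)) {x₁ x₂ : V}
    (hx₁ : Q x₁ ≠ 0) (hx₂ : Q x₂ ≠ 0) (h12 : polar Q x₁ x₂ = 0) (hf₁ : m x₁ = x₁) (hf₂ : m x₂ = x₂) :
    ∃ y, El Q 1 y ∧ y * y = 1 ∧ y * m = m * y ∧ y ≠ 1 := by
  set r := refl Q x₁ hx₁ with hr
  set s := refl Q x₂ hx₂ with hs
  set n : V ≃ₗ[F] V := LinearEquiv.neg F with hn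
  have hrr : r * r = 1 := refl_mul_self hx₁
  have hss : s * s = 1 := refl_mul_self hx₂
  have hrs : r * s = s * r := refl_comm hx₁ hx₂ h12
  have hfix : ∀ {x : V} (hx : Q x ≠ 0), m x = x → refl Q x hx * m = m * refl Q x hx := by
    intro x hx hmx
    have h4 : Q (m x) ≠ 0 := by rw [hmx]; exact hx
    have h5 := refl_conj hm hx h4
    have h6 : refl Q (m x) h4 = refl Q x hx := by congr 1
    rw [h6, mul_inv_eq_iff_eq_mul] at h5
    exact h5.symm
  have hrm : r * m = m * r := hfix hx₁ hf₁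
  have hsm : s * m = m * s := hfix hx₂ hf₂
  have hnc : ∀ g : V ≃ₗ[F] V, n * g = g * n := by
    intro g
    apply LinearEquiv.ext
    intro x
    change -(g x) = g (-x)
    rw [map_neg]
  have hnn : n * n = 1 := by
    apply LinearEquiv.ext
    intro x
    change -(-x) = x
    rw [neg_neg]
  have hnr : n * r * (n * r) = 1 := by
    calc n * r * (n * r) = n * (r * n) * r := by group
      _ = n * (n * r) * r := by rw [← hnc r]
      _ = (n * n) * (r * r) := by group
      _ = 1 := by rw [hnn, hrr, one_mul]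
  have hns : n * s * (n * s) = 1 := by
    calc n * s * (n * s) = n * (s * n) * s := by group
      _ = n * (n * s) * s := by rw [← hnc s]
      _ = (n * n) * (s * s) := by group
      _ = 1 := by rw [hnn, hss, one_mul]
  have hv0 : ∀ {x : V}, Q x ≠ 0 → x ≠ 0 := by
    rintro x hx rfl
    exact hx (QuadraticMap.map_zero Q)
  have hneg : ∀ {x : V}, Q x ≠ 0 → -x ≠ x := by
    intro x hx h
    have h4 : (2 : F) • x = 0 := by
      rw [two_smul]
      nth_rewrite 1 [← h]
      exact neg_add_cancel x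
    rcases smul_eq_zero.1 h4 with h5 | h5
    · exact h2 h5
    · exact hv0 hx h5
  have hr1 : r x₁ = -x₁ := by
    rw [hr, refl_apply, polar_self']
    have h8 : (Q x₁)⁻¹ * (2 * Q x₁) = 2 := by field_simp
    rw [h8, two_smul]
    abel
  have hr2 : r x₂ = x₂ := by
    rw [hr, refl_apply, h12, mul_zero, zero_smul, sub_zero]
  have hs1 : s x₁ = x₁ := by
    rw [hs, refl_apply, polar_comm, h12, mul_zero, zero_smul, sub_zero]
  -- spinor signs
  set a := spin Q ⟨r, refl_mem_O hx₁⟩ with ha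
  set b := spin Q ⟨s, refl_mem_O hx₂⟩ with hb
  set c := spin Q ⟨n, neg_mem_O Q⟩ with hc
  have hdr : LinearEquiv.det r = -1 := det_refl hx₁
  have hds : LinearEquiv.det s = -1 := det_refl hx₂
  have hdn : LinearEquiv.det n = -1 := det_neg_odd hodd
  have El1 : El Q (a * b) (r * s) := by
    refine ⟨(O Q).mul_mem (refl_mem_O hx₁) (refl_mem_O hx₂), by rw [map_mul, hdr, hds]; simp, ?_⟩
    rw [ha, hb, ← map_mul]
    rfl
  have El2 : El Q (c * a) (n * r) := by
    refine ⟨(O Q).mul_mem (neg_mem_O Q) (refl_mem_O hx₁), by rw [map_mul, hdr, hdn]; simp, ?_⟩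
    rw [ha, hc, ← map_mul]
    rfl
  have El3 : El Q (c * b) (n * s) := by
    refine ⟨(O Q).mul_mem (neg_mem_O Q) (refl_mem_O hx₂), by rw [map_mul, hds, hdn]; simp, ?_⟩
    rw [hb, hc, ← map_mul]
    rfl
  have hcases : a * b = 1 ∨ c * a = 1 ∨ c * b = 1 := by
    rcases Int.units_eq_one_or a with h4 | h4 <;> rcases Int.units_eq_one_or b with h5 | h5 <;>
      rcases Int.units_eq_one_or c with h6 | h6 <;> rw [h4, h5, h6] <;> decide
  rcases hcases with h | h | h
  · rw [h] at El1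
    refine ⟨r * s, El1, ?_, ?_, ?_⟩
    · calc r * s * (r * s) = r * (s * r) * s := by group
        _ = r * (r * s) * s := by rw [hrs]
        _ = (r * r) * (s * s) := by group
        _ = 1 := by rw [hrr, hss, one_mul]
    · rw [mul_assoc, hsm, ← mul_assoc, hrm, mul_assoc]
    · intro h4
      have h5 := congrArg (fun f : V ≃ₗ[F] V => f x₁) h4
      have h6 : (r * s) x₁ = -x₁ := by
        change r (s x₁) = _
        rw [hs1, hr1]
      exact hneg hx₁ (h6.symm.trans h5)
  · rw [h] at El2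
    refine ⟨n * r, El2, hnr, ?_, ?_⟩
    · rw [mul_assoc, hrm, ← mul_assoc, hnc m, mul_assoc]
    · intro h4
      have h5 := congrArg (fun f : V ≃ₗ[F] V => f x₂) h4
      have h6 : (n * r) x₂ = -x₂ := by
        change -(r x₂) = _
        rw [hr2]
      exact hneg hx₂ (h6.symm.trans h5)
  · rw [h] at El3
    refine ⟨n * s, El3, hns, ?_, ?_⟩
    · rw [mul_assoc, hsm, ← mul_assoc, hnc m, mul_assoc]
    · intro h4
      have h5 := congrArg (fun f : V ≃ₗ[F] V => f x₁) h4
      have h6 : (n * s) x₁ = -x₁ := by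
        change -(s x₁) = _
        rw [hs1]
      exact hneg hx₁ (h6.symm.trans h5)

/-- the isometries of determinant and spinor sign one of a seven dimensional space contain no good element -/
theorem seven (h2 : (2 : F) ≠ 0) (h3 : (3 : F) = 0) (hQ : Nondeg Q) (h7 : finrank F V = 7) {m : V ≃ₗ[F] V}
    (hm : m ∈ O Q) (h9 : m ^ 9 = 1) (hm3 : m ^ 3 ≠ 1) :
    (∃ y, El Q 1 y ∧ y * y = 1 ∧ y * m = m * y ∧ y ≠ 1) ∨
      ∃ y, El Q 1 y ∧ y * y = 1 ∧ y * ((m ^ 3)⁻¹ * y * m ^ 3) = ((m ^ 3)⁻¹ * y * m ^ 3) * y ∧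
        (m ^ 3)⁻¹ * y * m ^ 3 ≠ y := by
  have hw3 : (m ^ 3) ^ 3 = 1 := by rw [← pow_mul]; exact h9
  have hw : m ^ 3 ∈ O Q := (O Q).pow_mem hm 3
  have hnil := nil_cube h3 m
  by_cases h6 : nil m ^ 6 = 0
  · left
    have hn3 : nil m ^ 3 ≠ 0 := by
      intro h
      apply hm3
      rw [← hnil] at h
      apply LinearEquiv.ext
      intro x
      have h4 : nil (m ^ 3) x = 0 := by rw [h]; rfl
      rw [nil_apply, sub_eq_zero] at h4
      exact h4
    obtain ⟨x₁, x₂, hx₁, hx₂, h12, hf₁, hf₂⟩ := caseB h2 hQ hm h7 h6 hn3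
    exact groupB h2 hm (by rw [h7]; decide) hx₁ hx₂ h12 hf₁ hf₂
  · right
    have hD : nil (m ^ 3) ^ 2 ≠ 0 := by
      rw [hnil, ← pow_mul]
      exact h6
    obtain ⟨v, hv, hvw⟩ := caseA h2 h3 hQ hw hw3 hD
    exact groupA h2 hw hw3 hv hvw

end Cfsg.Agent.H198.Sax
end

-- part: H198/SaxEight
section
/-!
# A good element of `PΩ₈⁺(3)` (helper198)
-/

set_option autoImplicit false
set_option linter.unusedSectionVars false
set_option maxRecDepth 100000

namespace Cfsg.Agent.H198.Sax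

open QuadraticMap Module Matrix
open Cfsg.Agent.LieClassical.OrthCore Cfsg.Agent.LieClassical.OrthForms
  Cfsg.Agent.H160.QSpin Cfsg.Agent.H160.QDisc
open Cfsg.Agent.H899.O7.PolyList (R)
open Cfsg.Agent.H899.O7.Mat (T T_apply)
open Cfsg.Agent.H899.O7.Spec (Q8 hQ8 toP toP_surj toP_eq_one_iff sing8 Ome mem_Ome)

/-- the index set -/
abbrev J8 := Fin 4 ⊕ Fin 4

/-- the numbering of the index set -/
def idx (s : J8) : Fin 8 := match s with
  | .inl i => ⟨i, by omega⟩
  | .inr i => ⟨4 + i, by omega⟩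

def G8 : Matrix J8 J8 R :=
  (!![1, 0, 2, 0, 0, 0, 0, 1; 0, 0, 2, 0, 0, 0, 0, 0; 0, 1, 2, 1, 2, 0, 0, 0; 0, 0, 0, 1, 2, 0, 0, 0; 0, 0, 0, 0, 1, 0, 0, 0; 0, 0, 0, 0, 2, 2, 2, 0; 0, 0, 0, 0, 0, 1, 0, 0; 0, 0, 0, 0, 0, 2, 0, 1] : Matrix (Fin 8) (Fin 8) R).submatrix idx idx

def G8i : Matrix J8 J8 R :=
  (!![1, 2, 0, 0, 0, 0, 2, 2; 0, 2, 1, 2, 0, 0, 0, 0; 0, 2, 0, 0, 0, 0, 0, 0; 0, 0, 0, 1, 1, 0, 0, 0; 0, 0, 0, 0, 1, 0, 0, 0; 0, 0, 0, 0, 0, 0, 1, 0; 0, 0, 0, 0, 2, 2, 2, 0; 0, 0, 0, 0, 0, 0, 1, 1] : Matrix (Fin 8) (Fin 8) R).submatrix idx idx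

def Gram : Matrix J8 J8 R :=
  (!![0, 0, 0, 0, 1, 0, 0, 0; 0, 0, 0, 0, 0, 1, 0, 0; 0, 0, 0, 0, 0, 0, 1, 0; 0, 0, 0, 0, 0, 0, 0, 1; 1, 0, 0, 0, 0, 0, 0, 0; 0, 1, 0, 0, 0, 0, 0, 0; 0, 0, 1, 0, 0, 0, 0, 0; 0, 0, 0, 1, 0, 0, 0, 0] : Matrix (Fin 8) (Fin 8) R).submatrix idx idx

def P8 : Matrix J8 (Fin 8) R :=
  (!![2, 2, 0, 0, 1, 0, 0, 0; 0, 2, 1, 0, 1, 0, 0, 0; 0, 1, 2, 1, 1, 0, 2, 0; 0, 0, 0, 0, 0, 1, 2, 0; 0, 0, 0, 0, 0, 0, 0, 1; 0, 0, 0, 2, 2, 0, 2, 0; 0, 0, 0, 2, 2, 1, 0, 0; 0, 1, 1, 0, 1, 0, 0, 0] : Matrix (Fin 8) (Fin 8) R).submatrix idx id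

def P8i : Matrix (Fin 8) J8 R :=
  (!![2, 0, 1, 2, 0, 0, 1, 1; 0, 1, 0, 0, 0, 0, 0, 2; 0, 1, 2, 1, 0, 0, 2, 2; 0, 2, 2, 0, 0, 1, 0, 0; 0, 1, 1, 2, 0, 0, 1, 0; 0, 0, 0, 2, 0, 1, 2, 0; 0, 0, 0, 1, 0, 1, 2, 0; 0, 0, 0, 0, 1, 0, 0, 0] : Matrix (Fin 8) (Fin 8) R).submatrix id idx

def U8 : Matrix J8 (Fin 2) R :=
  (!![1, 0; 0, 1; 0, 2; 0, 0; 0, 0; 0, 0; 0, 0; 0, 1] : Matrix (Fin 8) (Fin 2) R).submatrix idx id

def W8 : Matrix (Fin 2) J8 R :=
  (!![0, 0, 0, 2, 0, 2, 1, 0; 0, 0, 0, 0, 1, 0, 0, 0] : Matrix (Fin 2) (Fin 8) R).submatrix id idx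

theorem G8_G8i : G8 * G8i = 1 := by decide +kernel
theorem G8i_G8 : G8i * G8 = 1 := by decide +kernel
theorem G8_pow : G8 ^ 9 = 1 := by decide +kernel
theorem G8_ne : G8 ^ 3 ≠ 1 := by decide +kernel
theorem G8_gram : G8ᵀ * Gram * G8 = Gram := by decide +kernel
theorem P8_P8i : P8 * P8i = 1 := by decide +kernel
theorem P8i_P8 : P8i * P8 = 1 := by decide +kernel
theorem conj_G8 : P8i * G8 * P8 = 1 + Nm := by decide +kernel
theorem G8_sq : (G8 ^ 3 - 1) * (G8 ^ 3 - 1) = 0 := by decide +kernel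
theorem G8_fac : G8 ^ 3 - 1 = U8 * W8 := by decide +kernel

def g8 : GL J8 R := ⟨G8, G8i, G8_G8i, G8i_G8⟩

theorem polar_gram (x y : J8 → R) : polar Q8 x y = x ⬝ᵥ (Gram *ᵥ y) := by
  rw [polar_plusForm]
  simp only [dotProduct, mulVec, Fintype.sum_sum_type, Fin.sum_univ_four]
  simp only [Gram, idx, _root_.Fin.isValue, _root_.Matrix.submatrix_apply, _root_.Fin.coe_ofNat_eq_mod, _root_.Nat.zero_mod, _root_.Fin.zero_eta, _root_.Matrix.of_apply, _root_.Matrix.cons_val', _root_.Matrix.cons_val_zero, _root_.Matrix.cons_val_fin_one, _root_.MulZeroClass.zero_mul, _root_.Nat.one_mod, _root_.Fin.mk_one, _root_.Matrix.cons_val_one, _root_.add_zero, _root_.Nat.reduceMod, _root_.Fin.reduceFinMk, _root_.Matrix.cons_val, _root_.Nat.mod_succ, _root_.one_mul, _root_.Nat.reduceAdd, _root_.zero_add]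
  ring

theorem g8_mem : T g8 ∈ O Q8 := by
  intro v
  have h1 : polar Q8 (T g8 v) (T g8 v) = polar Q8 v v := by
    rw [polar_gram, polar_gram, T_apply]
    change (G8 *ᵥ v) ⬝ᵥ (Gram *ᵥ (G8 *ᵥ v)) = _
    rw [Matrix.mulVec_mulVec, Matrix.dotProduct_mulVec, Matrix.vecMul_mulVec, ← Matrix.mul_assoc, G8_gram,
      ← Matrix.dotProduct_mulVec]
  rw [polar_self', polar_self'] at h1
  exact mul_left_cancel₀ (by decide) h1

theorem T_pow (n : ℕ) : (T g8) ^ n = T (g8 ^ n) := (map_pow T g8 n).symm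

theorem g8_nine : (T g8) ^ 9 = 1 := by
  rw [T_pow]
  have : g8 ^ 9 = 1 := by
    apply Units.ext
    rw [Units.val_pow_eq_pow_val]
    exact G8_pow
  rw [this, map_one]

theorem g8_three : (T g8) ^ 3 ≠ 1 := by
  rw [T_pow]
  intro h
  rw [map_eq_one_iff T T.injective] at h
  have h1 := congrArg Units.val h
  rw [Units.val_pow_eq_pow_val] at h1
  exact G8_ne h1

theorem el_g8 : El Q8 1 (T g8) := by
  apply El.of_odd hQ8 g8_mem
  have h1 : orderOf (T g8) ∣ 9 := orderOf_dvd_of_pow_eq_one g8_nine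
  exact Odd.of_dvd_nat (by decide) h1

/-- the matrix of a linear automorphism -/
noncomputable def mx (y : (J8 → R) ≃ₗ[R] (J8 → R)) : Matrix J8 J8 R := ((T.symm y : GL J8 R) : Matrix J8 J8 R)

theorem mx_mulVec (y : (J8 → R) ≃ₗ[R] (J8 → R)) (v : J8 → R) : mx y *ᵥ v = y v := by
  rw [mx, ← T_apply, MulEquiv.apply_symm_apply]

theorem mx_mul (y z : (J8 → R) ≃ₗ[R] (J8 → R)) : mx (y * z) = mx y * mx z := by
  rw [mx, map_mul, Units.val_mul]; rfl

theorem mx_inj {y z : (J8 → R) ≃ₗ[R] (J8 → R)} (h : mx y = mx z) : y = z :=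
  T.symm.injective (Units.ext h)

theorem mx_one : mx 1 = 1 := by rw [mx, map_one]; rfl

theorem mx_neg : mx (LinearEquiv.neg R) = -1 := by
  have h : T (-1 : GL J8 R) = LinearEquiv.neg R := by
    apply LinearEquiv.ext
    intro v
    rw [T_apply, LinearEquiv.neg_apply, Units.val_neg, Units.val_one, Matrix.neg_mulVec, Matrix.one_mulVec]
  rw [mx, ← h, MulEquiv.symm_apply_apply, Units.val_neg, Units.val_one]

theorem mx_det (y : (J8 → R) ≃ₗ[R] (J8 → R)) (h : LinearEquiv.det y = 1) : (mx y).det = 1 := by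
  have h1 := congrArg Units.val h
  rw [LinearEquiv.coe_det, Units.val_one] at h1
  rw [← h1, ← LinearMap.det_toLin']
  congr 1
  apply LinearMap.ext
  intro v
  rw [Matrix.toLin'_apply, mx_mulVec]
  rfl

/-- the only involutions of determinant one modulo scalars commuting with `g8` -/
theorem cent_g8 {y : (J8 → R) ≃ₗ[R] (J8 → R)} (hy : LinearEquiv.det y = 1) (hc : y * T g8 = T g8 * y)
    (hsq : y * y = 1 ∨ y * y = LinearEquiv.neg R) : y = 1 ∨ y = LinearEquiv.neg R := by
  set X : Matrix (Fin 8) (Fin 8) R := P8i * mx y * P8 with hX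
  have hg : mx (T g8) = G8 := by rw [mx, MulEquiv.symm_apply_apply]; rfl
  have hc' : mx y * G8 = G8 * mx y := by rw [← hg, ← mx_mul, ← mx_mul, hc]
  have h1 : X * (1 + Nm) = (1 + Nm) * X := by
    rw [← conj_G8, hX]
    calc P8i * mx y * P8 * (P8i * G8 * P8) = P8i * mx y * (P8 * P8i) * G8 * P8 := by simp only [Matrix.mul_assoc]
      _ = P8i * (mx y * G8) * P8 := by rw [P8_P8i, Matrix.mul_one]; simp only [Matrix.mul_assoc]
      _ = P8i * (G8 * mx y) * P8 := by rw [hc']
      _ = P8i * G8 * (P8 * P8i) * mx y * P8 := by rw [P8_P8i, Matrix.mul_one]; simp only [Matrix.mul_assoc]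
      _ = P8i * G8 * P8 * (P8i * mx y * P8) := by simp only [Matrix.mul_assoc]
  have h2 : X * Nm = Nm * X := by
    rw [mul_add, add_mul, mul_one, one_mul] at h1
    exact add_left_cancel h1
  have h3 : X * X = P8i * mx (y * y) * P8 := by
    rw [hX, mx_mul]
    calc P8i * mx y * P8 * (P8i * mx y * P8) = P8i * mx y * (P8 * P8i) * mx y * P8 := by simp only [Matrix.mul_assoc]
      _ = P8i * (mx y * mx y) * P8 := by rw [P8_P8i, Matrix.mul_one]; simp only [Matrix.mul_assoc]
  have h4 : X * X = 1 ∨ X * X = -1 := by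
    rcases hsq with h | h
    · left
      rw [h3, h, mx_one, Matrix.mul_one, P8i_P8]
    · right
      rw [h3, h, mx_neg, Matrix.mul_neg, Matrix.mul_one, Matrix.neg_mul, P8i_P8]
  have h5 : X.det = 1 := by
    rw [hX, Matrix.det_conj_of_mul_eq_one P8i_P8 P8_P8i, mx_det y hy]
  have h6 : mx y = P8 * X * P8i := by
    rw [hX]
    calc mx y = (P8 * P8i) * mx y * (P8 * P8i) := by rw [P8_P8i, Matrix.one_mul, Matrix.mul_one]
      _ = P8 * (P8i * mx y * P8) * P8i := by simp only [Matrix.mul_assoc]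
  rcases cent h2 h4 h5 with h | h
  · left
    apply mx_inj
    rw [h6, h, Matrix.mul_one, P8_P8i, mx_one]
  · right
    apply mx_inj
    rw [h6, h, Matrix.mul_neg, Matrix.mul_one, Matrix.neg_mul, P8_P8i, mx_neg]

end Cfsg.Agent.H198.Sax
end

-- part: H198/SaxQuad
section
/-!
# The good element of `PΩ₈⁺(3)`: the cube is quadratic (helper198)
-/

set_option autoImplicit false
set_option linter.unusedSectionVars false

namespace Cfsg.Agent.H198.Sax

open QuadraticMap Module Matrix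
open Cfsg.Agent.LieClassical.OrthCore Cfsg.Agent.LieClassical.OrthForms
  Cfsg.Agent.H160.QSpin Cfsg.Agent.H160.QDisc
open Cfsg.Agent.H899.O7.PolyList (R)
open Cfsg.Agent.H899.O7.Mat (T T_apply)
open Cfsg.Agent.H899.O7.Spec (Q8 hQ8 toP toP_surj toP_eq_one_iff sing8 Ome mem_Ome)

/-- two quadratic elements in characteristic three whose quotient is an involution are equal -/
theorem quad_eq {A : Type*} [Ring A] (h3 : (3 : A) = 0) {a b : A} (ha : a * a = 0) (hb : b * b = 0)
    (h : (1 - a) * (1 + b) * ((1 - a) * (1 + b)) = 1) : a = b := by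
  have hn : ∀ x : A, x + x + x = 0 := by
    intro x
    have : (3 : A) * x = 0 := by rw [h3, zero_mul]
    have h4 : x + x + x = 3 * x := by noncomm_ring
    rw [h4, this]
  have h1 : (1 + a) * (1 - a) = 1 := by
    have : (1 + a) * (1 - a) = 1 - a * a := by noncomm_ring
    rw [this, ha, sub_zero]
  have h2 : (1 + b) * (1 - a) * (1 + b) = 1 + a := by
    calc (1 + b) * (1 - a) * (1 + b) = ((1 + a) * (1 - a)) * (1 + b) * (1 - a) * (1 + b) := by rw [h1, one_mul]
      _ = (1 + a) * ((1 - a) * (1 + b) * ((1 - a) * (1 + b))) := by noncomm_ring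
      _ = 1 + a := by rw [h, mul_one]
  -- the equation
  have h4 : b + b - a - a - b * a - a * b - b * a * b = 0 := by
    have e : (1 + b) * (1 - a) * (1 + b) = 1 + a + (b + b - a - a - b * a - a * b - b * a * b) + b * b := by
      noncomm_ring
    rw [e, hb, add_zero] at h2
    exact left_eq_add.1 h2.symm
  have h5 : b * a * b = 0 := by
    have e : b * (b + b - a - a - b * a - a * b - b * a * b) * b =
        b * b * b + b * b * b - b * a * b - b * a * b - b * b * a * b - b * a * (b * b) - b * b * a * (b * b) := by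
      noncomm_ring
    rw [h4, mul_zero, zero_mul, hb] at e
    simp only [zero_mul, mul_zero, sub_zero, zero_add, zero_sub] at e
    have := hn (b * a * b)
    have e2 : b * a * b + b * a * b = 0 := by
      have e3 : -(b * a * b) - b * a * b = 0 := e.symm
      have e4 : b * a * b + b * a * b = -(-(b * a * b) - b * a * b) := by abel
      rw [e4, e3, neg_zero]
    rwa [e2, zero_add] at this
  rw [h5, sub_zero] at h4
  have h6 : b * a = 0 := by
    have e : b * (b + b - a - a - b * a - a * b) = b * b + b * b - b * a - b * a - b * b * a - b * a * b := by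
      noncomm_ring
    rw [h4, mul_zero, hb, h5] at e
    simp only [zero_mul, sub_zero, zero_add, zero_sub] at e
    have := hn (b * a)
    have e2 : b * a + b * a = 0 := by
      have e4 : b * a + b * a = -(-(b * a) - b * a) := by abel
      rw [e4, ← e, neg_zero]
    rwa [e2, zero_add] at this
  have h7 : a * b = 0 := by
    have e : (b + b - a - a - b * a - a * b) * b = b * b + b * b - a * b - a * b - b * a * b - a * (b * b) := by
      noncomm_ring
    rw [h4, zero_mul, hb, h5] at e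
    simp only [mul_zero, sub_zero, zero_add, zero_sub] at e
    have := hn (a * b)
    have e2 : a * b + a * b = 0 := by
      have e4 : a * b + a * b = -(-(a * b) - a * b) := by abel
      rw [e4, ← e, neg_zero]
    rwa [e2, zero_add] at this
  rw [h6, h7, sub_zero, sub_zero] at h4
  have h8 : a - b = b + b - a - a + (a + a + a) - (b + b + b) := by abel
  rw [← sub_eq_zero, h8, h4, hn, hn, zero_add, sub_zero]

section Nil

variable {F V : Type*} [Field F] [AddCommGroup V] [Module F V] [FiniteDimensional F V]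

theorem nil_conj (y w : V ≃ₗ[F] V) (x : V) : nil (y * w * y⁻¹) x = y (nil w (y⁻¹ x)) := by
  rw [nil_apply, nil_apply, map_sub]
  congr 1
  exact (LinearEquiv.apply_symm_apply y x).symm

theorem nil_sq_conj {w : V ≃ₗ[F] V} (hw : nil w * nil w = 0) (y : V ≃ₗ[F] V) :
    nil (y * w * y⁻¹) * nil (y * w * y⁻¹) = 0 := by
  apply LinearMap.ext
  intro x
  rw [Module.End.mul_apply, nil_conj, nil_conj]
  have h1 : y⁻¹ (y (nil w (y⁻¹ x))) = nil w (y⁻¹ x) := LinearEquiv.symm_apply_apply y _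
  rw [h1, ← Module.End.mul_apply, hw]
  exact map_zero y

theorem coe_eq (w : V ≃ₗ[F] V) : ((w : V →ₗ[F] V) : Module.End F V) = 1 + nil w := by
  apply LinearMap.ext
  intro x
  change w x = x + (w x - x)
  abel

theorem coe_inv {w : V ≃ₗ[F] V} (hw : nil w * nil w = 0) :
    (((w⁻¹ : V ≃ₗ[F] V) : V →ₗ[F] V) : Module.End F V) = 1 - nil w := by
  have h1 := inv_mul_nil_pow (m := w) (k := 1) (by rw [pow_two]; exact hw)
  rw [pow_one] at h1
  rw [coe_eq w⁻¹, nil_inv, h1]
  abel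

theorem nil_inj {w w' : V ≃ₗ[F] V} (h : nil w = nil w') : w = w' := by
  apply LinearEquiv.ext
  intro x
  have h1 := congrArg (fun f : Module.End F V => f x) h
  simp only [nil_apply, sub_left_inj] at h1
  exact h1

/-- two conjugate maps with large kernels have a common kernel vector -/
theorem exists_common {w : V ≃ₗ[F] V} (y : V ≃ₗ[F] V)
    (hr : 2 * finrank F (LinearMap.range (nil w)) < finrank F V) :
    ∃ v, v ≠ 0 ∧ nil w v = 0 ∧ nil (y * w * y⁻¹) v = 0 := by
  set A := LinearMap.ker (nil w) with hA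
  set B := A.map (y : V →ₗ[F] V) with hB
  have h1 : finrank F B = finrank F A := LinearEquiv.finrank_map_eq y A
  have h2 := LinearMap.finrank_range_add_finrank_ker (nil w)
  have h3 := Submodule.finrank_sup_add_finrank_inf_eq A B
  have h4 : finrank F ((A ⊔ B : Submodule F V)) ≤ finrank F V := Submodule.finrank_le _
  have h5 : 0 < finrank F ((A ⊓ B : Submodule F V)) := by
    change finrank F (LinearMap.range (nil w)) + finrank F A = _ at h2
    omega
  have h6 : (A ⊓ B : Submodule F V) ≠ ⊥ := by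
    intro h
    rw [h, finrank_bot] at h5
    exact absurd h5 (by norm_num)
  obtain ⟨v, hv, hv0⟩ := Submodule.exists_mem_ne_zero_of_ne_bot h6
  refine ⟨v, hv0, hv.1, ?_⟩
  obtain ⟨u, hu, rfl⟩ := hv.2
  have h8 : nil (y * w * y⁻¹) ((y : V →ₗ[F] V) u) = y (nil w u) := by
    rw [nil_conj]
    congr 2
    exact LinearEquiv.symm_apply_apply y u
  rw [h8]
  have h9 : nil w u = 0 := hu
  rw [h9, map_zero]

/-- the quadratic argument -/
theorem quad_arg (h2 : (2 : F) ≠ 0) (h3 : (3 : F) = 0) {w y : V ≃ₗ[F] V} (hw : nil w * nil w = 0)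
    (hr : 2 * finrank F (LinearMap.range (nil w)) < finrank F V)
    (hu : (w⁻¹ * (y * w * y⁻¹)) * (w⁻¹ * (y * w * y⁻¹)) = 1 ∨
      (w⁻¹ * (y * w * y⁻¹)) * (w⁻¹ * (y * w * y⁻¹)) = LinearEquiv.neg F) : w = y * w * y⁻¹ := by
  rcases hu with hu | hu
  · apply nil_inj
    apply quad_eq (A := Module.End F V) _ hw (nil_sq_conj hw y)
    · have h4 := congrArg (fun g : V ≃ₗ[F] V => ((g : V →ₗ[F] V) : Module.End F V)) hu
      have h5 : (((w⁻¹ * (y * w * y⁻¹) * (w⁻¹ * (y * w * y⁻¹)) : V ≃ₗ[F] V) : V →ₗ[F] V) : Module.End F V) =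
          (((w⁻¹ : V ≃ₗ[F] V) : V →ₗ[F] V) : Module.End F V) * (((y * w * y⁻¹ : V ≃ₗ[F] V) : V →ₗ[F] V) : Module.End F V) *
          ((((w⁻¹ : V ≃ₗ[F] V) : V →ₗ[F] V) : Module.End F V) * (((y * w * y⁻¹ : V ≃ₗ[F] V) : V →ₗ[F] V) : Module.End F V)) := rfl
      simp only [h5] at h4
      rw [coe_inv hw, coe_eq (y * w * y⁻¹)] at h4
      exact h4
    · apply LinearMap.ext
      intro x
      have : (3 : Module.End F V) x = (3 : F) • x := by
        rw [show (3 : Module.End F V) = 1 + 1 + 1 by norm_num]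
        change x + x + x = (3 : F) • x
        module
      rw [this, h3, zero_smul]
      rfl
  · exfalso
    obtain ⟨v, hv0, hv1, hv2⟩ := exists_common (w := w) y hr
    have h4 : w v = v := by rwa [nil_apply, sub_eq_zero] at hv1
    have h5 : (y * w * y⁻¹) v = v := by rwa [nil_apply, sub_eq_zero] at hv2
    have h6 : w⁻¹ v = v := by
      conv_lhs => rw [← h4]
      exact LinearEquiv.symm_apply_apply w v
    have h7 : (w⁻¹ * (y * w * y⁻¹)) v = v := by
      change w⁻¹ ((y * w * y⁻¹) v) = v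
      rw [h5, h6]
    have h8 := congrArg (fun g : V ≃ₗ[F] V => g v) hu
    have h9 : ((w⁻¹ * (y * w * y⁻¹)) * (w⁻¹ * (y * w * y⁻¹))) v = v := by
      change (w⁻¹ * (y * w * y⁻¹)) ((w⁻¹ * (y * w * y⁻¹)) v) = v
      rw [h7, h7]
    have h10 : v = -v := h9.symm.trans h8
    have h11 : (2 : F) • v = 0 := by
      rw [two_smul]
      nth_rewrite 1 [h10]
      exact neg_add_cancel v
    rcases smul_eq_zero.1 h11 with h12 | h12
    · exact h2 h12
    · exact hv0 h12

end Nil

/-! ### The element -/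

theorem nil_g8 : nil ((T g8) ^ 3) = Matrix.mulVecLin (G8 ^ 3 - 1) := by
  apply LinearMap.ext
  intro v
  rw [nil_apply, T_pow, T_apply, Matrix.mulVecLin_apply, Matrix.sub_mulVec, Matrix.one_mulVec,
    Units.val_pow_eq_pow_val]
  rfl

theorem nil_g8_sq : nil ((T g8) ^ 3) * nil ((T g8) ^ 3) = 0 := by
  rw [nil_g8]
  apply LinearMap.ext
  intro v
  rw [Module.End.mul_apply, Matrix.mulVecLin_apply, Matrix.mulVecLin_apply, Matrix.mulVec_mulVec, G8_sq,
    Matrix.zero_mulVec]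
  rfl

theorem rank_g8 : 2 * finrank R (LinearMap.range (nil ((T g8) ^ 3))) < finrank R (J8 → R) := by
  have h1 : finrank R (LinearMap.range (nil ((T g8) ^ 3))) ≤ 2 := by
    rw [nil_g8]
    change (G8 ^ 3 - 1).rank ≤ 2
    rw [G8_fac]
    refine (Matrix.rank_mul_le_left _ _).trans ?_
    exact (Matrix.rank_le_card_width _).trans (by rw [Fintype.card_fin])
  have h2 : finrank R (J8 → R) = 8 := by simp
  rw [h2]
  omega

/-- good elements of central quotients -/
theorem good_of {G K : Type*} [Group G] [Group K] (π : G →* K) (hπ : Function.Surjective π) (n : G)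
    (hker : ∀ x, π x = 1 ↔ x = 1 ∨ x = n) (hn : n * n = 1) (hn1 : n ≠ 1) (hnc : ∀ x, n * x = x * n) (g : G)
    (h9 : g ^ 9 = 1) (h3 : g ^ 3 ≠ 1) (hA : ∀ y, y * g = g * y → (y * y = 1 ∨ y * y = n) → y = 1 ∨ y = n)
    (hB : ∀ y, ((g ^ 3)⁻¹ * (y * g ^ 3 * y⁻¹)) * ((g ^ 3)⁻¹ * (y * g ^ 3 * y⁻¹)) = 1 ∨
      ((g ^ 3)⁻¹ * (y * g ^ 3 * y⁻¹)) * ((g ^ 3)⁻¹ * (y * g ^ 3 * y⁻¹)) = n → g ^ 3 = y * g ^ 3 * y⁻¹) :
    Good (π g) := by
  refine ⟨?_, ?_, ?_, ?_⟩
  · rw [← map_pow, h9, map_one]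
  · intro h
    rw [← map_pow, hker] at h
    rcases h with h | h
    · exact h3 h
    · have h2 : g ^ 9 = n := by
        rw [show 9 = 3 * 3 from rfl, pow_mul, h, pow_succ, pow_two, hn, one_mul]
      rw [h9] at h2
      exact hn1 h2.symm
  · intro y hy hc
    obtain ⟨y, rfl⟩ := hπ y
    rw [← map_mul, hker] at hy
    have h1 : π (y * g * (g * y)⁻¹) = 1 := by
      rw [map_mul, map_inv, map_mul, hc, ← map_mul, mul_inv_cancel]
    rw [hker] at h1
    have hc2 : y * g = g * y := by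
      rcases h1 with h | h
      · exact mul_inv_eq_one.1 h
      · exfalso
        rw [mul_inv_eq_iff_eq_mul] at h
        have h2 : y * g * y⁻¹ = n * g := by rw [h]; group
        have h4 : (n * g) ^ 9 = 1 := by
          rw [← h2, conj_pow, h9, mul_one, mul_inv_cancel]
        rw [(show Commute n g from hnc g).mul_pow, h9, mul_one, show 9 = 2 * 4 + 1 from rfl, pow_succ, pow_mul,
          pow_two, hn, one_pow, one_mul] at h4
        exact hn1 h4
    rw [hker]
    exact hA y hc2 hy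
  · intro y hy hc
    obtain ⟨y, rfl⟩ := hπ y
    rw [← map_pow] at hc ⊢
    set w := g ^ 3 with hw
    set s := π w with hs
    set t := π y with ht
    have hu : (s⁻¹ * (t * s * t⁻¹)) * (s⁻¹ * (t * s * t⁻¹)) = 1 := by
      have h1 : s⁻¹ * (t * s * t⁻¹) = (s⁻¹ * t * s) * t⁻¹ := by group
      have h2 : (s⁻¹ * t * s) * t⁻¹ = t⁻¹ * (s⁻¹ * t * s) := by
        rw [mul_inv_eq_iff_eq_mul, mul_assoc t⁻¹ (s⁻¹ * t * s) t, ← hc, inv_mul_cancel_left]
      have h3 : t⁻¹ = t := inv_eq_of_mul_eq_one_left hy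
      rw [h1]
      nth_rewrite 2 [h2]
      calc (s⁻¹ * t * s) * t⁻¹ * (t⁻¹ * (s⁻¹ * t * s)) = (s⁻¹ * t * s) * (t⁻¹ * t⁻¹) * (s⁻¹ * t * s) := by group
        _ = (s⁻¹ * t * s) * (s⁻¹ * t * s) := by rw [h3, hy, mul_one]
        _ = s⁻¹ * (t * t) * s := by group
        _ = 1 := by rw [hy, mul_one, inv_mul_cancel]
    have hu2 : π ((w⁻¹ * (y * w * y⁻¹)) * (w⁻¹ * (y * w * y⁻¹))) = 1 := by
      simp only [map_mul, map_inv]
      exact hu
    rw [hker] at hu2
    have key2 := hB y hu2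
    have key3 : s = t * s * t⁻¹ := by
      have := congrArg π key2
      rwa [map_mul, map_mul, map_inv] at this
    have key4 : s * t = t * s := eq_mul_inv_iff_mul_eq.1 key3
    rw [mul_assoc, ← key4, inv_mul_cancel_left]

theorem neg_sq : (LinearEquiv.neg R : (J8 → R) ≃ₗ[R] (J8 → R)) * LinearEquiv.neg R = 1 := by
  apply LinearEquiv.ext
  intro x
  change -(-x) = x
  rw [neg_neg]

theorem neg_ne : (LinearEquiv.neg R : (J8 → R) ≃ₗ[R] (J8 → R)) ≠ 1 := by
  intro h
  have h1 := congrArg (fun g : (J8 → R) ≃ₗ[R] (J8 → R) => g (fun _ => 1) (Sum.inl 0)) h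
  revert h1
  change ¬ (-(1 : R) = 1)
  decide

theorem el_neg8 : El Q8 1 (LinearEquiv.neg R : (J8 → R) ≃ₗ[R] (J8 → R)) :=
  el_neg (by decide) hQ8 (by simp only [_root_.Module.finrank_fintype_fun_eq_card, _root_.Fintype.card_sum, _root_.Fintype.card_fin, _root_.Nat.reduceAdd]; decide) (by rw [Cfsg.Agent.H899.O7.Spec.dc8]; rfl)

/-- `-1` -/
def nn : Ome Q8 := ⟨LinearEquiv.neg R, el_neg8⟩

/-- the lift of the good element -/
noncomputable def g1 : Ome Q8 := ⟨T g8, el_g8⟩

theorem g1_pow (n : ℕ) : ((g1 ^ n : Ome Q8) : (J8 → R) ≃ₗ[R] (J8 → R)) = (T g8) ^ n := Subgroup.coe_pow _ _ _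

theorem good_g1 (h5 : 5 ≤ Fintype.card J8) : Good (toP hQ8 h5 g1) := by
  refine good_of (toP hQ8 h5) (toP_surj hQ8 h5) nn ?_ ?_ ?_ ?_ g1 ?_ ?_ ?_ ?_
  · intro x
    rw [toP_eq_one_iff hQ8 h5 sing8]
    constructor
    · rintro (h | h)
      · exact Or.inl h
      · exact Or.inr (Subtype.ext h)
    · rintro (h | h)
      · exact Or.inl h
      · exact Or.inr (congrArg Subtype.val h)
  · exact Subtype.ext neg_sq
  · intro h
    exact neg_ne (congrArg Subtype.val h)
  · intro x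
    apply Subtype.ext
    apply LinearEquiv.ext
    intro v
    change -((x : (J8 → R) ≃ₗ[R] (J8 → R)) v) = (x : (J8 → R) ≃ₗ[R] (J8 → R)) (-v)
    rw [map_neg]
  · apply Subtype.ext
    rw [g1_pow]
    exact g8_nine
  · intro h
    have h1 := congrArg Subtype.val h
    rw [g1_pow] at h1
    exact g8_three h1
  · intro y hc hsq
    obtain ⟨-, hd, -⟩ := mem_Ome.1 y.2
    have hsq' : (y : (J8 → R) ≃ₗ[R] (J8 → R)) * (y : (J8 → R) ≃ₗ[R] (J8 → R)) = 1 ∨
        (y : (J8 → R) ≃ₗ[R] (J8 → R)) * (y : (J8 → R) ≃ₗ[R] (J8 → R)) = LinearEquiv.neg R := by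
      rcases hsq with h | h
      · exact Or.inl (congrArg Subtype.val h)
      · exact Or.inr (congrArg Subtype.val h)
    rcases cent_g8 hd (congrArg Subtype.val hc) hsq' with h | h
    · exact Or.inl (Subtype.ext h)
    · exact Or.inr (Subtype.ext h)
  · intro y hu
    apply Subtype.ext
    have h3 := g1_pow 3
    have hv : ∀ w : Ome Q8, ((w⁻¹ * (y * w * y⁻¹) * (w⁻¹ * (y * w * y⁻¹)) : Ome Q8) : (J8 → R) ≃ₗ[R] (J8 → R)) =
        (w : (J8 → R) ≃ₗ[R] (J8 → R))⁻¹ * ((y : (J8 → R) ≃ₗ[R] (J8 → R)) * (w : (J8 → R) ≃ₗ[R] (J8 → R)) *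
          (y : (J8 → R) ≃ₗ[R] (J8 → R))⁻¹) *
          ((w : (J8 → R) ≃ₗ[R] (J8 → R))⁻¹ * ((y : (J8 → R) ≃ₗ[R] (J8 → R)) * (w : (J8 → R) ≃ₗ[R] (J8 → R)) *
          (y : (J8 → R) ≃ₗ[R] (J8 → R))⁻¹)) := fun w => rfl
    have hv2 : ∀ w : Ome Q8, ((y * w * y⁻¹ : Ome Q8) : (J8 → R) ≃ₗ[R] (J8 → R)) =
        (y : (J8 → R) ≃ₗ[R] (J8 → R)) * (w : (J8 → R) ≃ₗ[R] (J8 → R)) * (y : (J8 → R) ≃ₗ[R] (J8 → R))⁻¹ := fun w => rfl
    rw [hv2, h3]
    apply quad_arg (by decide) (by decide) nil_g8_sq rank_g8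
    rcases hu with h | h
    · left
      have h4 := congrArg Subtype.val h
      rw [hv, h3] at h4
      exact h4
    · right
      have h4 := congrArg Subtype.val h
      rw [hv, h3] at h4
      exact h4

end Cfsg.Agent.H198.Sax
end

-- part: H198/SaxO8P3
section
/-!
# `PΩ₈⁺(3)` (helper198, task SAX-O8P3)

`Rec` : the recognition of `Ω₇(3)` and `PΩ₈⁺(3)` by the element orders (`Cfsg.Agent.S3408.main`).

* `o8p3_section` : a section with all element orders of `PΩ₈⁺(3)` is a subgroup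
* `o8p3_miss` : every maximal subgroup misses an automorphism class
-/

set_option autoImplicit false
set_option linter.unusedSectionVars false

namespace Cfsg.Agent.H198.Sax

open QuadraticMap Module Matrix
open Cfsg.Agent.LieClassical.OrthCore Cfsg.Agent.LieClassical.OrthForms
  Cfsg.Agent.H160.QSpin Cfsg.Agent.H160.QDisc
open Cfsg.Agent.H899.O7 (Sp Om)
open Cfsg.Agent.H899.O7.PolyList (R)
open Cfsg.Agent.H899.O7.Spec (Q7 hQ7 Q8 hQ8 toP toP_surj toP_eq_one_iff sing8 Ome mem_Ome range_Q8)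
open Cfsg.Agent.H938.Sax (Miss OrdGap MissMax not_ordGap_of_range exists_order_of_not_ordGap)

/-- the recognition theorem -/
def Rec : Prop := ∀ (G : Type) [Group G] [Finite G], Sp G →
  Nonempty (G ≃* Cfsg.POmega R ⇑Q7) ∨ Nonempty (G ≃* Cfsg.POmega R ⇑Q8)

theorem sing7 : ∃ u : Unit ⊕ (Fin 3 ⊕ Fin 3) → R, u ≠ 0 ∧ Q7 u = 0 := by
  refine ⟨Pi.single (Sum.inr (Sum.inl 0)) 1, ?_, ?_⟩
  · intro h
    have := congrFun h (Sum.inr (Sum.inl 0))
    rw [Pi.single_eq_same] at this
    exact absurd this (by decide)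
  · rw [Q7, coe_oddForm, quadFormOdd_apply, Pi.single_eq_of_ne (by simp)]
    rw [Finset.sum_eq_zero, zero_pow (by norm_num), zero_add]
    intro i _
    rw [Pi.single_eq_of_ne (i := Sum.inr (Sum.inl 0)) (i' := Sum.inr (Sum.inr i)) (by simp), mul_zero]

/-- `Ω₇(3)` contains no good element -/
theorem not_good_seven (x : Cfsg.POmega R ⇑Q7) : ¬ Good x := by
  intro hx
  have h5 : 5 ≤ Fintype.card (Unit ⊕ (Fin 3 ⊕ Fin 3)) := by simp
  have h7 : finrank R (Unit ⊕ (Fin 3 ⊕ Fin 3) → R) = 7 := by simp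
  obtain ⟨m, rfl⟩ := toP_surj hQ7 h5 x
  have hinj : Function.Injective (toP hQ7 h5) := by
    rw [injective_iff_map_eq_one]
    intro a ha
    rw [toP_eq_one_iff hQ7 h5 sing7] at ha
    rcases ha with h | h
    · exact h
    · exfalso
      obtain ⟨-, hd, -⟩ := mem_Ome.1 a.2
      rw [h, det_neg_odd (by rw [h7]; decide)] at hd
      have h1 := congrArg Units.val hd
      revert h1
      change ¬ (-(1 : R) = 1)
      decide
  have hm : Good m := hx.comap hinj
  have hmO : (m : (Unit ⊕ (Fin 3 ⊕ Fin 3) → R) ≃ₗ[R] (Unit ⊕ (Fin 3 ⊕ Fin 3) → R)) ∈ O Q7 := by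
    obtain ⟨h, -, -⟩ := mem_Ome.1 m.2
    exact h
  rcases seven (by decide) (by decide) hQ7 h7 hmO (by
      rw [← Subgroup.coe_pow, hm.nine]; rfl) (by
      rw [← Subgroup.coe_pow]
      intro h
      exact hm.three (Subtype.ext h)) with h | h
  · obtain ⟨y, hy, h1, h2, h3⟩ := h
    apply h3
    have h4 := hm.inv ⟨y, hy⟩ (Subtype.ext h1) (Subtype.ext h2)
    exact congrArg Subtype.val h4
  · obtain ⟨y, hy, h1, h2, h3⟩ := h
    apply h3
    have h4 := hm.quad ⟨y, hy⟩ (Subtype.ext h1) (Subtype.ext h2)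
    exact congrArg Subtype.val h4

/-- `PΩ₈⁺(3)` over `ZMod 3` -/
abbrev P8T := Cfsg.POmega R ⇑Q8

theorem exists_good : ∃ g : P8T, Good g := ⟨_, good_g1 (by simp)⟩

theorem miss_of_equiv {M : Subgroup P8T} (e : M ≃* Cfsg.POmega R ⇑Q7) : Miss P8T M := by
  obtain ⟨g, hg⟩ := exists_good
  refine ⟨g, fun φ hφ => ?_⟩
  have h1 : Good (φ g) := by
    apply Good.comap (f := φ.symm.toMonoidHom) φ.symm.injective
    have : φ.symm.toMonoidHom (φ g) = g := φ.symm_apply_apply g
    rw [this]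
    exact hg
  have h2 : Good (⟨φ g, hφ⟩ : M) := Good.comap (f := M.subtype) M.subtype_injective h1
  refine not_good_seven (e ⟨φ g, hφ⟩) ?_
  apply Good.comap (f := e.symm.toMonoidHom) e.symm.injective
  have : e.symm.toMonoidHom (e ⟨φ g, hφ⟩) = ⟨φ g, hφ⟩ := e.symm_apply_apply _
  rw [this]
  exact h2

theorem finite_P8T : Finite P8T := Quotient.finite _

/-- a subgroup with all element orders -/
theorem sp_of_not_ordGap {M : Subgroup P8T} (h : ¬ OrdGap P8T M) : Sp M := by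
  simp only [Sp, ← range_Q8]
  ext n
  constructor
  · rintro ⟨m, rfl⟩
    exact ⟨m, Subgroup.orderOf_coe m⟩
  · rintro ⟨g, rfl⟩
    obtain ⟨m, hm, ho⟩ := exists_order_of_not_ordGap h g
    exact ⟨⟨m, hm⟩, by rw [Subgroup.orderOf_mk]; exact ho⟩

theorem simple7 : IsSimpleGroup (Cfsg.POmega R ⇑Q7) :=
  Cfsg.Agent.LieClassical.OrthFinite.isSimpleGroup_POmega hQ7 (by simp)

theorem simple8 : IsSimpleGroup P8T :=
  Cfsg.Agent.LieClassical.OrthFinite.isSimpleGroup_POmega hQ8 (by simp)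

theorem missMax (H : Rec) : MissMax P8T := by
  have := finite_P8T
  intro M hM
  by_cases h : OrdGap P8T M
  · exact h.miss
  · rcases H M (sp_of_not_ordGap h) with ⟨⟨e⟩⟩ | ⟨⟨e⟩⟩
    · exact miss_of_equiv e
    · exfalso
      apply hM.1
      apply Subgroup.eq_top_of_card_eq
      exact Nat.card_congr e.toEquiv

theorem section_eq (H : Rec) (L : Subgroup P8T) (K : Subgroup L) [hK : K.Normal]
    (h : Set.range (orderOf : (L ⧸ K) → ℕ) = Set.range (orderOf : P8T → ℕ)) : K = ⊥ := by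
  have := finite_P8T
  have hS : IsSimpleGroup L := by
    rcases H L (sp_of_not_ordGap (not_ordGap_of_range L K h)) with ⟨⟨e⟩⟩ | ⟨⟨e⟩⟩
    · have := simple7
      exact e.isSimpleGroup
    · have := simple8
      exact e.isSimpleGroup
  rcases hS.eq_bot_or_eq_top_of_normal K hK with h1 | h1
  · exact h1
  · exfalso
    obtain ⟨g, hg⟩ := exists_good
    have h2 : orderOf g ∈ Set.range (orderOf : (L ⧸ K) → ℕ) := by rw [h]; exact ⟨g, rfl⟩
    obtain ⟨x, hx⟩ := h2
    obtain ⟨y, rfl⟩ := QuotientGroup.mk_surjective x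
    have h3 : (y : L ⧸ K) = 1 := (QuotientGroup.eq_one_iff y).2 (by rw [h1]; trivial)
    simp only [h3, orderOf_one] at hx
    have h4 : g = 1 := orderOf_eq_one_iff.1 hx.symm
    apply hg.three
    rw [h4, one_pow]

section Field

variable {F : Type} [Field F] [Fintype F] (hF : Fintype.card F = 3)

include hF

theorem equiv8 : Nonempty (Cfsg.POmega F (Cfsg.quadFormPlus 4 F) ≃* P8T) := by
  have h := Cfsg.Agent.UGT.U2.Rec.Congr.nonempty_POmega (F := F) (F' := R) (ι := Fin 4 ⊕ Fin 4)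
    (ZMod.ringEquivOfPrime F Nat.prime_three hF).symm (Q := Cfsg.quadFormPlus 4 F) (Q' := Cfsg.quadFormPlus 4 R)
    (fun v => by simp [Cfsg.quadFormPlus, map_sum, map_mul])
  rwa [← coe_plusForm 4 R] at h

/-- **Every maximal subgroup of `PΩ₈⁺(3)` misses an automorphism class.** -/
theorem o8p3_miss (H : Rec) : MissMax (Cfsg.POmega F (Cfsg.quadFormPlus 4 F)) := by
  obtain ⟨e⟩ := equiv8 hF
  exact (missMax H).congr e.symm

/-- **Sections of `PΩ₈⁺(3)` with all element orders are subgroups.** -/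
theorem o8p3_section (H : Rec) (L : Subgroup (Cfsg.POmega F (Cfsg.quadFormPlus 4 F))) (K : Subgroup L) [K.Normal]
    (h : Set.range (orderOf : (L ⧸ K) → ℕ) =
      Set.range (orderOf : Cfsg.POmega F (Cfsg.quadFormPlus 4 F) → ℕ)) : K = ⊥ := by
  obtain ⟨e⟩ := equiv8 hF
  let f : L ≃* L.map e.toMonoidHom := L.equivMapOfInjective e.toMonoidHom e.injective
  have hn : (K.map f.toMonoidHom).Normal := Subgroup.Normal.map inferInstance _ f.surjective
  have hq : (L ⧸ K) ≃* (L.map e.toMonoidHom ⧸ K.map f.toMonoidHom) := QuotientGroup.congr K _ f rfl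
  have hr : ∀ {A B : Type} [Group A] [Group B], (A ≃* B) →
      Set.range (orderOf : A → ℕ) = Set.range (orderOf : B → ℕ) := by
    intro A B _ _ ε
    ext n
    constructor
    · rintro ⟨x, rfl⟩
      exact ⟨ε x, MulEquiv.orderOf_eq ε x⟩
    · rintro ⟨x, rfl⟩
      exact ⟨ε.symm x, MulEquiv.orderOf_eq ε.symm x⟩
  have h1 := section_eq H (L.map e.toMonoidHom) (K.map f.toMonoidHom) (by
    rw [← hr hq, h, hr e])
  rwa [Subgroup.map_eq_bot_iff_of_injective _ f.injective] at h1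

end Field

end Cfsg.Agent.H198.Sax
end

private theorem dce_844f5d4aa910 : _root_.True := by
  try have : _root_.True := by simp only [_root_.Cfsg.Agent.H198.Sax.mx.eq_1]
  try have : _root_.True := by simp only [_root_.Cfsg.Agent.H198.Sax.idx.eq_1]
  try have : _root_.True := by simp only [_root_.Cfsg.Agent.H198.Sax.Gram.eq_1]
  try have : _root_.True := by simp only [_root_.Cfsg.Agent.H198.Sax.Nm.eq_1]
  try have : _root_.True := by simp only [_root_.Cfsg.quadFormPlus.eq_1]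
  try have : _root_.True := by simp only [_root_.Cfsg.Agent.H899.O7.Spec.Q7.eq_1]
  try have : _root_.True := by simp only [_root_.Cfsg.Agent.H198.Sax.idx.eq_2]
  exact _root_.True.intro
end

-- part: H813/SaxSp
section
set_option linter.all false
open scoped Cfsg.Agent.FastGrp

-- part: H813/SaxAbs
section
/-!
# Abstract part of the row `PSp_4(2^f)` (helper813, for S2498, S2528)
-/

set_option autoImplicit false

namespace Cfsg.Agent.H813.SaxSp

open Subgroup Cfsg.Agent.H938.Sax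

/-- An element order of a group is an element order of a subgroup without order gap. -/
theorem exists_of_not_ordGap {T : Type*} [Group T] {M : Subgroup T} (h : ¬ OrdGap T M) {z : T} {n : ℕ}
    (hz : orderOf z = n) : ∃ w ∈ M, orderOf w = n := by
  obtain ⟨w, hw, ho⟩ := exists_order_of_not_ordGap h z
  exact ⟨w, hw, ho.trans hz⟩

/-- **The missing class.** `g` has order `r ^ a` and commutes with no involution, there is an element of order `2 r ^ a`
and the order of `M` is not divisible by `r ^ (a + 1)`. -/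
theorem not_mem_of {T : Type*} [Group T] [Finite T] {M : Subgroup T} (hOG : ¬ OrdGap T M) {r a : ℕ} (hr : r.Prime)
    (hr2 : r ≠ 2) {g z : T} (hg : orderOf g = r ^ a) (hgc : ∀ y : T, y ^ 2 = 1 → y * g = g * y → y = 1)
    (hz : orderOf z = 2 * r ^ a) (hM : ¬ r ^ (a + 1) ∣ Nat.card M) : g ∉ M := by
  intro hgM
  have hrf : Fact r.Prime := ⟨hr⟩
  obtain ⟨w, hwM, hw⟩ := exists_of_not_ordGap hOG hz
  have hodd : Odd (r ^ a) := (hr.odd_of_ne_two hr2).pow
  have hra : 0 < r ^ a := Nat.pow_pos hr.pos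
  -- `w ^ 2` has order `r ^ a`
  have hy : orderOf (w ^ 2) = r ^ a := by
    rw [orderOf_pow_of_dvd two_ne_zero ⟨_, hw⟩, hw, Nat.mul_div_cancel_left _ two_pos]
  have hi : orderOf (w ^ (r ^ a)) = 2 := by
    rw [orderOf_pow_of_dvd hra.ne' ⟨2, by rw [hw, mul_comm]⟩, hw, Nat.mul_div_cancel _ hra]
  -- two Sylow `r`-subgroups
  have hcard : ∀ x : M, orderOf x = r ^ a → ∃ P : Sylow r M, (P : Subgroup M) = zpowers x := by
    intro x hx
    have hpg : IsPGroup r (zpowers x) := IsPGroup.of_card (n := a) (by rw [Nat.card_zpowers, hx])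
    obtain ⟨P, hP⟩ := hpg.exists_le_sylow
    obtain ⟨k, hk⟩ := (P.2).exists_card_eq
    refine ⟨P, ?_⟩
    symm
    apply Subgroup.eq_of_le_of_card_ge hP
    rw [Nat.card_zpowers, hx]
    have hk' : Nat.card (P : Subgroup M) = r ^ k := hk
    rw [hk']
    apply Nat.pow_le_pow_right hr.pos
    by_contra hc
    push Not at hc
    apply hM
    have h1 : r ^ k ∣ Nat.card M := hk' ▸ Subgroup.card_subgroup_dvd_card (P : Subgroup M)
    exact (pow_dvd_pow r hc).trans h1
  obtain ⟨P, hP⟩ := hcard ⟨g, hgM⟩ (by rw [Subgroup.orderOf_mk, hg])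
  obtain ⟨Q, hQ⟩ := hcard (⟨w, hwM⟩ ^ 2) (by
    rw [← hy, ← Subgroup.orderOf_coe]
    rfl)
  obtain ⟨m, hm⟩ := MulAction.exists_smul_eq M Q P
  -- the conjugate involution commutes with `g`
  have h1 : (⟨g, hgM⟩ : M) ∈ (m • Q : Sylow r M) := by
    rw [hm]
    show (⟨g, hgM⟩ : M) ∈ (P : Subgroup M)
    rw [hP]
    exact mem_zpowers _
  have h2 : m⁻¹ * (⟨g, hgM⟩ : M) * m ∈ (Q : Subgroup M) := by
    have h3 : (⟨g, hgM⟩ : M) ∈ (Q : Subgroup M).map (MulAut.conj m).toMonoidHom := h1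
    obtain ⟨u, hu, hug⟩ := h3
    have h4 : m * u * m⁻¹ = ⟨g, hgM⟩ := hug
    rw [← h4]
    have : m⁻¹ * (m * u * m⁻¹) * m = u := by group
    rw [this]
    exact hu
  rw [hQ] at h2
  obtain ⟨k, hk⟩ := h2
  have hk' : ((w ^ 2) ^ k : T) = (m : T)⁻¹ * g * m := congrArg Subtype.val hk
  have hcomm : Commute (w ^ (r ^ a)) ((m : T)⁻¹ * g * m) := by
    rw [← hk']
    exact ((Commute.refl w).pow_pow _ _).zpow_right k
  have h5 := hgc ((m : T) * w ^ (r ^ a) * (m : T)⁻¹) (by
    rw [conj_pow, ← hi, pow_orderOf_eq_one, mul_one, mul_inv_cancel]) (by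
    have h6 : g = (m : T) * ((m : T)⁻¹ * g * m) * (m : T)⁻¹ := by group
    calc (m : T) * w ^ (r ^ a) * (m : T)⁻¹ * g = (m : T) * (w ^ (r ^ a) * ((m : T)⁻¹ * g * m)) * (m : T)⁻¹ := by group
      _ = (m : T) * (((m : T)⁻¹ * g * m) * w ^ (r ^ a)) * (m : T)⁻¹ := by rw [hcomm.eq]
      _ = g * ((m : T) * w ^ (r ^ a) * (m : T)⁻¹) := by group)
  have h7 : w ^ (r ^ a) = 1 := by
    have h8 : (m : T) * w ^ (r ^ a) = m := by rwa [mul_inv_eq_one] at h5
    exact mul_eq_left.1 h8
  rw [h7, orderOf_one] at hi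
  omega

theorem miss_of {T : Type*} [Group T] [Finite T] {M : Subgroup T} {r a : ℕ} (hr : r.Prime)
    (hr2 : r ≠ 2) {g z : T} (hg : orderOf g = r ^ a) (hgc : ∀ y : T, y ^ 2 = 1 → y * g = g * y → y = 1)
    (hz : orderOf z = 2 * r ^ a) (hM : ¬ OrdGap T M → ¬ r ^ (a + 1) ∣ Nat.card M) : Miss T M := by
  by_cases hOG : OrdGap T M
  · exact hOG.miss
  refine ⟨g, fun φ => ?_⟩
  refine not_mem_of hOG hr hr2 (g := φ g) (z := z) (by rw [orderOf_mulEquiv, hg]) (fun y hy hyg => ?_) hz (hM hOG)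
  apply φ.symm.injective
  rw [map_one]
  apply hgc
  · rw [← map_pow, hy, map_one]
  · apply φ.injective
    rw [map_mul, map_mul, φ.apply_symm_apply, hyg]

/-- **Sections.** `q = 2 ^ f`; `s` is a primitive prime divisor of `2 ^ (4 f) - 1`. -/
theorem section_of {T : Type*} [Group T] [Finite T] {f s : ℕ} (hs : s.Prime)
    (hs2 : ∀ j, s ∣ 2 ^ j - 1 ↔ 4 * f ∣ j) (hf : 1 < f)
    (hodd : ∀ v k : ℕ, v.Prime → v ≠ 2 → v ^ k ∣ (2 ^ f) ^ 4 - 1 → ∃ x : T, orderOf x = v ^ k)
    (hsc : ∀ x : T, orderOf x = s → ∀ y : T, y ^ 2 = 1 → y * x = x * y → y = 1)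
    (hmax : ∀ M : Subgroup T, IsCoatom M → ¬ OrdGap T M → Nat.card M ∣ 2 * (2 ^ f) ^ 2 * ((2 ^ f) ^ 4 - 1))
    (L : Subgroup T) (hL : L ≠ ⊤) (K : Subgroup ↥L) [K.Normal]
    (h : Set.range (orderOf : (↥L ⧸ K) → ℕ) = Set.range (orderOf : T → ℕ)) : K = ⊥ := by
  have hsf : Fact s.Prime := ⟨hs⟩
  have hLO := not_ordGap_of_range L K h
  obtain ⟨M, hM, hLM⟩ := (eq_top_or_exists_le_coatom L).resolve_left hL
  have hMc := hmax M hM (fun h' => hLO (h'.mono hLM))
  have hLc : Nat.card L ∣ 2 * (2 ^ f) ^ 2 * ((2 ^ f) ^ 4 - 1) := (Subgroup.card_dvd_of_le hLM).trans hMc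
  have hcK := Subgroup.card_eq_card_quotient_mul_card_subgroup K
  have hq : 1 < (2 ^ f) ^ 4 := Nat.one_lt_pow (by norm_num) (Nat.one_lt_pow (by omega) (by norm_num))
  -- no odd primes
  have hK2 : ∀ v : ℕ, v.Prime → v ∣ Nat.card K → v = 2 := by
    intro v hv hvK
    by_contra hv2
    have hvc : Nat.Coprime v 2 := (Nat.coprime_primes hv Nat.prime_two).2 hv2
    -- the full power
    obtain ⟨k, hk1, hk2⟩ : ∃ k, v ^ k ∣ (2 ^ f) ^ 4 - 1 ∧ ¬ v ^ (k + 1) ∣ (2 ^ f) ^ 4 - 1 := by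
      refine ⟨((2 ^ f) ^ 4 - 1).factorization v, Nat.ordProj_dvd _ _, ?_⟩
      exact Nat.pow_succ_factorization_not_dvd (by omega) hv
    obtain ⟨x, hx⟩ := hodd v k hv hv2 hk1
    have h1 : orderOf x ∈ Set.range (orderOf : (↥L ⧸ K) → ℕ) := by rw [h]; exact ⟨x, rfl⟩
    obtain ⟨y, hy⟩ := h1
    have h2 : v ^ k ∣ Nat.card (L ⧸ K) := by
      rw [← hx, ← hy]
      exact orderOf_dvd_natCard y
    have h3 : v ^ (k + 1) ∣ Nat.card L := by
      rw [hcK, pow_succ]
      exact Nat.mul_dvd_mul h2 hvK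
    have h4 := h3.trans hLc
    rw [show 2 * (2 ^ f) ^ 2 * ((2 ^ f) ^ 4 - 1) = 2 ^ (2 * f + 1) * ((2 ^ f) ^ 4 - 1) by
      rw [pow_succ 2 (2 * f), ← pow_mul, mul_comm f 2]; ring] at h4
    exact hk2 ((Nat.Coprime.pow _ _ hvc).dvd_of_dvd_mul_left h4)
  -- `K` is a 2-group
  obtain ⟨j, hj⟩ : ∃ j, Nat.card K = 2 ^ j := by
    refine ⟨(Nat.card K).primeFactorsList.length, ?_⟩
    exact Nat.eq_prime_pow_of_unique_prime_dvd Nat.card_pos.ne' fun {d} hd hdv => hK2 d hd hdv
  have hjle : j ≤ 2 * f + 1 := by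
    have h1 : 2 ^ j ∣ 2 ^ (2 * f + 1) * ((2 ^ f) ^ 4 - 1) := by
      rw [← hj]
      refine (Subgroup.card_subgroup_dvd_card K).trans (hLc.trans ?_)
      rw [pow_succ 2 (2 * f), ← pow_mul, mul_comm f 2]
      exact dvd_of_eq (by ring)
    have h2 : Nat.Coprime (2 ^ j) ((2 ^ f) ^ 4 - 1) := by
      apply Nat.Coprime.pow_left
      rw [Nat.coprime_two_left, ← Nat.not_even_iff_odd]
      intro he
      have h3 : Even ((2 ^ f) ^ 4) := by
        apply Nat.even_pow.2
        exact ⟨Nat.even_pow.2 ⟨even_two, by omega⟩, by norm_num⟩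
      rw [Nat.even_sub hq.le] at he
      exact absurd (he.1 h3) (by decide)
    exact (Nat.pow_dvd_pow_iff_le_right (by norm_num)).1 (h2.dvd_of_dvd_mul_right h1)
  -- an element of order `s`
  have hsd : s ∣ (2 ^ f) ^ 4 - 1 := by
    rw [← pow_mul, hs2]
    exact ⟨1, by ring⟩
  have hs2' : s ≠ 2 := by
    rintro rfl
    have := (hs2 1).1
    have h1 : (2 : ℕ) ∣ 2 ^ (4 * f) - 1 := (hs2 _).2 dvd_rfl
    have h2 : 2 ∣ 2 ^ (4 * f) := dvd_pow_self 2 (by omega)
    have h3 : 1 ≤ 2 ^ (4 * f) := Nat.one_le_two_pow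
    omega
  obtain ⟨x, hx⟩ := hodd s 1 hs hs2' (by rwa [pow_one])
  rw [pow_one] at hx
  obtain ⟨w, hwL, hw⟩ := exists_of_not_ordGap hLO hx
  -- its action on `K`
  let W : Subgroup L := zpowers ⟨w, hwL⟩
  have hWc : Nat.card W = s ^ 1 := by rw [Nat.card_zpowers, Subgroup.orderOf_mk, hw, pow_one]
  have hWp : IsPGroup s W := IsPGroup.of_card hWc
  let act : MulAction W K := MulAction.compHom K ((MulAut.conjNormal : L →* MulAut K).comp W.subtype)
  have hfix : Nat.card (MulAction.fixedPoints W K) = 1 := by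
    rw [Nat.card_eq_one_iff_unique]
    refine ⟨⟨?_⟩, ⟨⟨1, fun g => ?_⟩⟩⟩
    · rintro ⟨y, hy⟩ ⟨y', hy'⟩
      have key : ∀ y : K, y ∈ MulAction.fixedPoints W K → y = 1 := by
        intro y hy
        by_contra hy1
        have hc : (⟨w, hwL⟩ : L) * y * (⟨w, hwL⟩ : L)⁻¹ = y :=
          congrArg Subtype.val (hy ⟨⟨w, hwL⟩, mem_zpowers _⟩)
        have hc2 : Commute (⟨w, hwL⟩ : L) (y : L) := mul_inv_eq_iff_eq_mul.1 hc
        -- an involution
        obtain ⟨i, -, hi⟩ := (Nat.dvd_prime_pow Nat.prime_two).1 (hj ▸ orderOf_dvd_natCard y)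
        have hi0 : i ≠ 0 := by
          rintro rfl
          rw [pow_zero, orderOf_eq_one_iff] at hi
          exact hy1 hi
        obtain ⟨i, rfl⟩ := Nat.exists_eq_succ_of_ne_zero hi0
        have h1 : orderOf (y ^ (2 ^ i)) = 2 := by
          rw [orderOf_pow_of_dvd (by positivity) ⟨2, by rw [hi, pow_succ]⟩, hi, pow_succ,
            Nat.mul_div_cancel_left _ (by positivity)]
        have h2 : ((((y ^ (2 ^ i) : K) : L) : T)) = 1 := by
          refine hsc w hw _ ?_ ?_
          · have := pow_orderOf_eq_one (y ^ (2 ^ i))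
            rw [h1] at this
            exact congrArg (fun u : K => ((u : L) : T)) this
          · have h3 := (hc2.pow_right (2 ^ i)).symm.eq
            exact congrArg Subtype.val h3
        have h3 : y ^ (2 ^ i) = 1 := Subtype.ext (Subtype.ext h2)
        rw [h3, orderOf_one] at h1
        omega
      apply Subtype.ext
      show y = y'
      rw [key y hy, key y' hy']
    · show (MulAut.conjNormal (g : L) : MulAut K) 1 = 1
      exact map_one (MulAut.conjNormal (g : L) : MulAut K)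
  have hmod := hWp.card_modEq_card_fixedPoints K
  rw [hfix, hj] at hmod
  have h1 : s ∣ 2 ^ j - 1 := (Nat.modEq_iff_dvd' Nat.one_le_two_pow).1 hmod.symm
  have h2 := (hs2 j).1 h1
  have h3 : j = 0 := by
    rcases Nat.eq_zero_or_pos j with h0 | h0
    · exact h0
    · have := Nat.le_of_dvd h0 h2
      omega
  rw [h3, pow_zero] at hj
  exact Subgroup.card_eq_one.1 hj

end Cfsg.Agent.H813.SaxSp
end

-- part: H813/SaxSp
section
/-!
# The row `PSp_4(2^f)`, `f ≥ 2`, of S2498 and S2528 (helper813)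
-/

set_option autoImplicit false

namespace Cfsg.Agent.H813.SaxSp

open Cfsg Cfsg.Agent.H938.Sax Cfsg.Agent.H262.El

variable {F : Type*} [Field F] [Fintype F] [CharP F 2]

theorem exists_f (h4 : 4 ≤ Fintype.card F) : ∃ f : ℕ, 2 ≤ f ∧ Fintype.card F = 2 ^ f := by
  obtain ⟨f, -, hf⟩ := FiniteField.card F 2
  refine ⟨f, ?_, hf⟩
  by_contra hc
  have h1 : (f : ℕ) ≤ 1 := by omega
  have h2 : 2 ^ (f : ℕ) ≤ 2 ^ 1 := Nat.pow_le_pow_right (by norm_num) h1
  omega

/-- `Sp_4(q)` -/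
theorem missMax_sp (h4 : 4 ≤ Fintype.card F) : MissMax (Matrix.symplecticGroup (Fin 2) F) := by
  obtain ⟨f, hf, hF⟩ := exists_f h4
  intro M hM
  obtain ⟨r, n, g, z, hr, hr2, hg, hgc, hz, hnd⟩ := exists_data hf hF
  exact miss_of hr hr2 hg hgc hz fun hOG h => hnd (h.trans (max_card hf hF M hM hOG))

/-- **Every maximal subgroup of `PSp_4(2^f)`, `f ≥ 2`, misses an automorphism class.** -/
theorem sp4e_miss (h4 : 4 ≤ Fintype.card F) : MissMax (PSp 2 F) :=
  (missMax_sp h4).congr (Cfsg.Agent.GpSp.Row.toPSp F 2)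

theorem section_sp (h4 : 4 ≤ Fintype.card F) (L : Subgroup (Matrix.symplecticGroup (Fin 2) F)) (hL : L ≠ ⊤)
    (K : Subgroup ↥L) [K.Normal]
    (h : Set.range (orderOf : (↥L ⧸ K) → ℕ) = Set.range (orderOf : Matrix.symplecticGroup (Fin 2) F → ℕ)) : K = ⊥ := by
  obtain ⟨f, hf, hF⟩ := exists_f h4
  obtain ⟨s, hs⟩ := Cfsg.Agent.H163.PG.Ppd.exists (p := 2) (n := f * 4) le_rfl (by omega) (by omega)
  have hod : Od (Fintype.card F) 4 s := by
    rw [hF]
    exact Od.of_ppd Nat.prime_two (by omega) (by norm_num) hs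
  refine section_of (f := f) (s := s) hs.prime (fun j => ?_) (by omega) (fun v k hv hv2 hd => ?_)
    (fun x hx y hy hc => cent_irr hod hx hy hc) (fun M hM hOG => max_card hf hF M hM hOG) L hL K h
  · rw [mul_comm 4 f]
    exact hs.dvd_iff (by norm_num) j
  · exact exists_odd hv hv2 (by rw [hF]; exact hd)

theorem range_congr {T S : Type*} [Group T] [Group S] (e : T ≃* S) :
    Set.range (orderOf : T → ℕ) = Set.range (orderOf : S → ℕ) := by
  ext n
  constructor
  · rintro ⟨x, rfl⟩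
    exact ⟨e x, orderOf_mulEquiv e x⟩
  · rintro ⟨x, rfl⟩
    exact ⟨e.symm x, orderOf_mulEquiv e.symm x⟩

/-- Transport of the statement on sections. -/
theorem section_congr {T S : Type*} [Group T] [Group S] (e : T ≃* S)
    (hT : ∀ (L : Subgroup T) (K : Subgroup ↥L) [K.Normal],
      Set.range (orderOf : (↥L ⧸ K) → ℕ) = Set.range (orderOf : T → ℕ) → K = ⊥)
    (L : Subgroup S) (K : Subgroup ↥L) [hK : K.Normal]
    (h : Set.range (orderOf : (↥L ⧸ K) → ℕ) = Set.range (orderOf : S → ℕ)) : K = ⊥ := by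
  let L' : Subgroup T := L.comap e.toMonoidHom
  let eL : L' ≃* L :=
    { toFun := fun x => ⟨e x, x.2⟩
      invFun := fun y => ⟨e.symm y, by
        show e (e.symm (y : S)) ∈ L
        rw [e.apply_symm_apply]; exact y.2⟩
      left_inv := fun x => Subtype.ext (e.symm_apply_apply _)
      right_inv := fun y => Subtype.ext (e.apply_symm_apply _)
      map_mul' := fun x y => Subtype.ext (map_mul e _ _) }
  let K' : Subgroup L' := K.comap eL.toMonoidHom
  have hK' : K'.Normal := hK.comap _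
  have e1 : L' ⧸ K' ≃* L ⧸ K := QuotientGroup.congr K' K eL (Subgroup.map_comap_eq_self_of_surjective eL.surjective K)
  have h1 : K' = ⊥ := hT L' K' (by rw [range_congr e1, h, range_congr e])
  have h2 : K'.map eL.toMonoidHom = K := Subgroup.map_comap_eq_self_of_surjective eL.surjective K
  rw [← h2, h1, Subgroup.map_bot]

theorem section_top {G : Type*} [Group G] [Finite G] [IsSimpleGroup G] (L : Subgroup G) (hL : L = ⊤) (K : Subgroup ↥L)
    [hK : K.Normal] (h : Set.range (orderOf : (↥L ⧸ K) → ℕ) = Set.range (orderOf : G → ℕ)) : K = ⊥ := by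
  subst hL
  have h1 : (K.map (Subgroup.topEquiv (G := G)).toMonoidHom).Normal :=
    hK.map _ (Subgroup.topEquiv (G := G)).surjective
  rcases h1.eq_bot_or_eq_top with h2 | h2
  · rwa [Subgroup.map_eq_bot_iff_of_injective _ (Subgroup.topEquiv (G := G)).injective] at h2
  · exfalso
    have h3 : K = ⊤ := by
      rw [eq_top_iff]
      intro x _
      have : (Subgroup.topEquiv (G := G)) x ∈ K.map (Subgroup.topEquiv (G := G)).toMonoidHom := by
        rw [h2]; trivial
      obtain ⟨y, hy, hyx⟩ := this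
      have : y = x := (Subgroup.topEquiv (G := G)).injective hyx
      rwa [← this]
    subst h3
    obtain ⟨g, hg⟩ := exists_ne (1 : G)
    have h4 : orderOf g ∈ Set.range (orderOf : (↥(⊤ : Subgroup G) ⧸ (⊤ : Subgroup ↥(⊤ : Subgroup G))) → ℕ) := by
      rw [h]; exact ⟨g, rfl⟩
    obtain ⟨x, hx⟩ := h4
    have h5 : x = 1 := by
      obtain ⟨y, rfl⟩ := QuotientGroup.mk_surjective x
      exact (QuotientGroup.eq_one_iff y).2 (Subgroup.mem_top y)
    rw [h5, orderOf_one] at hx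
    exact hg (orderOf_eq_one_iff.1 hx.symm)

/-- **Sections of `PSp_4(2^f)`, `f ≥ 2`, with the same element orders.** -/
theorem sp4e_section (h4 : 4 ≤ Fintype.card F) (L : Subgroup (PSp 2 F)) (K : Subgroup ↥L) [K.Normal]
    (h : Set.range (orderOf : (↥L ⧸ K) → ℕ) = Set.range (orderOf : PSp 2 F → ℕ)) : K = ⊥ := by
  have hsimp : IsSimpleGroup (PSp 2 F) := Cfsg.Agent.S0270.result 2 le_rfl (by omega)
  have e := Cfsg.Agent.GpSp.Row.toPSp F 2
  have hnt : Nontrivial (Matrix.symplecticGroup (Fin 2) F) := e.toEquiv.nontrivial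
  have hsimp' : IsSimpleGroup (Matrix.symplecticGroup (Fin 2) F) := by
    exact IsSimpleGroup.isSimpleGroup_of_surjective e.symm.toMonoidHom e.symm.surjective
  refine section_congr e (fun L K _ h => ?_) L K h
  by_cases hL : L = ⊤
  · exact section_top L hL K h
  · exact section_sp h4 L hL K h

end Cfsg.Agent.H813.SaxSp
end
end
end
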