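import Cfsg.Agent.H198.TriSpec
set_option linter.all false

/-!
# The Okubo product in `3 × 3` matrices (helper198)

`E` a field containing `F` (via `i : F →+* E`) and a root `w` of `w² + w + 1`, `θ = w - w²`.

* `Phi i w : V8 F → Matrix (Fin 3) (Fin 3) E`, additive, `i`-semilinear, trace zero, injective (`3 ≠ 0`);
* `Phi_dia : Φ(x ⋄ y) = w Φx Φy - w² Φy Φx - (θ/3) tr(Φx Φy) 1`, `⋄ = dia (tauB F)`; `trace_Phi_mul : tr(Φx Φy) = -b(x, y)`;
* `Phi_sq_of_dia : x ⋄ x = 0 → (Φ x)² = 0`; `Phi_rt : v ⋄ v = 0 → Φ(rtF v z) = (1 + Φv) Φz (1 - Φv)`.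
-/

set_option autoImplicit false

namespace Cfsg.Agent.H198.TriPhi

open Module QuadraticMap Cfsg.Agent.LieClassical.OrthCore Cfsg.Agent.LieClassical.OrthTrans
  Cfsg.Agent.ClassicalGeometry.OrthSemi Cfsg.Agent.H198.Classes
  Cfsg.Agent.LieClassical.QuadForms Cfsg.Agent.H198.ClassesPlus
  Cfsg.Agent.ClassicalGeometry.TrialityOct Cfsg.Agent.ClassicalGeometry.Triality
  Cfsg.Agent.ClassicalGeometry.TrialitySpaces Cfsg.Agent.H198.TriBase Cfsg.Agent.H198.TriAut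
  Cfsg.Agent.H198.TriDia Cfsg.Agent.H198.TriSpec Matrix

universe u v

variable {F : Type u} [Field F] {E : Type v} [Field E]

/-- The numerator of `Phi`. -/
def Ph (i : F →+* E) (w : E) (x : V8 F) : Matrix (Fin 3) (Fin 3) E :=
  !![i (x (.inl 0)) + i (x (.inr 0)),
      i (x (.inr 1)) + w ^ 2 * i (x (.inr 2)) + w * i (x (.inr 3)),
      i (x (.inl 1)) + w ^ 2 * i (x (.inl 2)) + w * i (x (.inl 3));
    i (x (.inl 1)) + w * i (x (.inl 2)) + w ^ 2 * i (x (.inl 3)),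
      w * i (x (.inl 0)) + w ^ 2 * i (x (.inr 0)),
      i (x (.inr 1)) + i (x (.inr 2)) + i (x (.inr 3));
    i (x (.inr 1)) + w * i (x (.inr 2)) + w ^ 2 * i (x (.inr 3)),
      i (x (.inl 1)) + i (x (.inl 2)) + i (x (.inl 3)),
      w ^ 2 * i (x (.inl 0)) + w * i (x (.inr 0))]

/-- The map to trace zero matrices. -/
def Phi (i : F →+* E) (w : E) (x : V8 F) : Matrix (Fin 3) (Fin 3) E := (w - w ^ 2)⁻¹ • Ph i w x

theorem theta_sq {w : E} (hw : w ^ 2 + w + 1 = 0) : (w - w ^ 2) ^ 2 = -3 := by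
  linear_combination (w ^ 2 - 3 * w + 3) * hw

theorem theta_ne {w : E} (hw : w ^ 2 + w + 1 = 0) (h3 : (3 : E) ≠ 0) : w - w ^ 2 ≠ 0 := by
  intro h
  have := theta_sq hw
  rw [h] at this
  apply h3
  linear_combination this

/-! ### Coordinates of the Okubo product -/

section coords

theorem dia_l0 (u w : V8 F) : dia (tauB F) u w (.inl 0) = u (.inr 0) * w (.inr 0) -
    ((-u (.inl 2)) * (-w (.inr 3)) + (-u (.inl 3)) * (-w (.inr 1)) + (-u (.inl 1)) * (-w (.inr 2))) := rfl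
theorem dia_l1 (u w : V8 F) : dia (tauB F) u w (.inl 1) = u (.inr 0) * (-w (.inl 3)) + w (.inl 0) * (-u (.inl 2)) -
    ((-u (.inr 3)) * (-w (.inr 2)) - (-u (.inr 1)) * (-w (.inr 1))) := rfl
theorem dia_l2 (u w : V8 F) : dia (tauB F) u w (.inl 2) = u (.inr 0) * (-w (.inl 1)) + w (.inl 0) * (-u (.inl 3)) -
    ((-u (.inr 1)) * (-w (.inr 3)) - (-u (.inr 2)) * (-w (.inr 2))) := rfl
theorem dia_l3 (u w : V8 F) : dia (tauB F) u w (.inl 3) = u (.inr 0) * (-w (.inl 2)) + w (.inl 0) * (-u (.inl 1)) -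
    ((-u (.inr 2)) * (-w (.inr 1)) - (-u (.inr 3)) * (-w (.inr 3))) := rfl
theorem dia_r0 (u w : V8 F) : dia (tauB F) u w (.inr 0) = u (.inl 0) * w (.inl 0) -
    ((-u (.inr 2)) * (-w (.inl 3)) + (-u (.inr 3)) * (-w (.inl 1)) + (-u (.inr 1)) * (-w (.inl 2))) := rfl
theorem dia_r1 (u w : V8 F) : dia (tauB F) u w (.inr 1) = w (.inr 0) * (-u (.inr 2)) + u (.inl 0) * (-w (.inr 3)) -
    ((-u (.inl 3)) * (-w (.inl 2)) - (-u (.inl 1)) * (-w (.inl 1))) := rfl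
theorem dia_r2 (u w : V8 F) : dia (tauB F) u w (.inr 2) = w (.inr 0) * (-u (.inr 3)) + u (.inl 0) * (-w (.inr 1)) -
    ((-u (.inl 1)) * (-w (.inl 3)) - (-u (.inl 2)) * (-w (.inl 2))) := rfl
theorem dia_r3 (u w : V8 F) : dia (tauB F) u w (.inr 3) = w (.inr 0) * (-u (.inr 1)) + u (.inl 0) * (-w (.inr 2)) -
    ((-u (.inl 2)) * (-w (.inl 1)) - (-u (.inl 3)) * (-w (.inl 3))) := rfl

end coords

/-- Computes an entry of a `3 × 3` matrix identity. -/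
macro "ent" : tactic => `(tactic| simp only [Ph, Matrix.smul_apply, Matrix.sub_apply, Matrix.add_apply, Matrix.mul_apply,
  Fin.sum_univ_three, smul_eq_mul, Matrix.of_apply, Matrix.cons_val', Matrix.cons_val_zero, Matrix.cons_val_one,
  Matrix.cons_val, Matrix.cons_val_fin_one, Fin.zero_eta, Fin.mk_one, Fin.reduceFinMk, Fin.isValue, Matrix.one_apply_eq,
  Matrix.one_apply_ne, ne_eq, Fin.reduceEq, not_false_eq_true, zero_ne_one, one_ne_zero, mul_zero, mul_one, sub_zero,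
  dia_l0, dia_l1, dia_l2, dia_l3, dia_r0, dia_r1, dia_r2, dia_r3, polar8, map_add, map_sub, map_mul, map_neg])

set_option maxHeartbeats 1000000 in
theorem Ph_dia (i : F →+* E) {w : E} (hw : w ^ 2 + w + 1 = 0) (x y : V8 F) :
    (w - w ^ 2) • Ph i w (dia (tauB F) x y) = w • (Ph i w x * Ph i w y) - w ^ 2 • (Ph i w y * Ph i w x) -
      ((w - w ^ 2) * i (polar (plusForm 4 F) x y)) • (1 : Matrix (Fin 3) (Fin 3) E) := by
  ext a b
  fin_cases a <;> fin_cases b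
  · ent
    linear_combination (- w * i (x (.inl 1)) * i (y (.inr 2)) + w * i (x (.inl 2)) * i (y (.inr 2)) - w * i (x
      (.inl 2)) * i (y (.inr 3)) - w * i (x (.inl 3)) * i (y (.inr 1)) + w * i (x (.inl 3)) * i (y (.inr 3)) -
      w * i (x (.inr 1)) * i (y (.inl 2)) + w * i (x (.inr 2)) * i (y (.inl 2)) - w * i (x (.inr 2)) * i (y
      (.inl 3)) - w * i (x (.inr 3)) * i (y (.inl 1)) + w * i (x (.inr 3)) * i (y (.inl 3)) + w ^ 2 * i (x
      (.inl 1)) * i (y (.inr 2)) - 2 * w ^ 2 * i (x (.inl 2)) * i (y (.inr 2)) + 2 * w ^ 2 * i (x (.inl 2)) *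
      i (y (.inr 3)) + w ^ 2 * i (x (.inl 3)) * i (y (.inr 1)) - 2 * w ^ 2 * i (x (.inl 3)) * i (y (.inr 3)) +
      w ^ 2 * i (x (.inr 1)) * i (y (.inl 2)) - 2 * w ^ 2 * i (x (.inr 2)) * i (y (.inl 2)) + 2 * w ^ 2 * i (x
      (.inr 2)) * i (y (.inl 3)) + w ^ 2 * i (x (.inr 3)) * i (y (.inl 1)) - 2 * w ^ 2 * i (x (.inr 3)) * i (y
      (.inl 3)) + w ^ 3 * i (x (.inl 2)) * i (y (.inr 2)) - w ^ 3 * i (x (.inl 2)) * i (y (.inr 3)) - w ^ 3 *
      i (x (.inl 3)) * i (y (.inr 2)) + w ^ 3 * i (x (.inl 3)) * i (y (.inr 3)) + w ^ 3 * i (x (.inr 2)) * i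
      (y (.inl 2)) - w ^ 3 * i (x (.inr 2)) * i (y (.inl 3)) - w ^ 3 * i (x (.inr 3)) * i (y (.inl 2)) + w ^ 3
      * i (x (.inr 3)) * i (y (.inl 3)) + w ^ 4 * i (x (.inl 3)) * i (y (.inr 2)) + w ^ 4 * i (x (.inr 3)) * i
      (y (.inl 2))) * hw
  · ent
    linear_combination (- w * i (x (.inl 0)) * i (y (.inr 1)) - w * i (x (.inl 0)) * i (y (.inr 3)) - w * i (x
      (.inl 1)) * i (y (.inl 2)) - w * i (x (.inl 1)) * i (y (.inl 3)) - w * i (x (.inl 3)) * i (y (.inl 2)) -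
      w * i (x (.inr 0)) * i (y (.inr 1)) - w * i (x (.inr 2)) * i (y (.inr 0)) + w ^ 2 * i (x (.inl 0)) * i
      (y (.inr 1)) - w ^ 2 * i (x (.inl 0)) * i (y (.inr 2)) + w ^ 2 * i (x (.inl 0)) * i (y (.inr 3)) + w ^ 2
      * i (x (.inl 1)) * i (y (.inl 2)) + w ^ 2 * i (x (.inl 1)) * i (y (.inl 3)) + w ^ 2 * i (x (.inl 3)) * i
      (y (.inl 2)) + w ^ 2 * i (x (.inr 0)) * i (y (.inr 1)) - w ^ 2 * i (x (.inr 0)) * i (y (.inr 3)) + 2 * w
      ^ 2 * i (x (.inr 2)) * i (y (.inr 0)) + w ^ 3 * i (x (.inl 0)) * i (y (.inr 2)) - w ^ 3 * i (x (.inr 0))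
      * i (y (.inr 2)) + w ^ 3 * i (x (.inr 0)) * i (y (.inr 3)) - w ^ 3 * i (x (.inr 2)) * i (y (.inr 0)) + w
      ^ 4 * i (x (.inr 0)) * i (y (.inr 2))) * hw
  · ent
    linear_combination (- w * i (x (.inl 0)) * i (y (.inl 1)) - w * i (x (.inl 2)) * i (y (.inl 0)) - w * i (x
      (.inr 0)) * i (y (.inl 1)) - w * i (x (.inr 0)) * i (y (.inl 3)) - w * i (x (.inr 1)) * i (y (.inr 2)) -
      w * i (x (.inr 1)) * i (y (.inr 3)) - w * i (x (.inr 3)) * i (y (.inr 2)) + w ^ 2 * i (x (.inl 0)) * i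
      (y (.inl 1)) - w ^ 2 * i (x (.inl 0)) * i (y (.inl 3)) + 2 * w ^ 2 * i (x (.inl 2)) * i (y (.inl 0)) + w
      ^ 2 * i (x (.inr 0)) * i (y (.inl 1)) - w ^ 2 * i (x (.inr 0)) * i (y (.inl 2)) + w ^ 2 * i (x (.inr 0))
      * i (y (.inl 3)) + w ^ 2 * i (x (.inr 1)) * i (y (.inr 2)) + w ^ 2 * i (x (.inr 1)) * i (y (.inr 3)) + w
      ^ 2 * i (x (.inr 3)) * i (y (.inr 2)) - w ^ 3 * i (x (.inl 0)) * i (y (.inl 2)) + w ^ 3 * i (x (.inl 0))
      * i (y (.inl 3)) - w ^ 3 * i (x (.inl 2)) * i (y (.inl 0)) + w ^ 3 * i (x (.inr 0)) * i (y (.inl 2)) + w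
      ^ 4 * i (x (.inl 0)) * i (y (.inl 2))) * hw
  · ent
    linear_combination (- w * i (x (.inl 1)) * i (y (.inl 0)) - w * i (x (.inl 1)) * i (y (.inr 0)) - w * i (x
      (.inl 2)) * i (y (.inl 0)) - w * i (x (.inr 0)) * i (y (.inl 3)) - w * i (x (.inr 2)) * i (y (.inr 1)) -
      w * i (x (.inr 3)) * i (y (.inr 1)) - w * i (x (.inr 3)) * i (y (.inr 2)) + w ^ 2 * i (x (.inl 1)) * i
      (y (.inl 0)) + w ^ 2 * i (x (.inl 1)) * i (y (.inr 0)) + w ^ 2 * i (x (.inl 2)) * i (y (.inl 0)) - w ^ 2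
      * i (x (.inl 2)) * i (y (.inr 0)) - w ^ 2 * i (x (.inl 3)) * i (y (.inl 0)) + 2 * w ^ 2 * i (x (.inr 0))
      * i (y (.inl 3)) + w ^ 2 * i (x (.inr 2)) * i (y (.inr 1)) + w ^ 2 * i (x (.inr 3)) * i (y (.inr 1)) + w
      ^ 2 * i (x (.inr 3)) * i (y (.inr 2)) + w ^ 3 * i (x (.inl 2)) * i (y (.inr 0)) + w ^ 3 * i (x (.inl 3))
      * i (y (.inl 0)) - w ^ 3 * i (x (.inl 3)) * i (y (.inr 0)) - w ^ 3 * i (x (.inr 0)) * i (y (.inl 3)) + w
      ^ 4 * i (x (.inl 3)) * i (y (.inr 0))) * hw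
  · ent
    linear_combination (w * i (x (.inl 0)) * i (y (.inr 0)) + w * i (x (.inl 2)) * i (y (.inr 2)) + w * i (x
      (.inl 3)) * i (y (.inr 3)) + w * i (x (.inr 0)) * i (y (.inl 0)) - w * i (x (.inr 1)) * i (y (.inl 2)) -
      w * i (x (.inr 1)) * i (y (.inl 3)) - w * i (x (.inr 2)) * i (y (.inl 1)) - w * i (x (.inr 2)) * i (y
      (.inl 3)) - w * i (x (.inr 3)) * i (y (.inl 1)) - w * i (x (.inr 3)) * i (y (.inl 2)) - 2 * w ^ 2 * i (x
      (.inl 0)) * i (y (.inr 0)) - w ^ 2 * i (x (.inl 2)) * i (y (.inr 2)) + w ^ 2 * i (x (.inl 3)) * i (y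
      (.inr 2)) - w ^ 2 * i (x (.inl 3)) * i (y (.inr 3)) - 2 * w ^ 2 * i (x (.inr 0)) * i (y (.inl 0)) + w ^
      2 * i (x (.inr 0)) * i (y (.inr 0)) + w ^ 2 * i (x (.inr 1)) * i (y (.inl 2)) + w ^ 2 * i (x (.inr 1)) *
      i (y (.inl 3)) + w ^ 2 * i (x (.inr 2)) * i (y (.inl 1)) - w ^ 2 * i (x (.inr 2)) * i (y (.inl 2)) + w ^
      2 * i (x (.inr 2)) * i (y (.inl 3)) + w ^ 2 * i (x (.inr 3)) * i (y (.inl 1)) + w ^ 2 * i (x (.inr 3)) *
      i (y (.inl 2)) - w ^ 2 * i (x (.inr 3)) * i (y (.inl 3)) + w ^ 3 * i (x (.inl 0)) * i (y (.inr 0)) - w ^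
      3 * i (x (.inl 3)) * i (y (.inr 2)) + w ^ 3 * i (x (.inr 0)) * i (y (.inl 0)) - 2 * w ^ 3 * i (x (.inr
      0)) * i (y (.inr 0)) + w ^ 3 * i (x (.inr 2)) * i (y (.inl 2)) - w ^ 3 * i (x (.inr 2)) * i (y (.inl 3))
      + w ^ 3 * i (x (.inr 3)) * i (y (.inl 3)) + w ^ 4 * i (x (.inr 0)) * i (y (.inr 0)) + w ^ 4 * i (x (.inr
      2)) * i (y (.inl 3))) * hw
  · ent
    linear_combination (- w * i (x (.inl 0)) * i (y (.inr 1)) - w * i (x (.inl 0)) * i (y (.inr 2)) - w * i (x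
      (.inl 0)) * i (y (.inr 3)) - w * i (x (.inl 1)) * i (y (.inl 3)) - w * i (x (.inl 2)) * i (y (.inl 1)) +
      w * i (x (.inl 2)) * i (y (.inl 2)) - w * i (x (.inl 3)) * i (y (.inl 2)) + w * i (x (.inl 3)) * i (y
      (.inl 3)) - w * i (x (.inr 1)) * i (y (.inr 0)) - w * i (x (.inr 2)) * i (y (.inr 0)) - w * i (x (.inr
      3)) * i (y (.inr 0)) + w ^ 2 * i (x (.inl 0)) * i (y (.inr 1)) + w ^ 2 * i (x (.inl 0)) * i (y (.inr 2))
      + w ^ 2 * i (x (.inl 0)) * i (y (.inr 3)) + w ^ 2 * i (x (.inl 1)) * i (y (.inl 3)) + w ^ 2 * i (x (.inl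
      2)) * i (y (.inl 1)) - 2 * w ^ 2 * i (x (.inl 2)) * i (y (.inl 2)) + 2 * w ^ 2 * i (x (.inl 3)) * i (y
      (.inl 2)) - 2 * w ^ 2 * i (x (.inl 3)) * i (y (.inl 3)) + w ^ 2 * i (x (.inr 1)) * i (y (.inr 0)) + w ^
      2 * i (x (.inr 2)) * i (y (.inr 0)) + w ^ 2 * i (x (.inr 3)) * i (y (.inr 0)) + w ^ 3 * i (x (.inl 2)) *
      i (y (.inl 2)) - w ^ 3 * i (x (.inl 2)) * i (y (.inl 3)) - w ^ 3 * i (x (.inl 3)) * i (y (.inl 2)) + w ^
      3 * i (x (.inl 3)) * i (y (.inl 3)) + w ^ 4 * i (x (.inl 2)) * i (y (.inl 3))) * hw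
  · ent
    linear_combination (- w * i (x (.inl 0)) * i (y (.inr 3)) - w * i (x (.inl 2)) * i (y (.inl 1)) - w * i (x
      (.inl 3)) * i (y (.inl 1)) - w * i (x (.inl 3)) * i (y (.inl 2)) - w * i (x (.inr 1)) * i (y (.inl 0)) -
      w * i (x (.inr 1)) * i (y (.inr 0)) - w * i (x (.inr 2)) * i (y (.inr 0)) + 2 * w ^ 2 * i (x (.inl 0)) *
      i (y (.inr 3)) + w ^ 2 * i (x (.inl 2)) * i (y (.inl 1)) + w ^ 2 * i (x (.inl 3)) * i (y (.inl 1)) + w ^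
      2 * i (x (.inl 3)) * i (y (.inl 2)) + w ^ 2 * i (x (.inr 1)) * i (y (.inl 0)) + w ^ 2 * i (x (.inr 1)) *
      i (y (.inr 0)) - w ^ 2 * i (x (.inr 2)) * i (y (.inl 0)) + w ^ 2 * i (x (.inr 2)) * i (y (.inr 0)) - w ^
      2 * i (x (.inr 3)) * i (y (.inr 0)) - w ^ 3 * i (x (.inl 0)) * i (y (.inr 3)) + w ^ 3 * i (x (.inr 2)) *
      i (y (.inl 0)) - w ^ 3 * i (x (.inr 3)) * i (y (.inl 0)) + w ^ 3 * i (x (.inr 3)) * i (y (.inr 0)) + w ^
      4 * i (x (.inr 3)) * i (y (.inl 0))) * hw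
  · ent
    linear_combination (- w * i (x (.inl 1)) * i (y (.inl 0)) - w * i (x (.inl 2)) * i (y (.inl 0)) - w * i (x
      (.inl 3)) * i (y (.inl 0)) - w * i (x (.inr 0)) * i (y (.inl 1)) - w * i (x (.inr 0)) * i (y (.inl 2)) -
      w * i (x (.inr 0)) * i (y (.inl 3)) - w * i (x (.inr 1)) * i (y (.inr 3)) - w * i (x (.inr 2)) * i (y
      (.inr 1)) + w * i (x (.inr 2)) * i (y (.inr 2)) - w * i (x (.inr 3)) * i (y (.inr 2)) + w * i (x (.inr
      3)) * i (y (.inr 3)) + w ^ 2 * i (x (.inl 1)) * i (y (.inl 0)) + w ^ 2 * i (x (.inl 2)) * i (y (.inl 0))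
      + w ^ 2 * i (x (.inl 3)) * i (y (.inl 0)) + w ^ 2 * i (x (.inr 0)) * i (y (.inl 1)) + w ^ 2 * i (x (.inr
      0)) * i (y (.inl 2)) + w ^ 2 * i (x (.inr 0)) * i (y (.inl 3)) + w ^ 2 * i (x (.inr 1)) * i (y (.inr 3))
      + w ^ 2 * i (x (.inr 2)) * i (y (.inr 1)) - 2 * w ^ 2 * i (x (.inr 2)) * i (y (.inr 2)) + 2 * w ^ 2 * i
      (x (.inr 3)) * i (y (.inr 2)) - 2 * w ^ 2 * i (x (.inr 3)) * i (y (.inr 3)) + w ^ 3 * i (x (.inr 2)) * i
      (y (.inr 2)) - w ^ 3 * i (x (.inr 2)) * i (y (.inr 3)) - w ^ 3 * i (x (.inr 3)) * i (y (.inr 2)) + w ^ 3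
      * i (x (.inr 3)) * i (y (.inr 3)) + w ^ 4 * i (x (.inr 2)) * i (y (.inr 3))) * hw
  · ent
    linear_combination (w * i (x (.inl 0)) * i (y (.inr 0)) - w * i (x (.inl 1)) * i (y (.inr 2)) - w * i (x
      (.inl 1)) * i (y (.inr 3)) - w * i (x (.inl 2)) * i (y (.inr 1)) - w * i (x (.inl 2)) * i (y (.inr 3)) -
      w * i (x (.inl 3)) * i (y (.inr 1)) - w * i (x (.inl 3)) * i (y (.inr 2)) + w * i (x (.inr 0)) * i (y
      (.inl 0)) + w * i (x (.inr 2)) * i (y (.inl 2)) + w * i (x (.inr 3)) * i (y (.inl 3)) + w ^ 2 * i (x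
      (.inl 0)) * i (y (.inl 0)) - 2 * w ^ 2 * i (x (.inl 0)) * i (y (.inr 0)) + w ^ 2 * i (x (.inl 1)) * i (y
      (.inr 2)) + w ^ 2 * i (x (.inl 1)) * i (y (.inr 3)) + w ^ 2 * i (x (.inl 2)) * i (y (.inr 1)) - w ^ 2 *
      i (x (.inl 2)) * i (y (.inr 2)) + w ^ 2 * i (x (.inl 2)) * i (y (.inr 3)) + w ^ 2 * i (x (.inl 3)) * i
      (y (.inr 1)) + w ^ 2 * i (x (.inl 3)) * i (y (.inr 2)) - w ^ 2 * i (x (.inl 3)) * i (y (.inr 3)) - 2 * w
      ^ 2 * i (x (.inr 0)) * i (y (.inl 0)) - w ^ 2 * i (x (.inr 2)) * i (y (.inl 2)) + w ^ 2 * i (x (.inr 3))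
      * i (y (.inl 2)) - w ^ 2 * i (x (.inr 3)) * i (y (.inl 3)) - 2 * w ^ 3 * i (x (.inl 0)) * i (y (.inl 0))
      + w ^ 3 * i (x (.inl 0)) * i (y (.inr 0)) + w ^ 3 * i (x (.inl 2)) * i (y (.inr 2)) - w ^ 3 * i (x (.inl
      2)) * i (y (.inr 3)) + w ^ 3 * i (x (.inl 3)) * i (y (.inr 3)) + w ^ 3 * i (x (.inr 0)) * i (y (.inl 0))
      - w ^ 3 * i (x (.inr 3)) * i (y (.inl 2)) + w ^ 4 * i (x (.inl 0)) * i (y (.inl 0)) + w ^ 4 * i (x (.inl
      2)) * i (y (.inr 3))) * hw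

set_option maxHeartbeats 1000000 in
theorem trace_Ph_mul (i : F →+* E) {w : E} (hw : w ^ 2 + w + 1 = 0) (x y : V8 F) :
    trace (Ph i w x * Ph i w y) = 3 * i (polar (plusForm 4 F) x y) := by
  rw [trace_fin_three]
  ent
  linear_combination (i (x (.inl 0)) * i (y (.inl 0)) - 2 * i (x (.inl 0)) * i (y (.inr 0)) + i (x (.inl 1)) * i (y (.inr 2)) + i
      (x (.inl 1)) * i (y (.inr 3)) + i (x (.inl 2)) * i (y (.inr 1)) - 2 * i (x (.inl 2)) * i (y (.inr 2)) + i (x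
      (.inl 2)) * i (y (.inr 3)) + i (x (.inl 3)) * i (y (.inr 1)) + i (x (.inl 3)) * i (y (.inr 2)) - 2 * i (x
      (.inl 3)) * i (y (.inr 3)) - 2 * i (x (.inr 0)) * i (y (.inl 0)) + i (x (.inr 0)) * i (y (.inr 0)) + i (x
      (.inr 1)) * i (y (.inl 2)) + i (x (.inr 1)) * i (y (.inl 3)) + i (x (.inr 2)) * i (y (.inl 1)) - 2 * i (x
      (.inr 2)) * i (y (.inl 2)) + i (x (.inr 2)) * i (y (.inl 3)) + i (x (.inr 3)) * i (y (.inl 1)) + i (x (.inr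
      3)) * i (y (.inl 2)) - 2 * i (x (.inr 3)) * i (y (.inl 3)) - w * i (x (.inl 0)) * i (y (.inl 0)) + 2 * w * i
      (x (.inl 0)) * i (y (.inr 0)) + 2 * w * i (x (.inl 2)) * i (y (.inr 2)) - w * i (x (.inl 2)) * i (y (.inr
      3)) - w * i (x (.inl 3)) * i (y (.inr 2)) + 2 * w * i (x (.inl 3)) * i (y (.inr 3)) + 2 * w * i (x (.inr 0))
      * i (y (.inl 0)) - w * i (x (.inr 0)) * i (y (.inr 0)) + 2 * w * i (x (.inr 2)) * i (y (.inl 2)) - w * i (x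
      (.inr 2)) * i (y (.inl 3)) - w * i (x (.inr 3)) * i (y (.inl 2)) + 2 * w * i (x (.inr 3)) * i (y (.inl 3)) +
      w ^ 2 * i (x (.inl 0)) * i (y (.inl 0)) + w ^ 2 * i (x (.inl 2)) * i (y (.inr 3)) + w ^ 2 * i (x (.inl 3)) *
      i (y (.inr 2)) + w ^ 2 * i (x (.inr 0)) * i (y (.inr 0)) + w ^ 2 * i (x (.inr 2)) * i (y (.inl 3)) + w ^ 2 *
      i (x (.inr 3)) * i (y (.inl 2))) * hw

theorem trace_Ph (i : F →+* E) {w : E} (hw : w ^ 2 + w + 1 = 0) (x : V8 F) : trace (Ph i w x) = 0 := by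
  rw [trace_fin_three]
  ent
  linear_combination (i (x (.inl 0)) + i (x (.inr 0))) * hw

theorem Ph_add (i : F →+* E) (w : E) (x y : V8 F) : Ph i w (x + y) = Ph i w x + Ph i w y := by
  ext a b
  fin_cases a <;> fin_cases b <;> · ent; simp only [Pi.add_apply, map_add]; ring

theorem Ph_smul (i : F →+* E) (w : E) (c : F) (x : V8 F) : Ph i w (c • x) = i c • Ph i w x := by
  ext a b
  fin_cases a <;> fin_cases b <;> · ent; simp only [Pi.smul_apply, smul_eq_mul, map_mul]; ring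

theorem Ph_zero (i : F →+* E) (w : E) : Ph i w (0 : V8 F) = 0 := by
  have := Ph_smul i w 0 (0 : V8 F)
  rwa [zero_smul, map_zero, zero_smul] at this

theorem Ph_neg (i : F →+* E) (w : E) (x : V8 F) : Ph i w (-x) = -Ph i w x := by
  have := Ph_smul i w (-1) x
  rwa [neg_one_smul, map_neg, map_one, neg_one_smul] at this

theorem Ph_sub (i : F →+* E) (w : E) (x y : V8 F) : Ph i w (x - y) = Ph i w x - Ph i w y := by
  rw [sub_eq_add_neg, Ph_add, Ph_neg, sub_eq_add_neg]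

theorem Ph_injective (i : F →+* E) {w : E} (hw : w ^ 2 + w + 1 = 0) (h3 : (3 : E) ≠ 0) {x : V8 F} (h : Ph i w x = 0) :
    x = 0 := by
  have hθ := theta_ne hw h3
  have e : ∀ a b, Ph i w x a b = 0 := fun a b => by rw [h]; rfl
  have e00 := e 0 0
  have e01 := e 0 1
  have e02 := e 0 2
  have e10 := e 1 0
  have e11 := e 1 1
  have e12 := e 1 2
  have e20 := e 2 0
  have e21 := e 2 1
  have e22 := e 2 2
  simp only [Ph, Matrix.of_apply, Matrix.cons_val', Matrix.cons_val_zero, Matrix.cons_val_one,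
    Matrix.cons_val, Matrix.cons_val_fin_one] at e00 e01 e02 e10 e11 e12 e20 e21 e22
  have c3 : ∀ t : E, 3 * t = 0 → t = 0 := fun t ht => (mul_eq_zero.1 ht).resolve_left h3
  have hi : ∀ a : F, i a = 0 → a = 0 := fun a ha => (map_eq_zero i).1 ha
  apply ext8 <;> refine hi _ ?_ <;> apply c3
  · linear_combination e00 + w ^ 2 * e11 + w * e22 - (2 * i (x (.inl 0)) * (w - 1) + i (x (.inr 0)) * (w ^ 2 - w + 1)) * hw
  · linear_combination e21 + e10 + e02 - (i (x (.inl 2)) + i (x (.inl 3))) * hw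
  · linear_combination e21 + w ^ 2 * e10 + w * e02 - (i (x (.inl 1)) + 2 * i (x (.inl 2)) * (w - 1) + i (x (.inl 3)) * (w ^ 2 - w + 1)) * hw
  · linear_combination e21 + w * e10 + w ^ 2 * e02 - (i (x (.inl 1)) + 2 * i (x (.inl 3)) * (w - 1) + i (x (.inl 2)) * (w ^ 2 - w + 1)) * hw
  · linear_combination e00 + w * e11 + w ^ 2 * e22 - (2 * i (x (.inr 0)) * (w - 1) + i (x (.inl 0)) * (w ^ 2 - w + 1)) * hw
  · linear_combination e12 + e20 + e01 - (i (x (.inr 2)) + i (x (.inr 3))) * hw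
  · linear_combination e12 + w ^ 2 * e20 + w * e01 - (i (x (.inr 1)) + 2 * i (x (.inr 2)) * (w - 1) + i (x (.inr 3)) * (w ^ 2 - w + 1)) * hw
  · linear_combination e12 + w * e20 + w ^ 2 * e01 - (i (x (.inr 1)) + 2 * i (x (.inr 3)) * (w - 1) + i (x (.inr 2)) * (w ^ 2 - w + 1)) * hw

/-! ### The normalised map -/

theorem Phi_add (i : F →+* E) (w : E) (x y : V8 F) : Phi i w (x + y) = Phi i w x + Phi i w y := by
  rw [Phi, Ph_add, smul_add]; rfl

theorem Phi_sub (i : F →+* E) (w : E) (x y : V8 F) : Phi i w (x - y) = Phi i w x - Phi i w y := by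
  rw [Phi, Ph_sub, smul_sub]; rfl

theorem Phi_neg (i : F →+* E) (w : E) (x : V8 F) : Phi i w (-x) = -Phi i w x := by
  rw [Phi, Ph_neg, smul_neg]; rfl

theorem Phi_zero (i : F →+* E) (w : E) : Phi i w (0 : V8 F) = 0 := by
  rw [Phi, Ph_zero, smul_zero]

theorem Phi_smul (i : F →+* E) (w : E) (c : F) (x : V8 F) : Phi i w (c • x) = i c • Phi i w x := by
  rw [Phi, Ph_smul, smul_comm]; rfl

theorem Phi_injective (i : F →+* E) {w : E} (hw : w ^ 2 + w + 1 = 0) (h3 : (3 : E) ≠ 0) :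
    Function.Injective (Phi i w : V8 F → Matrix (Fin 3) (Fin 3) E) := by
  intro x y h
  have h1 : Phi i w (x - y) = 0 := by rw [Phi_sub, h, sub_self]
  have h2 : Ph i w (x - y) = 0 := (smul_eq_zero.1 h1).resolve_left (inv_ne_zero (theta_ne hw h3))
  exact sub_eq_zero.1 (Ph_injective i hw h3 h2)

theorem trace_Phi (i : F →+* E) {w : E} (hw : w ^ 2 + w + 1 = 0) (x : V8 F) : trace (Phi i w x) = 0 := by
  rw [Phi, trace_smul, trace_Ph i hw, smul_zero]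

theorem trace_Phi_mul (i : F →+* E) {w : E} (hw : w ^ 2 + w + 1 = 0) (h3 : (3 : E) ≠ 0) (x y : V8 F) :
    trace (Phi i w x * Phi i w y) = -i (polar (plusForm 4 F) x y) := by
  have hθ := theta_ne hw h3
  have h2 := theta_sq hw
  rw [Phi, Phi, smul_mul_smul_comm, trace_smul, trace_Ph_mul i hw, smul_eq_mul, ← mul_inv, ← pow_two, h2]
  field_simp

theorem Phi_dia (i : F →+* E) {w : E} (hw : w ^ 2 + w + 1 = 0) (h3 : (3 : E) ≠ 0) (x y : V8 F) :
    Phi i w (dia (tauB F) x y) = w • (Phi i w x * Phi i w y) - w ^ 2 • (Phi i w y * Phi i w x) -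
      ((w - w ^ 2) / 3 * trace (Phi i w x * Phi i w y)) • (1 : Matrix (Fin 3) (Fin 3) E) := by
  have hθ := theta_ne hw h3
  have h2 := theta_sq hw
  have h := Ph_dia i hw x y
  rw [trace_Phi_mul i hw h3]
  set t := w - w ^ 2 with ht
  have e1 : ∀ x, Ph i w x = t • Phi i w x := by
    intro x
    rw [Phi, ← ht, smul_smul, mul_inv_cancel₀ hθ, one_smul]
  rw [e1, e1 x, e1 y, smul_mul_smul_comm, smul_mul_smul_comm, smul_smul, ← pow_two, h2] at h
  have h4 : (-3 : E) ≠ 0 := neg_ne_zero.2 h3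
  apply smul_right_injective _ h4
  beta_reduce
  have h5 : t * i (polar (plusForm 4 F) x y) = -3 * (t / 3 * -i (polar (plusForm 4 F) x y)) := by
    field_simp
  rw [h, smul_sub, smul_sub, smul_comm (-3 : E) w, smul_comm (-3 : E) (w ^ 2), smul_smul (-3 : E), h5]

/-! ### The symmetric composition identities -/

theorem tauB_inv_inv (x : V8 F) : (tauB F)⁻¹.1 ((tauB F)⁻¹.1 x) = (tauB F).1 x := by
  apply ext8 <;> rfl

theorem dia_dia (u w : V8 F) : dia (tauB F) (dia (tauB F) u w) u = plusForm 4 F u • w := by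
  have h1 : ∀ x, (tauB F)⁻¹.1 ((tauB F).1 x) = x := fun x => (tauB F).1.symm_apply_apply x
  have h := (tri_tauB (F := F)).inv
  have e : dia (tauB F) (dia (tauB F) u w) u =
      omul (omul w ((tauB F).1 u)) (oconj ((tauB F).1 u)) := by
    rw [dia, dia, oconj_omul, h, ← aut_oconj h, oconj_oconj, tauB_inv_inv, aut_oconj tri_tauB, aut_oconj tri_tauB,
      oconj_oconj, h1]
  rw [e, omul_omul_oconj]
  congr 1
  have := isSS_tbP.form u
  rw [one_mul] at this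
  exact this

theorem dia_dia' (u w : V8 F) : dia (tauB F) u (dia (tauB F) w u) = plusForm 4 F u • w := by
  have h0 : ∀ x : V8 F, (tauB F).1 ((tauB F).1 x) = (tauB F)⁻¹.1 x := fun x => by apply ext8 <;> rfl
  have h1 : ∀ x, (tauB F).1 ((tauB F)⁻¹.1 x) = x := fun x => (tauB F).1.apply_symm_apply x
  have h := tri_tauB (F := F)
  have e : dia (tauB F) u (dia (tauB F) w u) =
      omul (oconj ((tauB F)⁻¹.1 u)) (omul ((tauB F)⁻¹.1 u) w) := by
    rw [dia, dia, oconj_omul, h, ← aut_oconj h, oconj_oconj, h0, aut_oconj h.inv, aut_oconj h.inv,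
      oconj_oconj, h1]
  rw [e, oconj_omul_omul]
  congr 1
  have := isSS_tbP.form ((tauB F)⁻¹.1 u)
  rw [one_mul] at this
  have h2 : plusForm 4 F ((tauB F).1 ((tauB F)⁻¹.1 u)) = plusForm 4 F ((tauB F)⁻¹.1 u) := this
  rw [h1] at h2
  exact h2.symm

theorem norm_of_dia {v : V8 F} (hv : dia (tauB F) v v = 0) : plusForm 4 F v = 0 := by
  have h := dia_dia v v
  rw [hv] at h
  have h2 : dia (tauB F) (0 : V8 F) v = 0 := by apply ext8 <;> simp [dia_l0, dia_l1, dia_l2, dia_l3, dia_r0, dia_r1, dia_r2, dia_r3]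
  rw [h2] at h
  rcases smul_eq_zero.1 h.symm with h3 | h3
  · exact h3
  · rw [h3, QuadraticMap.map_zero]

/-! ### Root elements -/

theorem Phi_sq (i : F →+* E) {w : E} (hw : w ^ 2 + w + 1 = 0) (h3 : (3 : E) ≠ 0) {v : V8 F}
    (hv : dia (tauB F) v v = 0) : Phi i w v * Phi i w v = 0 := by
  have h := Phi_dia i hw h3 v v
  have h1 : polar (plusForm 4 F) v v = 0 := polar_self_of_sing (norm_of_dia hv)
  rw [trace_Phi_mul i hw h3, h1, map_zero, neg_zero, mul_zero, zero_smul, sub_zero, hv, Phi_zero, ← sub_smul] at h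
  exact (smul_eq_zero.1 h.symm).resolve_left (theta_ne hw h3)

/-- `V Z V = tr(V Z) V`. -/
theorem Phi_mul_mul (i : F →+* E) {w : E} (hw : w ^ 2 + w + 1 = 0) (h3 : (3 : E) ≠ 0) {v : V8 F}
    (hv : dia (tauB F) v v = 0) (z : V8 F) :
    Phi i w v * Phi i w z * Phi i w v = -i (polar (plusForm 4 F) v z) • Phi i w v := by
  have hsq := Phi_sq i hw h3 hv
  have h := Phi_dia i hw h3 (dia (tauB F) v z) v
  rw [dia_dia, norm_of_dia hv, zero_smul, Phi_zero, Phi_dia i hw h3 v z, trace_Phi_mul i hw h3] at h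
  have h2 := theta_sq hw
  set V := Phi i w v with hV
  set Z := Phi i w z with hZ
  set b := i (polar (plusForm 4 F) v z) with hb
  set t := w - w ^ 2 with ht
  have e1 : (w • (V * Z) - w ^ 2 • (Z * V) - (t / 3 * -b) • (1 : Matrix (Fin 3) (Fin 3) E)) * V =
      w • (V * Z * V) + (t / 3 * b) • V := by
    rw [sub_mul, sub_mul, smul_mul_assoc, smul_mul_assoc, smul_mul_assoc, one_mul, mul_assoc Z, hsq, mul_zero, smul_zero,
      sub_zero, mul_neg, neg_smul, sub_neg_eq_add]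
  have e2 : V * (w • (V * Z) - w ^ 2 • (Z * V) - (t / 3 * -b) • (1 : Matrix (Fin 3) (Fin 3) E)) =
      -(w ^ 2 • (V * Z * V)) + (t / 3 * b) • V := by
    rw [mul_sub, mul_sub, mul_smul_comm, mul_smul_comm, mul_smul_comm, mul_one, ← mul_assoc V V, hsq, zero_mul, smul_zero,
      zero_sub, mul_neg, neg_smul, sub_neg_eq_add, mul_assoc V Z V]
  have e3 : trace (V * Z * V) = 0 := by
    rw [trace_mul_comm, ← mul_assoc, hsq, zero_mul, trace_zero]
  have e4 : trace V = 0 := trace_Phi i hw v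
  rw [e1, e2, trace_add, trace_smul, trace_smul, e3, e4, smul_zero, smul_zero, add_zero, mul_zero, zero_smul, sub_zero] at h
  have e5 : w • (w • (V * Z * V) + (t / 3 * b) • V) - w ^ 2 • (-(w ^ 2 • (V * Z * V)) + (t / 3 * b) • V) =
      (w ^ 2 + w ^ 4) • (V * Z * V) + (t ^ 2 / 3 * b) • V := by
    rw [ht]
    module
  have e6 : w ^ 2 + w ^ 4 = -1 := by linear_combination (w ^ 2 - w + 1) * hw
  have e7 : (-3 : E) / 3 * b = -b := by field_simp
  rw [e5, e6, h2, e7, neg_one_smul] at h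
  have e8 : V * Z * V = -b • V := by
    rw [← sub_eq_zero, ← neg_eq_zero]
    rw [h]
    abel
  exact e8

theorem Phi_rt (i : F →+* E) {w : E} (hw : w ^ 2 + w + 1 = 0) (h3 : (3 : E) ≠ 0) {v : V8 F}
    (hv : dia (tauB F) v v = 0) (z : V8 F) :
    Phi i w (rtF v z) = (1 + Phi i w v) * Phi i w z * (1 - Phi i w v) := by
  have h1 := Phi_mul_mul i hw h3 hv z
  rw [rtF, Phi_add, Phi_add, Phi_sub, Phi_smul, Phi_dia i hw h3, Phi_dia i hw h3, trace_mul_comm (Phi i w z)]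
  set V := Phi i w v with hV
  set Z := Phi i w z with hZ
  set b := i (polar (plusForm 4 F) v z) with hb
  have e1 : (1 + V) * Z * (1 - V) = Z + V * Z - Z * V - V * Z * V := by noncomm_ring
  rw [e1, h1]
  have e6 : w + w ^ 2 = -1 := by linear_combination hw
  have e2 : w • (Z * V) - w ^ 2 • (V * Z) - ((w - w ^ 2) / 3 * trace (V * Z)) • (1 : Matrix (Fin 3) (Fin 3) E) -
      (w • (V * Z) - w ^ 2 • (Z * V) - ((w - w ^ 2) / 3 * trace (V * Z)) • (1 : Matrix (Fin 3) (Fin 3) E)) =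
      (w + w ^ 2) • (Z * V) - (w + w ^ 2) • (V * Z) := by module
  rw [e2, e6]
  module

end Cfsg.Agent.H198.TriPhi
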